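import Mathlib

/-!
# Bit-parallel permutation networks

A `Net` is a list of "delta swaps".  It denotes a permutation of `ℕ`; applying it to a natural
number seen as a bit vector (`Net.pull`) costs six big-number operations per stage, which the
kernel runs fast.  All programs here are written with raw recursors for kernel evaluation.
-/

set_option autoImplicit false

namespace H29

/-- A list of stages `(d, m)`: the stage swaps the positions `i` and `i + d` for each bit `i` of `m`. -/
inductive Net : Type
  | nil : Net
  | cons (d m : ℕ) (rest : Net) : Net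

/-- One delta swap on a bit vector. -/
def dswap (d m x : ℕ) : ℕ :=
  let t := Nat.land (Nat.xor (Nat.shiftRight x d) x) m
  Nat.xor (Nat.xor x t) (Nat.shiftLeft t d)

/-- Apply all the stages to a bit vector. -/
noncomputable def Net.pull (n : Net) : ℕ → ℕ :=
  Net.rec (motive := fun _ => ℕ → ℕ) (fun x => x) (fun d m _ ih x => ih (dswap d m x)) n

@[simp] theorem Net.pull_nil (x : ℕ) : Net.nil.pull x = x := rfl
@[simp] theorem Net.pull_cons (d m : ℕ) (r : Net) (x : ℕ) :
    (Net.cons d m r).pull x = r.pull (dswap d m x) := rfl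

theorem land_eq (a b : ℕ) : Nat.land a b = a &&& b := rfl
theorem lor_eq (a b : ℕ) : Nat.lor a b = a ||| b := rfl
theorem xor_eq (a b : ℕ) : Nat.xor a b = a ^^^ b := rfl
theorem shl_eq (a b : ℕ) : Nat.shiftLeft a b = a <<< b := rfl
theorem shr_eq (a b : ℕ) : Nat.shiftRight a b = a >>> b := rfl

theorem beq_true {a b : ℕ} : Nat.beq a b = true ↔ a = b := Nat.beq_eq ▸ Iff.rfl
theorem ble_true {a b : ℕ} : Nat.ble a b = true ↔ a ≤ b := Nat.ble_eq ▸ Iff.rfl

/-- The map on positions of one stage. -/
def swapFun (d m i : ℕ) : ℕ :=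
  if m.testBit i then i + d else if d ≤ i ∧ m.testBit (i - d) then i - d else i

theorem disj_of_land {d m : ℕ} (h : m &&& (m <<< d) = 0) (i : ℕ) (h1 : m.testBit i = true) :
    m.testBit (i + d) = false := by
  have := congrArg (fun x => Nat.testBit x (i + d)) h
  simp only [Nat.testBit_and, Nat.testBit_shiftLeft, Nat.zero_testBit] at this
  simpa [h1] using this

theorem swapFun_invol {d m : ℕ} (h : m &&& (m <<< d) = 0) : Function.Involutive (swapFun d m) := by
  intro i
  have hd := disj_of_land h
  by_cases h1 : m.testBit i = true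
  · have h2 := hd i h1
    simp [swapFun, h1, h2]
  · by_cases h2 : d ≤ i ∧ m.testBit (i - d) = true
    · have : i - d + d = i := Nat.sub_add_cancel h2.1
      simp [swapFun, h1, h2, this]
    · have e : swapFun d m i = i := by simp only [swapFun, h1, h2]; simp
      rw [e, e]

theorem testBit_dswap {d m : ℕ} (h : m &&& (m <<< d) = 0) (x i : ℕ) :
    (dswap d m x).testBit i = x.testBit (swapFun d m i) := by
  have hd := disj_of_land h
  simp only [dswap, land_eq, xor_eq, shl_eq, shr_eq, Nat.testBit_xor, Nat.testBit_and,
    Nat.testBit_shiftLeft, Nat.testBit_shiftRight]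
  by_cases h1 : m.testBit i = true
  · have e : swapFun d m i = d + i := by simp [swapFun, h1, Nat.add_comm]
    rw [e]
    by_cases h2 : d ≤ i
    · have h3 : m.testBit (i - d) = false := by
        by_contra h3
        have := hd (i - d) (by simpa using h3)
        rw [Nat.sub_add_cancel h2, h1] at this
        exact absurd this (by simp)
      cases x.testBit i <;> cases x.testBit (d + i) <;> simp [h1, h3]
    · cases x.testBit i <;> cases x.testBit (d + i) <;> simp [h1, h2]
  · by_cases h2 : d ≤ i ∧ m.testBit (i - d) = true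
    · have e : swapFun d m i = i - d := by simp only [swapFun, h1, h2]; simp
      have e2 : d + (i - d) = i := by omega
      rw [e, e2]
      simp [h1, h2.1, h2.2]
    · have e : swapFun d m i = i := by simp only [swapFun, h1, h2]; simp
      rw [e]
      by_cases h3 : d ≤ i
      · have h4 : m.testBit (i - d) = false := by
          by_contra h4
          exact h2 ⟨h3, by simpa using h4⟩
        simp [h1, h4]
      · simp [h1, h3]

/-- The permutation of one stage (the identity if the stage is ill formed). -/
noncomputable def stagePerm (d m : ℕ) : Equiv.Perm ℕ :=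
  if h : m &&& (m <<< d) = 0 then (swapFun_invol h).toPerm else 1

theorem stagePerm_apply {d m : ℕ} (h : m &&& (m <<< d) = 0) (i : ℕ) :
    stagePerm d m i = swapFun d m i := by
  simp [stagePerm, h]

theorem stagePerm_mul_self (d m : ℕ) : stagePerm d m * stagePerm d m = 1 := by
  by_cases h : m &&& (m <<< d) = 0
  · ext i
    simp [stagePerm_apply h, swapFun_invol h i]
  · simp [stagePerm, h]

/-- The permutation denoted by a network. -/
noncomputable def Net.perm : Net → Equiv.Perm ℕ
  | .nil => 1
  | .cons d m r => stagePerm d m * r.perm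

/-- All stages are well formed and move only positions below `K`. -/
noncomputable def Net.valid (K : ℕ) (n : Net) : Bool :=
  Net.rec (motive := fun _ => Bool) true (fun d m _ ih =>
    Bool.rec false (Bool.rec false ih (Nat.beq (Nat.shiftRight (Nat.shiftLeft m d) K) 0))
      (Nat.beq (Nat.land m (Nat.shiftLeft m d)) 0)) n

theorem Net.valid_cons {K d m : ℕ} {r : Net} :
    (Net.cons d m r).valid K = true ↔
      m &&& (m <<< d) = 0 ∧ (m <<< d) >>> K = 0 ∧ r.valid K = true := by
  have e : (Net.cons d m r).valid K = Bool.rec false (Bool.rec false (r.valid K)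
      (Nat.beq (Nat.shiftRight (Nat.shiftLeft m d) K) 0))
      (Nat.beq (Nat.land m (Nat.shiftLeft m d)) 0) := rfl
  rw [e, ← land_eq, ← shr_eq, ← shl_eq, ← beq_true, ← beq_true]
  cases Nat.beq (Nat.land m (Nat.shiftLeft m d)) 0 <;>
    cases Nat.beq (Nat.shiftRight (Nat.shiftLeft m d) K) 0 <;> simp

theorem Net.testBit_pull {K : ℕ} : ∀ {n : Net}, n.valid K = true → ∀ x i : ℕ,
    (n.pull x).testBit i = x.testBit (n.perm i)
  | .nil, _, x, i => by simp [Net.perm]
  | .cons d m r, h, x, i => by
    obtain ⟨h1, -, h3⟩ := Net.valid_cons.1 h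
    rw [Net.pull_cons, Net.testBit_pull h3, testBit_dswap h1]
    simp [Net.perm, stagePerm_apply h1]

theorem swapFun_fix {K d m : ℕ} (h : (m <<< d) >>> K = 0) {i : ℕ} (hi : K ≤ i) :
    swapFun d m i = i := by
  have key : ∀ j, K ≤ j + d → m.testBit j = false := by
    intro j hj
    have := congrArg (fun x => Nat.testBit x (j + d - K)) h
    simp only [Nat.testBit_shiftRight, Nat.testBit_shiftLeft, Nat.zero_testBit] at this
    rw [show K + (j + d - K) = j + d by omega] at this
    simpa using this
  have h1 := key i (by omega)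
  by_cases h2 : d ≤ i
  · have h3 := key (i - d) (by omega)
    simp [swapFun, h1, h3]
  · simp [swapFun, h1, h2]

theorem Net.perm_fix {K : ℕ} : ∀ {n : Net}, n.valid K = true → ∀ {i : ℕ}, K ≤ i → n.perm i = i
  | .nil, _, i, _ => by simp [Net.perm]
  | .cons d m r, h, i, hi => by
    obtain ⟨h1, h2, h3⟩ := Net.valid_cons.1 h
    simp [Net.perm, Net.perm_fix h3 hi, stagePerm_apply h1, swapFun_fix h2 hi]

theorem lt_of_fix {K : ℕ} {p : Equiv.Perm ℕ} (h : ∀ i, K ≤ i → p i = i) {i : ℕ} (hi : i < K) :
    p i < K := by
  by_contra h1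
  have h2 := h (p i) (by omega)
  have := p.injective h2
  omega

/-- Reverse `n` in front of `acc`. -/
noncomputable def Net.revAux (n : Net) : Net → Net :=
  Net.rec (motive := fun _ => Net → Net) (fun acc => acc)
    (fun d m _ ih acc => ih (Net.cons d m acc)) n

/-- The reversed network, which denotes the inverse permutation. -/
noncomputable def Net.rev (n : Net) : Net := n.revAux .nil

theorem Net.revAux_perm : ∀ (n acc : Net), (n.revAux acc).perm = n.perm⁻¹ * acc.perm
  | .nil, acc => by simp [Net.perm, show Net.nil.revAux acc = acc from rfl]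
  | .cons d m r, acc => by
    rw [show (Net.cons d m r).revAux acc = r.revAux (.cons d m acc) from rfl, Net.revAux_perm]
    have := stagePerm_mul_self d m
    simp only [Net.perm, mul_inv_rev, mul_assoc]
    rw [eq_inv_of_mul_eq_one_left this]
    simp [← eq_inv_of_mul_eq_one_left this]

theorem Net.rev_perm (n : Net) : n.rev.perm = n.perm⁻¹ := by
  simp [Net.rev, Net.revAux_perm, Net.perm]

theorem Net.revAux_valid {K : ℕ} : ∀ {n acc : Net}, n.valid K = true → acc.valid K = true →
    (n.revAux acc).valid K = true
  | .nil, _, _, h => h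
  | .cons d m r, acc, h, h' => by
    obtain ⟨h1, h2, h3⟩ := Net.valid_cons.1 h
    exact Net.revAux_valid (n := r) (acc := .cons d m acc) h3 (Net.valid_cons.2 ⟨h1, h2, h'⟩)

theorem Net.rev_valid {K : ℕ} {n : Net} (h : n.valid K = true) : n.rev.valid K = true :=
  Net.revAux_valid h rfl

/-! ### Index planes -/

/-- `2 ^ n - 1`. -/
def ones (n : ℕ) : ℕ := Nat.sub (Nat.shiftLeft 1 n) 1

theorem testBit_ones (n i : ℕ) : (ones n).testBit i = decide (i < n) := by
  have : ones n = 2 ^ n - 1 := by simp [ones, Nat.shiftLeft_eq]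
  rw [this, Nat.testBit_two_pow_sub_one]

/-- The bit vector whose bit `i` (for `i < 2 ^ k`) is bit `j` of `i`. -/
noncomputable def idp (k j : ℕ) : ℕ :=
  Nat.rec (motive := fun _ => ℕ) 0 (fun k ih =>
    Bool.rec (Nat.lor ih (Nat.shiftLeft ih (Nat.shiftLeft 1 k)))
      (Nat.shiftLeft (ones (Nat.shiftLeft 1 k)) (Nat.shiftLeft 1 k)) (Nat.beq j k)) k

theorem idp_succ (k j : ℕ) : idp (k + 1) j =
    if j = k then ones (2 ^ k) <<< (2 ^ k) else idp k j ||| (idp k j <<< (2 ^ k)) := by
  have e : idp (k + 1) j = Bool.rec (Nat.lor (idp k j) (Nat.shiftLeft (idp k j) (Nat.shiftLeft 1 k)))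
      (Nat.shiftLeft (ones (Nat.shiftLeft 1 k)) (Nat.shiftLeft 1 k)) (Nat.beq j k) := rfl
  have e2 : Nat.shiftLeft 1 k = 2 ^ k := by simp [Nat.shiftLeft_eq]
  rw [e, e2]
  by_cases h : j = k
  · rw [if_pos h, beq_true.2 h]; rfl
  · rw [if_neg h]
    have : Nat.beq j k = false := by
      rw [← Bool.not_eq_true, beq_true]; exact h
    rw [this]; rfl

theorem testBit_idp : ∀ (k j i : ℕ), (idp k j).testBit i = (decide (i < 2 ^ k) && i.testBit j)
  | 0, j, i => by
    have : idp 0 j = 0 := rfl
    rw [this]
    by_cases h : i = 0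
    · simp [h]
    · have : ¬ i < 1 := by omega
      simp [this]
  | k + 1, j, i => by
    rw [idp_succ]
    have hp : 2 ^ (k + 1) = 2 ^ k + 2 ^ k := by ring
    by_cases h : j = k
    · rw [if_pos h, Nat.testBit_shiftLeft, testBit_ones, h]
      by_cases h1 : i < 2 ^ k
      · have : i.testBit k = false := Nat.testBit_lt_two_pow h1
        simp [this]; omega
      · by_cases h2 : i < 2 ^ (k + 1)
        · have : i.testBit k = true := Nat.testBit_of_two_pow_le_and_two_pow_add_one_gt (by omega) h2
          simp [this, h2]; omega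
        · simp [h2]; omega
    · rw [if_neg h, Nat.testBit_or, Nat.testBit_shiftLeft, testBit_idp k j i, testBit_idp k j]
      by_cases h1 : i < 2 ^ k
      · have h2 : i < 2 ^ (k + 1) := by omega
        have h3 : ¬ (i ≥ 2 ^ k) := by omega
        simp [h1, h2, h3]
      · by_cases h2 : i < 2 ^ (k + 1)
        · have h3 : i ≥ 2 ^ k := by omega
          have h4 : i - 2 ^ k < 2 ^ k := by omega
          have h5 : (i - 2 ^ k).testBit j = i.testBit j := by
            obtain ⟨a, rfl⟩ : ∃ a, i = 2 ^ k + a := ⟨i - 2 ^ k, by omega⟩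
            rw [Nat.add_sub_cancel_left] at h4 ⊢
            rcases Nat.lt_or_gt_of_ne h with h6 | h6
            · rw [Nat.testBit_two_pow_add_gt h6]
            · rw [Nat.testBit_lt_two_pow (lt_of_lt_of_le h4 (Nat.pow_le_pow_right (by norm_num) h6.le)),
                Nat.testBit_lt_two_pow (lt_of_lt_of_le h2 (Nat.pow_le_pow_right (by norm_num) h6))]
          simp [h1, h2, h3, h4, h5]
        · have h4 : ¬ (i - 2 ^ k < 2 ^ k) := by omega
          simp [h1, h2, h4]

/-- The pattern of the positions below `2 ^ k` whose bit `j` is zero. -/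
noncomputable def lowPat (k j : ℕ) : ℕ := Nat.xor (ones (Nat.shiftLeft 1 k)) (idp k j)

/-- A Beneš network from `k` packed masks: entry number `j` holds the masks of the two stages at
distance `2 ^ j` (the last entry: of the middle stage).  Nothing is proved about this builder:
validity is checked by `Net.valid`. -/
noncomputable def benAux (k : ℕ) (l : List ℕ) : ℕ → Net → Net :=
  List.rec (motive := fun _ => ℕ → Net → Net) (fun _ tail => tail) (fun mm rest ih j tail =>
    Nat.rec (motive := fun _ => Net) Net.nil (fun d _ =>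
      List.rec (motive := fun _ => Net) (Net.cons d mm tail) (fun _ _ _ =>
        Net.cons d (Nat.land mm (lowPat k j))
          (Nat.rec (motive := fun _ => Net) Net.nil (fun j' _ => ih j'
            (Net.cons d (Nat.land (Nat.shiftRight mm d) (lowPat k j)) tail)) (Nat.add j 2))) rest)
      (Nat.succ (Nat.shiftLeft 1 j))) l

/-- See `benAux`. -/
noncomputable def ben (k : ℕ) (l : List ℕ) : Net := benAux k l 0 .nil

/-- Join two chunks of a big number: `a` holds the low `w` bits. -/
def jn (w a b : ℕ) : ℕ := Nat.lor a (Nat.shiftLeft b w)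

end H29
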