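import Mathlib
import Cfsg.Agent.H29.Net

/-!
# Words, bit planes and the bulk check of relators
-/

set_option autoImplicit false

namespace H29

/-! ### Forcing evaluation order in the kernel -/

/-- Evaluate `x` first, then continue with `k x`. -/
noncomputable def seqN {α : Type} (x : ℕ) (k : ℕ → α) : α :=
  Bool.rec (motive := fun _ => α) (k x) (k x) (Nat.ble x 0)

@[simp] theorem seqN_eq {α : Type} (x : ℕ) (k : ℕ → α) : seqN x k = k x := by
  unfold seqN; cases Nat.ble x 0 <;> rfl

/-- Evaluate `x` to a numeral (use for small numbers only), then continue with `k x`. -/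
noncomputable def lit {α : Type} (x : ℕ) (k : ℕ → α) : α :=
  Nat.rec (motive := fun _ => α) (k 0) (fun m _ => k m) (Nat.succ x)

@[simp] theorem lit_eq {α : Type} (x : ℕ) (k : ℕ → α) : lit x k = k x := rfl

/-- Evaluate all members of `P` first, then continue with `k P`. -/
noncomputable def seqL {α : Type} (P : List ℕ) (k : List ℕ → α) : α :=
  List.rec (motive := fun _ => α) (k P)
    (fun a _ ih => Bool.rec (motive := fun _ => α) ih ih (Nat.ble a 0)) P

@[simp] theorem seqL_eq {α : Type} (P : List ℕ) (k : List ℕ → α) : seqL P k = k P := by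
  unfold seqL
  generalize k P = r
  induction P with
  | nil => rfl
  | cons a t ih =>
    change Bool.rec (motive := fun _ => α) _ _ (Nat.ble a 0) = r
    cases Nat.ble a 0 <;> exact ih

/-- Short-circuit conjunction. -/
noncomputable def and2 (a b : Bool) : Bool := Bool.rec false b a

@[simp] theorem and2_true {a b : Bool} : and2 a b = true ↔ a = true ∧ b = true := by
  cases a <;> cases b <;> simp [and2]

/-- All members of a list pass a test. -/
noncomputable def allL {α : Type} (l : List α) (f : α → Bool) : Bool :=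
  List.rec (motive := fun _ => Bool) true (fun a _ ih => and2 (f a) ih) l

theorem allL_true {α : Type} {l : List α} {f : α → Bool} :
    allL l f = true ↔ ∀ a ∈ l, f a = true := by
  induction l with
  | nil => simp [allL]
  | cons a t ih =>
    have : allL (a :: t) f = and2 (f a) (allL t f) := rfl
    rw [this, and2_true, ih]; simp

/-- All numbers below `n` pass a test. -/
noncomputable def allN (n : ℕ) (f : ℕ → Bool) : Bool :=
  Nat.rec (motive := fun _ => Bool) true (fun m ih => and2 (f m) ih) n

theorem allN_true {n : ℕ} {f : ℕ → Bool} : allN n f = true ↔ ∀ a < n, f a = true := by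
  induction n with
  | zero => simp [allN]
  | succ m ih =>
    have : allN (m + 1) f = and2 (f m) (allN m f) := rfl
    rw [this, and2_true, ih]
    constructor
    · rintro ⟨h1, h2⟩ a ha
      rcases Nat.lt_succ_iff_lt_or_eq.1 ha with h | rfl
      · exact h2 a h
      · exact h1
    · exact fun h => ⟨h m (by omega), fun a ha => h a (by omega)⟩

theorem lt_step {p : ℕ → Prop} {n : ℕ} (h : ∀ j < n, p j) (h' : p n) : ∀ j < n + 1, p j :=
  fun j hj => (Nat.lt_succ_iff_lt_or_eq.1 hj).elim (h j) fun e => e ▸ h'

theorem lt_base {p : ℕ → Prop} : ∀ j < 0, p j := fun _ h => absurd h (Nat.not_lt_zero _)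

/-- Table lookup with a default. -/
noncomputable def nth {α : Type} (d : α) (l : List α) : ℕ → α :=
  List.rec (motive := fun _ => ℕ → α) (fun _ => d)
    (fun a _ ih n => Nat.rec (motive := fun _ => α) a (fun m _ => ih m) n) l

theorem nth_eq {α : Type} (d : α) : ∀ (l : List α) (n : ℕ), nth d l n = l.getD n d
  | [], _ => rfl
  | _ :: _, 0 => rfl
  | _ :: t, n + 1 => nth_eq d t n

theorem nth_forall {α : Type} {d : α} {l : List α} {p : α → Prop} (hd : p d)
    (h : ∀ a ∈ l, p a) (n : ℕ) : p (nth d l n) := by
  rw [nth_eq, List.getD_eq_getElem?_getD]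
  cases h1 : l[n]? with
  | none => exact hd
  | some a => exact h a (List.mem_of_getElem? h1)

/-- The inverse-letter map given by a table; letters outside the table are their own inverses. -/
noncomputable def ivOf (l : List ℕ) (c : ℕ) : ℕ := nth c l c

/-- Is `a` a subset of `b`, as bit sets? -/
def sub (a b : ℕ) : Bool := Nat.beq (Nat.land a b) a

theorem sub_true {a b : ℕ} (h : sub a b = true) {i : ℕ} (hi : a.testBit i = true) :
    b.testBit i = true := by
  have := congrArg (fun x => Nat.testBit x i) (beq_true.1 h)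
  simpa [land_eq, hi] using this

/-- Are the bit sets `a` and `b` disjoint? -/
def disj (a b : ℕ) : Bool := Nat.beq (Nat.land a b) 0

theorem disj_true {a b : ℕ} (h : disj a b = true) {i : ℕ} (hi : a.testBit i = true) :
    b.testBit i = false := by
  have := congrArg (fun x => Nat.testBit x i) (beq_true.1 h)
  simpa [land_eq, hi] using this

/-! ### Words -/

/-- The value of a word. -/
def ev {G : Type*} [Group G] (e : ℕ → G) (w : List ℕ) : G := (w.map e).prod

@[simp] theorem ev_nil {G : Type*} [Group G] (e : ℕ → G) : ev e [] = 1 := rfl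
@[simp] theorem ev_cons {G : Type*} [Group G] (e : ℕ → G) (y : ℕ) (w : List ℕ) :
    ev e (y :: w) = e y * ev e w := by simp [ev]
@[simp] theorem ev_append {G : Type*} [Group G] (e : ℕ → G) (u w : List ℕ) :
    ev e (u ++ w) = ev e u * ev e w := by simp [ev]

theorem map_ev {G H : Type*} [Group G] [Group H] (f : G →* H) (e : ℕ → G) (w : List ℕ) :
    f (ev e w) = ev (fun c => f (e c)) w := by
  induction w with
  | nil => simp
  | cons y t ih => simp [ih]

theorem ev_mem {G : Type*} [Group G] {e : ℕ → G} {H : Subgroup G} {w : List ℕ}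
    (h : ∀ c ∈ w, e c ∈ H) : ev e w ∈ H := by
  induction w with
  | nil => simp
  | cons y t ih =>
    rw [ev_cons]
    exact H.mul_mem (h y (by simp)) (ih fun c hc => h c (by simp [hc]))

theorem ev_congr {G : Type*} [Group G] {e e' : ℕ → G} {w : List ℕ} (h : ∀ c ∈ w, e c = e' c) :
    ev e w = ev e' w := by
  induction w with
  | nil => simp
  | cons y t ih => rw [ev_cons, ev_cons, h y (by simp), ih fun c hc => h c (by simp [hc])]

/-- The formal inverse of a word, put in front of `acc`. -/
noncomputable def invAux (iv : ℕ → ℕ) (w : List ℕ) : List ℕ → List ℕ :=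
  List.rec (motive := fun _ => List ℕ → List ℕ) (fun acc => acc)
    (fun y _ ih acc => ih (iv y :: acc)) w

/-- The formal inverse of a word. -/
noncomputable def invW (iv : ℕ → ℕ) (w : List ℕ) : List ℕ := invAux iv w []

theorem invAux_eq (iv : ℕ → ℕ) : ∀ (w acc : List ℕ), invAux iv w acc = (w.map iv).reverse ++ acc
  | [], _ => rfl
  | y :: t, acc => by
    rw [show invAux iv (y :: t) acc = invAux iv t (iv y :: acc) from rfl, invAux_eq]; simp

theorem invW_eq (iv : ℕ → ℕ) (w : List ℕ) : invW iv w = (w.map iv).reverse := by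
  simp [invW, invAux_eq]

/-- `iv` inverts the letters. -/
def IvOK {G : Type*} [Group G] (e : ℕ → G) (iv : ℕ → ℕ) : Prop := ∀ c, e (iv c) = (e c)⁻¹

theorem ev_invW {G : Type*} [Group G] {e : ℕ → G} {iv : ℕ → ℕ} (h : IvOK e iv) (w : List ℕ) :
    ev e (invW iv w) = (ev e w)⁻¹ := by
  rw [invW_eq]
  induction w with
  | nil => simp
  | cons y t ih => simp [ih, h y]

/-- The permutations denoted by a family of networks. -/
noncomputable def sg (nets : ℕ → Net) (c : ℕ) : Equiv.Perm ℕ := (nets c).perm

/-- All networks are valid below `K`. -/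
def NetsOK (K : ℕ) (nets : ℕ → Net) : Prop := ∀ c, (nets c).valid K = true

theorem netsOK_nth {K : ℕ} {l : List Net} (h : ∀ n ∈ l, n.valid K = true) :
    NetsOK K (nth Net.nil l) :=
  fun c => nth_forall (p := fun n : Net => n.valid K = true) rfl h c

theorem netsOK_of_all {K : ℕ} {l : List Net} (h : allL l (Net.valid K) = true) :
    NetsOK K (nth Net.nil l) := netsOK_nth (allL_true.1 h)

theorem ev_sg_fix {K : ℕ} {nets : ℕ → Net} (h : NetsOK K nets) (w : List ℕ) {i : ℕ}
    (hi : K ≤ i) : ev (sg nets) w i = i := by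
  induction w with
  | nil => simp
  | cons y t ih => simp [ih, sg, Net.perm_fix (h y) hi]

/-- Pull a bit vector back along a word. -/
noncomputable def pullW (nets : ℕ → Net) (w : List ℕ) : ℕ → ℕ :=
  List.rec (motive := fun _ => ℕ → ℕ) (fun x => x)
    (fun y _ ih x => seqN ((nets y).pull x) ih) w

theorem testBit_pullW {K : ℕ} {nets : ℕ → Net} (h : NetsOK K nets) :
    ∀ (w : List ℕ) (x i : ℕ), (pullW nets w x).testBit i = x.testBit (ev (sg nets) w i)
  | [], _, _ => rfl
  | y :: t, x, i => by
    rw [show pullW nets (y :: t) x = seqN ((nets y).pull x) (pullW nets t) from rfl, seqN_eq,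
      testBit_pullW h t, Net.testBit_pull (h y)]
    simp [sg]

/-- The index plane `j`, cut at `K`. -/
noncomputable def idK (K k j : ℕ) : ℕ := Nat.land (idp k j) (ones K)

theorem testBit_idK {K k : ℕ} (hK : K ≤ 2 ^ k) (j i : ℕ) :
    (idK K k j).testBit i = (decide (i < K) && i.testBit j) := by
  rw [idK, land_eq, Nat.testBit_and, testBit_idp, testBit_ones]
  by_cases h : i < K
  · have : i < 2 ^ k := by omega
    simp [h, this]
  · simp [h]

/-- The words `u` and `v` move every point below `K` to points with the same bit `j`. -/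
def PlaneEq (K : ℕ) (nets : ℕ → Net) (u v : List ℕ) (j : ℕ) : Prop :=
  ∀ i < K, (ev (sg nets) u i).testBit j = (ev (sg nets) v i).testBit j

/-- Bulk test of `PlaneEq`. -/
noncomputable def chkEq (K k : ℕ) (nets : ℕ → Net) (u v : List ℕ) (j : ℕ) : Bool :=
  Nat.beq (pullW nets u (idK K k j)) (pullW nets v (idK K k j))

theorem chkEq_sound {K k : ℕ} {nets : ℕ → Net} (h : NetsOK K nets) (hK : K ≤ 2 ^ k)
    {u v : List ℕ} {j : ℕ} (hc : chkEq K k nets u v j = true) : PlaneEq K nets u v j := by
  intro i hi
  have := congrArg (fun x => Nat.testBit x i) (beq_true.1 hc)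
  simp only [testBit_pullW h, testBit_idK hK] at this
  have h1 := lt_of_fix (fun i hi => ev_sg_fix h u hi) hi
  have h2 := lt_of_fix (fun i hi => ev_sg_fix h v hi) hi
  simpa [h1, h2] using this

theorem ev_eq_of_planeEq {K k : ℕ} {nets : ℕ → Net} (h : NetsOK K nets) (hK : K ≤ 2 ^ k)
    {u v : List ℕ} (hp : ∀ j < k, PlaneEq K nets u v j) : ev (sg nets) u = ev (sg nets) v := by
  ext i
  by_cases hi : i < K
  · have h1 := lt_of_fix (fun i hi => ev_sg_fix h u hi) hi
    have h2 := lt_of_fix (fun i hi => ev_sg_fix h v hi) hi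
    apply Nat.eq_of_testBit_eq
    intro j
    by_cases hj : j < k
    · exact hp j hj i hi
    · have : 2 ^ k ≤ 2 ^ j := Nat.pow_le_pow_right (by norm_num) (by omega)
      rw [Nat.testBit_lt_two_pow (by omega), Nat.testBit_lt_two_pow (by omega)]
  · rw [ev_sg_fix h u (by omega), ev_sg_fix h v (by omega)]

/-- Plane `j` of the test that `iv` inverts the first `n` letters. -/
noncomputable def chkIvP (K k : ℕ) (nets : ℕ → Net) (iv : ℕ → ℕ) (n j : ℕ) : Bool :=
  allN n fun c => chkEq K k nets [c, iv c] [] j

/-- Plane `j` of the test of the relators `ws`; each is cut in two halves. -/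
noncomputable def chkRelP (K k : ℕ) (nets : ℕ → Net) (iv : ℕ → ℕ) (ws : List (List ℕ)) (j : ℕ) :
    Bool :=
  allL ws fun w => lit (Nat.div (Nat.succ w.length) 2) fun h =>
    chkEq K k nets (w.take h) (invW iv (w.drop h)) j

theorem ivOK_of_chk {K k : ℕ} {l : List Net} {ivl : List ℕ} (h : NetsOK K (nth Net.nil l))
    (hK : K ≤ 2 ^ k) {n : ℕ} (h1 : l.length ≤ n) (h2 : ivl.length ≤ n)
    (hc : ∀ j < k, chkIvP K k (nth Net.nil l) (ivOf ivl) n j = true) :
    IvOK (sg (nth Net.nil l)) (ivOf ivl) := by
  intro c
  by_cases hcn : c < n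
  · have := ev_eq_of_planeEq h hK (u := [c, ivOf ivl c]) (v := [])
      fun j hj => chkEq_sound h hK (allN_true.1 (hc j hj) c hcn)
    simp only [ev_cons, ev_nil, mul_one] at this
    exact eq_inv_of_mul_eq_one_right this
  · have e1 : ivOf ivl c = c := by
      rw [ivOf, nth_eq, List.getD_eq_default _ _ (by omega)]
    have e2 : sg (nth Net.nil l) c = 1 := by
      rw [sg, nth_eq, List.getD_eq_default _ _ (by omega)]; rfl
    rw [e1, e2, inv_one]

theorem rels_of_chk {K k : ℕ} {nets : ℕ → Net} {iv : ℕ → ℕ} (h : NetsOK K nets)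
    (hK : K ≤ 2 ^ k) (hiv : IvOK (sg nets) iv) {ws : List (List ℕ)}
    (hc : ∀ j < k, chkRelP K k nets iv ws j = true) : ∀ w ∈ ws, ev (sg nets) w = 1 := by
  intro w hw
  have := ev_eq_of_planeEq h hK (u := w.take (Nat.div (Nat.succ w.length) 2))
    (v := invW iv (w.drop (Nat.div (Nat.succ w.length) 2)))
    fun j hj => chkEq_sound h hK (by simpa using allL_true.1 (hc j hj) w hw)
  rw [ev_invW hiv] at this
  rw [← List.take_append_drop (Nat.div (Nat.succ w.length) 2) w, ev_append, this, inv_mul_cancel]

/-! ### Numbers stored in bit planes -/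

/-- The number stored at position `i` of a list of bit planes (lowest bit first). -/
def val : List ℕ → ℕ → ℕ
  | [], _ => 0
  | a :: P, i => (a.testBit i).toNat + 2 * val P i

/-- Pull back all planes. -/
noncomputable def mapPull (n : Net) (P : List ℕ) : List ℕ :=
  List.rec (motive := fun _ => List ℕ) [] (fun a _ ih => n.pull a :: ih) P

theorem mapPull_length (n : Net) : ∀ P : List ℕ, (mapPull n P).length = P.length
  | [] => rfl
  | a :: P => by
    rw [show mapPull n (a :: P) = n.pull a :: mapPull n P from rfl]; simp [mapPull_length n P]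

theorem val_mapPull {K : ℕ} {n : Net} (h : n.valid K = true) :
    ∀ (P : List ℕ) (i : ℕ), val (mapPull n P) i = val P (n.perm i)
  | [], _ => rfl
  | a :: P, i => by
    rw [show mapPull n (a :: P) = n.pull a :: mapPull n P from rfl]
    simp [val, val_mapPull h P, Net.testBit_pull h]

/-- Bit-sliced comparison. -/
noncomputable def ltAux (A : List ℕ) : List ℕ → ℕ → ℕ :=
  List.rec (motive := fun _ => List ℕ → ℕ → ℕ) (fun _ acc => acc)
    (fun a _ ih B acc => List.rec (motive := fun _ => ℕ) acc
      (fun b B' _ => ih B' (Nat.xor acc (Nat.land (Nat.xor acc b) (Nat.xor a b)))) B) A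

theorem testBit_ltAux : ∀ (A B : List ℕ) (acc i : ℕ), A.length = B.length →
    (ltAux A B acc).testBit i =
      if val A i = val B i then acc.testBit i else decide (val A i < val B i)
  | [], [], acc, i, _ => by simp [val, show ltAux [] [] acc = acc from rfl]
  | [], _ :: _, _, _, h => by simp at h
  | _ :: _, [], _, _, h => by simp at h
  | a :: A, b :: B, acc, i, h => by
    rw [show ltAux (a :: A) (b :: B) acc =
      ltAux A B (Nat.xor acc (Nat.land (Nat.xor acc b) (Nat.xor a b))) from rfl,
      testBit_ltAux A B _ i (by simpa using h)]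
    have key : ∀ (x y : ℕ) (p q r : Bool),
        (if x = y then r ^^ (r ^^ q) && (p ^^ q) else decide (x < y)) =
          if p.toNat + 2 * x = q.toNat + 2 * y then r
          else decide (p.toNat + 2 * x < q.toNat + 2 * y) := by
      intro x y p q r
      by_cases hxy : x = y
      · subst hxy
        cases p <;> cases q <;> cases r <;> simp
      · rw [if_neg hxy]
        cases p <;> cases q <;> simp only [Bool.toNat_true, Bool.toNat_false] <;>
          rw [if_neg (by omega)] <;> congr 1 <;> apply propext <;> omega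
    simp only [xor_eq, land_eq, Nat.testBit_xor, Nat.testBit_and]
    exact key _ _ _ _ _

/-- The set of the positions where `A < B`. -/
noncomputable def ltP (A B : List ℕ) : ℕ := ltAux A B 0

theorem testBit_ltP {A B : List ℕ} (h : A.length = B.length) (i : ℕ) :
    (ltP A B).testBit i = decide (val A i < val B i) := by
  rw [ltP, testBit_ltAux A B 0 i h]
  split_ifs with h1
  · simp [h1]
  · rfl

/-- Select `B` on `m` and `A` elsewhere. -/
noncomputable def selP (m : ℕ) (A : List ℕ) : List ℕ → List ℕ :=
  List.rec (motive := fun _ => List ℕ → List ℕ) (fun _ => [])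
    (fun a _ ih B => List.rec (motive := fun _ => List ℕ) []
      (fun b B' _ => Nat.xor a (Nat.land (Nat.xor a b) m) :: ih B') B) A

theorem selP_spec (m : ℕ) : ∀ (A B : List ℕ), A.length = B.length →
    (selP m A B).length = A.length ∧
      ∀ i, val (selP m A B) i = if m.testBit i then val B i else val A i
  | [], [], _ => by simp [val, show selP m [] [] = [] from rfl]
  | [], _ :: _, h => by simp at h
  | _ :: _, [], h => by simp at h
  | a :: A, b :: B, h => by
    obtain ⟨h1, h2⟩ := selP_spec m A B (by simpa using h)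
    rw [show selP m (a :: A) (b :: B) = Nat.xor a (Nat.land (Nat.xor a b) m) :: selP m A B from rfl]
    refine ⟨by simp [h1], fun i => ?_⟩
    simp only [val, h2, xor_eq, land_eq, Nat.testBit_xor, Nat.testBit_and]
    cases a.testBit i <;> cases b.testBit i <;> cases m.testBit i <;> simp

/-- Pointwise maximum. -/
noncomputable def maxP (A B : List ℕ) : List ℕ := selP (ltP A B) A B

theorem maxP_spec {A B : List ℕ} (h : A.length = B.length) :
    (maxP A B).length = A.length ∧ ∀ i, val (maxP A B) i = max (val A i) (val B i) := by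
  obtain ⟨h1, h2⟩ := selP_spec (ltP A B) A B h
  refine ⟨h1, fun i => ?_⟩
  rw [maxP, h2, testBit_ltP h]
  by_cases h3 : val A i < val B i
  · simp [h3, h3.le]
  · simp [h3, not_lt.1 h3]

/-- The `W` planes of the constant `t` on the positions of `F`. -/
noncomputable def constP (F W : ℕ) : ℕ → List ℕ :=
  Nat.rec (motive := fun _ => ℕ → List ℕ) (fun _ => [])
    (fun _ ih t => Nat.mul (Nat.mod t 2) F :: ih (Nat.div t 2)) W

theorem constP_spec (F : ℕ) : ∀ (W t : ℕ), (constP F W t).length = W ∧
    ∀ i, F.testBit i = true → val (constP F W t) i = t % 2 ^ W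
  | 0, t => ⟨rfl, fun i _ => by simp [show constP F 0 t = [] from rfl, val, Nat.mod_one]⟩
  | W + 1, t => by
    obtain ⟨h1, h2⟩ := constP_spec F W (t / 2)
    rw [show constP F (W + 1) t = (t % 2 * F) :: constP F W (t / 2) from rfl]
    refine ⟨by simp [h1], fun i hi => ?_⟩
    rw [val, h2 i hi, pow_succ', Nat.mod_mul]
    rcases Nat.mod_two_eq_zero_or_one t with h | h <;> simp [h, hi]

/-- The index planes `0, …, k - 1` shifted: `idAux K k n j = [idK K k j, …]` with `n` entries. -/
noncomputable def idAux (K k n : ℕ) : ℕ → List ℕ :=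
  Nat.rec (motive := fun _ => ℕ → List ℕ) (fun _ => [])
    (fun _ ih j => idK K k j :: lit (Nat.succ j) ih) n

/-- The planes of the identity function below `K`. -/
noncomputable def idPl (K k : ℕ) : List ℕ := idAux K k k 0

theorem idAux_spec {K k : ℕ} (hK : K ≤ 2 ^ k) : ∀ (n j : ℕ), (idAux K k n j).length = n ∧
    ∀ i < K, val (idAux K k n j) i = i / 2 ^ j % 2 ^ n
  | 0, j => ⟨rfl, fun i _ => by simp [show idAux K k 0 j = [] from rfl, val, Nat.mod_one]⟩
  | n + 1, j => by
    obtain ⟨h1, h2⟩ := idAux_spec hK n (j + 1)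
    rw [show idAux K k (n + 1) j = idK K k j :: idAux K k n (j + 1) from rfl]
    refine ⟨by simp [h1], fun i hi => ?_⟩
    rw [val, h2 i hi, testBit_idK hK, pow_succ' 2 n, Nat.mod_mul, Nat.div_div_eq_div_mul,
      ← pow_succ, Nat.testBit_eq_decide_div_mod_eq]
    rcases Nat.mod_two_eq_zero_or_one (i / 2 ^ j) with h | h <;> simp [h, hi]

theorem val_idPl {K k : ℕ} (hK : K ≤ 2 ^ k) {i : ℕ} (hi : i < K) : val (idPl K k) i = i := by
  rw [idPl, (idAux_spec hK k 0).2 i hi]
  simp [Nat.mod_eq_of_lt (lt_of_lt_of_le hi hK)]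

/-- Number of set bits among the low `2 ^ k` bits. -/
noncomputable def popc (k : ℕ) : ℕ → ℕ :=
  Nat.rec (motive := fun _ => ℕ → ℕ) (fun x => Nat.mod x 2) (fun k ih x =>
    Bool.rec (motive := fun _ => ℕ)
      (lit (Nat.land x (ones (Nat.shiftLeft 1 k))) fun a =>
        lit (Nat.shiftRight x (Nat.shiftLeft 1 k)) fun b => Nat.add (ih a) (ih b))
      0 (Nat.beq x 0)) k

theorem popc_eq : ∀ (k x : ℕ),
    popc k x = ((Finset.range (2 ^ k)).filter fun i => x.testBit i = true).card
  | 0, x => by
    rw [show popc 0 x = x % 2 from rfl]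
    rcases Nat.mod_two_eq_zero_or_one x with h | h <;>
      simp [h, Finset.filter_singleton, Nat.testBit_zero]
  | k + 1, x => by
    have e2 : Nat.shiftLeft 1 k = 2 ^ k := by simp [Nat.shiftLeft_eq]
    have e : popc (k + 1) x = Bool.rec (motive := fun _ => ℕ)
        (popc k (x &&& ones (Nat.shiftLeft 1 k)) + popc k (x >>> (Nat.shiftLeft 1 k))) 0
        (Nat.beq x 0) := rfl
    rw [e, e2]
    by_cases hx : x = 0
    · subst hx; simp
    · have : Nat.beq x 0 = false := by rw [← Bool.not_eq_true, beq_true]; exact hx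
      rw [this]
      change popc k _ + popc k _ = _
      rw [popc_eq k, popc_eq k, pow_succ, mul_two, Finset.range_add_eq_union, Finset.filter_union,
        Finset.card_union_of_disjoint, Finset.filter_map, Finset.card_map]
      · congr 1
        · congr 1
          apply Finset.filter_congr
          intro i hi
          simp [testBit_ones, Finset.mem_range.1 hi]
        · congr 1
          apply Finset.filter_congr
          intro i _
          simp [Nat.testBit_shiftRight]
      · apply Finset.disjoint_filter_filter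
        simp [Finset.disjoint_left]
        omega

end H29
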