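import Mathlib
import Cfsg.Agent.H29.Planes

/-!
# Certificates of coset enumeration

A complete coset table is given by networks `nets c` (one per column `c ∈ cols`) on the points
below `N`.  Each edge `(i, c)` has a time `val (τ c) i`.  An edge is justified by a definition
(`D c`), by a subgroup generator at the base point `0`, or by a relator cycle all of whose other
edges are earlier.  The checks are bit parallel.
-/

set_option autoImplicit false

namespace H29

/-- The data of a coset table certificate. -/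
structure TCData where
  /-- number of cosets -/
  N : ℕ
  /-- number of positions of the networks -/
  K : ℕ
  /-- number of index planes -/
  k : ℕ
  /-- number of time planes -/
  W : ℕ
  nets : ℕ → Net
  iv : ℕ → ℕ
  cols : List ℕ
  hcols : List ℕ
  /-- relators -/
  R : List (List ℕ)
  τ : ℕ → List ℕ
  D : ℕ → ℕ

/-- Membership test. -/
noncomputable def memL (y : ℕ) (l : List ℕ) : Bool :=
  List.rec (motive := fun _ => Bool) false (fun a _ ih => Bool.rec ih true (Nat.beq a y)) l

theorem memL_true {y : ℕ} : ∀ {l : List ℕ}, memL y l = true ↔ y ∈ l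
  | [] => by simp [show memL y [] = false from rfl]
  | a :: t => by
    rw [show memL y (a :: t) = Bool.rec (memL y t) true (Nat.beq a y) from rfl]
    by_cases h : a = y
    · rw [beq_true.2 h]; simp [h]
    · have : Nat.beq a y = false := by rw [← Bool.not_eq_true, beq_true]; exact h
      rw [this]
      change memL y t = true ↔ _
      rw [memL_true]; simp [Ne.symm h]

/-- Equality test of lists of numbers. -/
noncomputable def eqL (A : List ℕ) : List ℕ → Bool :=
  List.rec (motive := fun _ => List ℕ → Bool)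
    (fun B => List.rec (motive := fun _ => Bool) true (fun _ _ _ => false) B)
    (fun a _ ih B => List.rec (motive := fun _ => Bool) false
      (fun b B' _ => and2 (Nat.beq a b) (ih B')) B) A

theorem eqL_true : ∀ {A B : List ℕ}, eqL A B = true → A = B
  | [], [], _ => rfl
  | [], _ :: _, h => absurd h (by simp [show ∀ b B, eqL [] (b :: B) = false from fun _ _ => rfl])
  | _ :: _, [], h => absurd h (by simp [show ∀ a A, eqL (a :: A) [] = false from fun _ _ => rfl])
  | a :: A, b :: B, h => by
    rw [show eqL (a :: A) (b :: B) = and2 (Nat.beq a b) (eqL A B) from rfl, and2_true] at h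
    rw [beq_true.1 h.1, eqL_true h.2]

/-- The rotation by `s` of relator number `r`, inverted first if `sgn ≠ 0`. -/
noncomputable def rotW (iv : ℕ → ℕ) (R : List (List ℕ)) (r s sgn : ℕ) : List ℕ :=
  let w := Nat.rec (motive := fun _ => List ℕ) (nth [] R r) (fun _ _ => invW iv (nth [] R r)) sgn
  w.drop s ++ w.take s

theorem ev_rotW {G : Type*} [Group G] {e : ℕ → G} {iv : ℕ → ℕ} (h : IvOK e iv)
    {R : List (List ℕ)} (hR : ∀ r ∈ R, ev e r = 1) (r s sgn : ℕ) : ev e (rotW iv R r s sgn) = 1 := by
  have h1 : ev e (nth [] R r) = 1 := nth_forall (p := fun w => ev e w = 1) rfl hR r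
  have key : ∀ w : List ℕ, ev e w = 1 → ev e (w.drop s ++ w.take s) = 1 := by
    intro w hw
    rw [← List.take_append_drop s w, ev_append] at hw
    rw [ev_append, mul_eq_one_comm.1 hw]
  cases sgn with
  | zero => exact key _ h1
  | succ n =>
    refine key (invW iv (nth [] R r)) ?_
    rw [ev_invW h, h1, inv_one]

namespace TCData

variable (T : TCData)

/-- All edges on the path that reads `u` from the right, starting at `i`, are before time `t`. -/
def EdgesLt : List ℕ → ℕ → ℕ → Prop
  | [], _, _ => True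
  | y :: u, i, t => (y ∈ T.cols ∧ val (T.τ y) (ev (sg T.nets) u i) < t) ∧ EdgesLt u i t

/-- The edge `(i, c)` has a justification. -/
def Just (i c : ℕ) : Prop :=
  (T.D c).testBit i = true ∨ (i = 0 ∧ c ∈ T.hcols) ∨
    ∃ r s sgn h u, rotW T.iv T.R r s sgn = h :: u ∧ T.iv h = c ∧ T.EdgesLt u i (val (T.τ c) i)

/-- All edges `(i, c)` with `i` in the bit set `U` have a justification. -/
def Cov (c U : ℕ) : Prop := ∀ i < T.N, U.testBit i = true → T.Just i c

/-- The standing facts on the table. -/
structure Basic : Prop where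
  nets : NetsOK T.K T.nets
  hK : T.K ≤ 2 ^ T.k
  hN : T.N ≤ T.K
  iv : IvOK (sg T.nets) T.iv
  len : ∀ c ∈ T.cols, (T.τ c).length = T.W
  lt : ∀ c ∈ T.cols, ∀ i < T.N, sg T.nets c i < T.N

/-- The computable part of `Basic`. -/
noncomputable def chkBasic : Bool :=
  and2 (Nat.ble T.K (Nat.pow 2 T.k)) (and2 (Nat.ble T.N T.K) (allL T.cols fun c =>
    and2 (Nat.beq (T.τ c).length T.W) (sub (ones T.N) ((T.nets c).pull (ones T.N)))))

variable {T}

theorem basic_of_chk (h1 : NetsOK T.K T.nets) (h2 : IvOK (sg T.nets) T.iv)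
    (h : T.chkBasic = true) : T.Basic := by
  simp only [chkBasic, and2_true, allL_true, ble_true, beq_true] at h
  refine ⟨h1, h.1, h.2.1, h2, fun c hc => (h.2.2 c hc).1, fun c hc i hi => ?_⟩
  have := sub_true (h.2.2 c hc).2 (i := i) (by simp [testBit_ones, hi])
  rw [Net.testBit_pull (h1 c), testBit_ones] at this
  simpa [sg] using this

theorem Cov.or {c U V : ℕ} (h1 : T.Cov c U) (h2 : T.Cov c V) : T.Cov c (Nat.lor U V) := by
  intro i hi h
  rw [lor_eq, Nat.testBit_or, Bool.or_eq_true] at h
  exact h.elim (h1 i hi) (h2 i hi)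

theorem Cov.mono {c U V : ℕ} (h1 : T.Cov c U) (h2 : sub V U = true) : T.Cov c V :=
  fun i hi h => h1 i hi (sub_true h2 h)

theorem cov_zero (c : ℕ) : T.Cov c 0 := fun i _ h => by simp at h

variable (T)

/-- The edges justified by definitions and subgroup generators. -/
noncomputable def mask0 (c : ℕ) : ℕ := Nat.lor (T.D c) (Bool.rec 0 1 (memL c T.hcols))

theorem cov_mask0 (c : ℕ) : T.Cov c (T.mask0 c) := by
  intro i _ h
  rw [mask0, lor_eq, Nat.testBit_or, Bool.or_eq_true] at h
  rcases h with h | h
  · exact Or.inl h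
  · cases h1 : memL c T.hcols
    · rw [h1] at h; simp at h
    · rw [h1] at h
      exact Or.inr (Or.inl ⟨by simpa [Nat.testBit_one_eq_true_iff_self_eq_zero] using h,
        memL_true.1 h1⟩)

/-- Horner scheme for the latest time on a path. -/
noncomputable def hornerAux (u : List ℕ) : List ℕ → List ℕ :=
  List.rec (motive := fun _ => List ℕ → List ℕ) (fun M => M)
    (fun y _ ih M => seqL (maxP (T.τ y) (mapPull (T.nets y) M)) ih) u

variable {T}

theorem hornerAux_spec (hb : T.Basic) : ∀ (u M : List ℕ), (∀ y ∈ u, y ∈ T.cols) → M.length = T.W →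
    (T.hornerAux u M).length = T.W ∧ ∀ i t, val (T.hornerAux u M) i < t →
      val M (ev (sg T.nets) u i) < t ∧ T.EdgesLt u i t
  | [], M, _, hM => ⟨hM, fun i t h => ⟨h, trivial⟩⟩
  | y :: u, M, hu, hM => by
    have hy : y ∈ T.cols := hu y (by simp)
    rw [show T.hornerAux (y :: u) M = seqL (maxP (T.τ y) (mapPull (T.nets y) M)) (T.hornerAux u)
      from rfl, seqL_eq]
    obtain ⟨m1, m2⟩ := maxP_spec (A := T.τ y) (B := mapPull (T.nets y) M)
      (by rw [hb.len y hy, mapPull_length, hM])
    obtain ⟨h1, h2⟩ := hornerAux_spec hb u _ (fun z hz => hu z (by simp [hz]))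
      (m1.trans (hb.len y hy))
    refine ⟨h1, fun i t h => ?_⟩
    obtain ⟨h3, h4⟩ := h2 i t h
    rw [m2, max_lt_iff, val_mapPull (hb.nets y)] at h3
    exact ⟨by simpa [sg] using h3.2, ⟨hy, h3.1⟩, h4⟩

variable (T)

/-- The edges of column `c` justified by a rotated relator, found for all points at once. -/
noncomputable def cellMask (c r s sgn : ℕ) : ℕ :=
  List.rec (motive := fun _ => ℕ) 0 (fun h u _ =>
    List.rec (motive := fun _ => ℕ) 0 (fun y u' _ =>
      Bool.rec (motive := fun _ => ℕ) 0 (ltP (T.hornerAux u' (T.τ y)) (T.τ c))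
        (and2 (Nat.beq (T.iv h) c) (allL u fun z => memL z T.cols))) u) (rotW T.iv T.R r s sgn)

variable {T}

theorem cov_cellMask (hb : T.Basic) {c : ℕ} (hc : c ∈ T.cols) (r s sgn : ℕ) :
    T.Cov c (T.cellMask c r s sgn) := by
  unfold cellMask
  cases hw : rotW T.iv T.R r s sgn with
  | nil => exact cov_zero c
  | cons h u =>
    cases u with
    | nil => exact cov_zero c
    | cons y u' =>
      change T.Cov c (Bool.rec (motive := fun _ => ℕ) 0 (ltP (T.hornerAux u' (T.τ y)) (T.τ c))
        (and2 (Nat.beq (T.iv h) c) (allL (y :: u') fun z => memL z T.cols)))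
      cases hch : and2 (Nat.beq (T.iv h) c) (allL (y :: u') fun z => memL z T.cols) with
      | false => exact cov_zero c
      | true =>
        simp only [and2_true, beq_true, allL_true, memL_true] at hch
        have hy : y ∈ T.cols := hch.2 y (by simp)
        obtain ⟨h1, h2⟩ := hornerAux_spec hb u' (T.τ y) (fun z hz => hch.2 z (by simp [hz]))
          (hb.len y hy)
        intro i _ hi
        change (ltP _ _).testBit i = true at hi
        rw [testBit_ltP (h1.trans (hb.len c hc).symm), decide_eq_true_eq] at hi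
        obtain ⟨h3, h4⟩ := h2 i _ hi
        exact Or.inr (Or.inr ⟨r, s, sgn, h, y :: u', hw, hch.1, ⟨hy, h3⟩, h4⟩)

variable (T)

/-- The points whose edge in column `y` is before time `t`. -/
noncomputable def ltc (y t : ℕ) : ℕ := ltP (T.τ y) (constP (ones T.N) T.W t)

/-- Push the set `S` along the word `v` (read from the left), checking the times. -/
noncomputable def traceAux (t : ℕ) (v : List ℕ) : ℕ → Bool :=
  List.rec (motive := fun _ => ℕ → Bool) (fun _ => true) (fun y _ ih S =>
    lit y fun y => and2 (and2 (memL y T.cols) (sub S (T.ltc y t)))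
      (seqN ((T.nets (T.iv y)).pull S) ih)) v

variable {T}

theorem testBit_ltc (hb : T.Basic) {y : ℕ} (hy : y ∈ T.cols) (t : ℕ) {i : ℕ} (hi : i < T.N) :
    (T.ltc y t).testBit i = decide (val (T.τ y) i < t % 2 ^ T.W) := by
  obtain ⟨h1, h2⟩ := constP_spec (ones T.N) T.W t
  rw [ltc, testBit_ltP ((hb.len y hy).trans h1.symm), h2 i (by simp [testBit_ones, hi])]

theorem traceAux_spec (hb : T.Basic) (t : ℕ) : ∀ (v : List ℕ) (S : ℕ), T.traceAux t v S = true →
    ∀ (u : List ℕ) (i : ℕ), ev (sg T.nets) u i < T.N → S.testBit (ev (sg T.nets) u i) = true →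
      T.EdgesLt u i (t % 2 ^ T.W) → T.EdgesLt (v.reverse ++ u) i (t % 2 ^ T.W)
  | [], _, _, _, _, _, _, h => h
  | y :: v, S, h, u, i, h1, h2, h3 => by
    rw [show T.traceAux t (y :: v) S = and2 (and2 (memL y T.cols) (sub S (T.ltc y t)))
      (seqN ((T.nets (T.iv y)).pull S) (T.traceAux t v)) from rfl] at h
    simp only [and2_true, memL_true, seqN_eq] at h
    obtain ⟨⟨hy, h4⟩, h5⟩ := h
    have h6 := sub_true h4 h2
    rw [testBit_ltc hb hy t h1, decide_eq_true_eq] at h6
    have := traceAux_spec hb t v _ h5 (y :: u) i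
      (by simpa using hb.lt y hy _ h1) ?_ ⟨⟨hy, h6⟩, h3⟩
    · simpa using this
    · rw [Net.testBit_pull (hb.nets _)]
      have := hb.iv y
      simp only [sg] at this
      simp [this, h2, sg]

variable (T)

/-- The edges `(i, c)`, `i ∈ S`, justified at time `t` by a rotated relator (or `0`). -/
noncomputable def traceMask (c r s sgn t S : ℕ) : ℕ :=
  List.rec (motive := fun _ => ℕ) 0 (fun h u _ =>
    Bool.rec (motive := fun _ => ℕ) 0 S
      (and2 (and2 (Nat.beq (T.iv h) c) (disj S (T.ltc c t)))
        (T.traceAux t (invW (fun z => z) u) S))) (rotW T.iv T.R r s sgn)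

variable {T}

theorem EdgesLt.mono : ∀ {u : List ℕ} {i t t' : ℕ}, T.EdgesLt u i t → t ≤ t' → T.EdgesLt u i t'
  | [], _, _, _, _, _ => trivial
  | _ :: _, _, _, _, h, h' => ⟨⟨h.1.1, lt_of_lt_of_le h.1.2 h'⟩, EdgesLt.mono h.2 h'⟩

theorem cov_traceMask (hb : T.Basic) {c : ℕ} (hc : c ∈ T.cols) (r s sgn t S : ℕ) :
    T.Cov c (T.traceMask c r s sgn t S) := by
  unfold traceMask
  cases hw : rotW T.iv T.R r s sgn with
  | nil => exact cov_zero c
  | cons h u =>
    change T.Cov c (Bool.rec (motive := fun _ => ℕ) 0 S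
      (and2 (and2 (Nat.beq (T.iv h) c) (disj S (T.ltc c t)))
        (T.traceAux t (invW (fun z => z) u) S)))
    cases hch : and2 (and2 (Nat.beq (T.iv h) c) (disj S (T.ltc c t)))
        (T.traceAux t (invW (fun z => z) u) S) with
    | false => exact cov_zero c
    | true =>
      simp only [and2_true, beq_true] at hch
      intro i hi hS
      change S.testBit i = true at hS
      have h1 := disj_true hch.1.2 hS
      rw [testBit_ltc hb hc t hi, decide_eq_false_iff_not, not_lt] at h1
      have h2 := traceAux_spec hb t _ S hch.2 [] i (by simpa using hi) (by simpa using hS) trivial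
      rw [invW_eq] at h2
      simp only [List.map_id', List.reverse_reverse, List.append_nil] at h2
      exact Or.inr (Or.inr ⟨r, s, sgn, h, u, hw, hch.1.1, h2.mono h1⟩)

/-- A justification step: a rotated relator used at all points, or at time `t` on the set whose
points are listed. -/
inductive Step : Type
  | all (r s sgn : ℕ) : Step
  | pts (r s sgn t : ℕ) (l : List ℕ) : Step
  | set (r s sgn t S : ℕ) : Step

/-- The bit set with the listed points. -/
noncomputable def bitsOf (l : List ℕ) : ℕ :=
  List.rec (motive := fun _ => ℕ) 0 (fun a _ ih => Nat.lor (Nat.shiftLeft 1 a) ih) l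

variable (T)

/-- The edges justified by a step. -/
noncomputable def stepMask (c : ℕ) (st : Step) : ℕ :=
  Step.rec (motive := fun _ => ℕ) (fun r s sgn => T.cellMask c r s sgn)
    (fun r s sgn t l => T.traceMask c r s sgn t (bitsOf l))
    (fun r s sgn t S => T.traceMask c r s sgn t S) st

/-- Add to `U` the edges justified by a list of steps. -/
noncomputable def stepsMask (c : ℕ) (l : List Step) : ℕ → ℕ :=
  List.rec (motive := fun _ => ℕ → ℕ) (fun U => U)
    (fun st _ ih U => seqN (Nat.lor U (T.stepMask c st)) ih) l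

variable {T}

theorem cov_stepsMask (hb : T.Basic) {c : ℕ} (hc : c ∈ T.cols) :
    ∀ (l : List Step) (U : ℕ), T.Cov c U → T.Cov c (T.stepsMask c l U)
  | [], _, h => h
  | st :: l, U, h => by
    rw [show T.stepsMask c (st :: l) U = seqN (Nat.lor U (T.stepMask c st)) (T.stepsMask c l)
      from rfl, seqN_eq]
    refine cov_stepsMask hb hc l _ (h.or ?_)
    cases st with
    | all r s sgn => exact cov_cellMask hb hc r s sgn
    | pts r s sgn t l => exact cov_traceMask hb hc r s sgn t _
    | set r s sgn t S => exact cov_traceMask hb hc r s sgn t S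

/-- First checkpoint of a column. -/
theorem cov_first (hb : T.Basic) {c : ℕ} {l : List Step} {V : ℕ}
    (h : and2 (memL c T.cols) (sub V (T.stepsMask c l (T.mask0 c))) = true) : T.Cov c V := by
  rw [and2_true, memL_true] at h
  exact (cov_stepsMask hb h.1 l _ (T.cov_mask0 c)).mono h.2

/-- Next checkpoint of a column. -/
theorem cov_next (hb : T.Basic) {c : ℕ} {l : List Step} {U V : ℕ} (hU : T.Cov c U)
    (h : and2 (memL c T.cols) (sub V (T.stepsMask c l U)) = true) : T.Cov c V := by
  rw [and2_true, memL_true] at h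
  exact (cov_stepsMask hb h.1 l _ hU).mono h.2

variable (T)

/-- Column `c` is complete: each edge is justified at one of its two ends. -/
def ColOK (c : ℕ) : Prop :=
  T.iv c ∈ T.cols ∧ (∀ i, val (T.τ (T.iv c)) (sg T.nets c i) = val (T.τ c) i) ∧
    (∀ i < T.N, T.Just i c ∨ T.Just (sg T.nets c i) (T.iv c)) ∧
    (∀ i < T.N, (T.D c).testBit i = true → sg T.nets c i < i)

/-- Test for `ColOK`, given the justified sets `U` of column `c` and `V` of column `iv c`. -/
noncomputable def chkCol (c U V : ℕ) : Bool :=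
  and2 (and2 (memL c T.cols) (memL (T.iv c) T.cols))
    (and2 (eqL (mapPull (T.nets c) (T.τ (T.iv c))) (T.τ c))
      (and2 (sub (ones T.N) (Nat.lor U ((T.nets c).pull V)))
        (sub (T.D c) (ltP (mapPull (T.nets c) (idPl T.K T.k)) (idPl T.K T.k)))))

variable {T}

theorem colOK_of_chk (hb : T.Basic) {c U V : ℕ} (hU : T.Cov c U) (hV : T.Cov (T.iv c) V)
    (h : T.chkCol c U V = true) : T.ColOK c := by
  simp only [chkCol, and2_true, memL_true] at h
  obtain ⟨⟨hc, h1⟩, h2, h3, h4⟩ := h
  refine ⟨h1, fun i => ?_, fun i hi => ?_, fun i hi hD => ?_⟩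
  · rw [← eqL_true h2, val_mapPull (hb.nets c)]; rfl
  · have := sub_true h3 (i := i) (by simp [testBit_ones, hi])
    rw [lor_eq, Nat.testBit_or, Bool.or_eq_true, Net.testBit_pull (hb.nets c)] at this
    exact this.imp (hU i hi) (hV _ (hb.lt c hc i hi))
  · have := sub_true h4 hD
    rw [testBit_ltP (mapPull_length _ _), decide_eq_true_eq, val_mapPull (hb.nets c),
      val_idPl hb.hK (lt_of_lt_of_le hi hb.hN), val_idPl hb.hK] at this
    · exact this
    · exact lt_of_lt_of_le (hb.lt c hc i hi) hb.hN

variable (T)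

/-- The definition sets are disjoint and cover, with `acc`, all points. -/
noncomputable def chkDAux (l : List ℕ) : ℕ → Bool :=
  List.rec (motive := fun _ => ℕ → Bool) (fun acc => sub (ones T.N) acc)
    (fun c _ ih acc => and2 (disj (T.D c) acc) (seqN (Nat.lor acc (T.D c)) ih)) l

/-- The definitions form a spanning tree and the subgroup generators fix the base point. -/
noncomputable def chkTree : Bool :=
  and2 (T.chkDAux T.cols 1) (and2 (Nat.ble 1 T.N)
    (allL T.hcols fun c => and2 (memL c T.cols) (sub 1 ((T.nets c).pull 1))))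

/-- See `chkTree`. -/
structure TreeOK : Prop where
  uniq : ∀ i, ∀ c ∈ T.cols, ∀ c' ∈ T.cols, (T.D c).testBit i = true → (T.D c').testBit i = true →
    c = c'
  cover : ∀ i < T.N, i ≠ 0 → ∃ c ∈ T.cols, (T.D c).testBit i = true
  pos : 0 < T.N
  hsub : ∀ c ∈ T.hcols, c ∈ T.cols
  hfix : ∀ c ∈ T.hcols, sg T.nets c 0 = 0

variable {T}

theorem chkDAux_spec : ∀ (l : List ℕ) (acc : ℕ), T.chkDAux l acc = true →
    (∀ i, ∀ c ∈ l, (T.D c).testBit i = true → acc.testBit i = false) ∧
    (∀ i, ∀ c ∈ l, ∀ c' ∈ l, (T.D c).testBit i = true → (T.D c').testBit i = true → c = c') ∧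
    (∀ i < T.N, acc.testBit i = true ∨ ∃ c ∈ l, (T.D c).testBit i = true)
  | [], acc, h => ⟨by simp, by simp, fun i hi =>
      Or.inl (sub_true (a := ones T.N) h (by simp [testBit_ones, hi]))⟩
  | a :: l, acc, h => by
    rw [show T.chkDAux (a :: l) acc = and2 (disj (T.D a) acc)
      (seqN (Nat.lor acc (T.D a)) (T.chkDAux l)) from rfl, and2_true, seqN_eq] at h
    obtain ⟨h1, h2, h3⟩ := chkDAux_spec l _ h.2
    simp only [lor_eq, Nat.testBit_or, Bool.or_eq_false_iff, Bool.or_eq_true] at h1 h3
    refine ⟨fun i c hc hD => ?_, fun i c hc c' hc' hD hD' => ?_, fun i hi => ?_⟩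
    · rcases List.mem_cons.1 hc with rfl | hc
      · exact disj_true h.1 hD
      · exact (h1 i c hc hD).1
    · rcases List.mem_cons.1 hc with e1 | g1 <;> rcases List.mem_cons.1 hc' with e2 | g2
      · rw [e1, e2]
      · rw [← e1] at h1; rw [(h1 i c' g2 hD').2] at hD; exact absurd hD (by simp)
      · rw [← e2] at h1; rw [(h1 i c g1 hD).2] at hD'; exact absurd hD' (by simp)
      · exact h2 i c g1 c' g2 hD hD'
    · rcases h3 i hi with (h4 | h4) | ⟨c, hc, h4⟩
      · exact Or.inl h4
      · exact Or.inr ⟨a, by simp, h4⟩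
      · exact Or.inr ⟨c, by simp [hc], h4⟩

theorem treeOK_of_chk (hn : NetsOK T.K T.nets) (h : T.chkTree = true) : T.TreeOK := by
  simp only [chkTree, and2_true, allL_true, ble_true, memL_true] at h
  obtain ⟨-, h2, h3⟩ := chkDAux_spec _ _ h.1
  refine ⟨h2, fun i hi h0 => ?_, h.2.1, fun c hc => (h.2.2 c hc).1, fun c hc => ?_⟩
  · rcases h3 i hi with h4 | h4
    · exact absurd (Nat.testBit_one_eq_true_iff_self_eq_zero.1 h4) h0
    · exact h4
  · have := sub_true (h.2.2 c hc).2 (i := 0) (by simp)
    rw [Net.testBit_pull (hn c), Nat.testBit_one_eq_true_iff_self_eq_zero] at this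
    exact this

/-- A complete, checked certificate. -/
structure OK (T : TCData) : Prop where
  basic : T.Basic
  tree : T.TreeOK
  col : ∀ c ∈ T.cols, T.ColOK c
  rels : ∀ r ∈ T.R, ev (sg T.nets) r = 1

section Sound

variable {G : Type*} [Group G] (e : ℕ → G) (H : Subgroup G)

open Classical in
/-- The coset attached to a point by the definitions. -/
noncomputable def coset (T : TCData) (i : ℕ) : G ⧸ H :=
  if h : ∃ c ∈ T.cols, (T.D c).testBit i = true ∧ sg T.nets c i < i then
    have := h.choose_spec.2.2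
    (e h.choose)⁻¹ • coset T (sg T.nets h.choose i)
  else ((1 : G) : G ⧸ H)
termination_by i

theorem coset_zero (T : TCData) : coset e H T 0 = ((1 : G) : G ⧸ H) := by
  rw [coset, dif_neg]; simp

variable {e H}

theorem path_valid (hb : T.Basic) {C : ℕ → G ⧸ H} {t : ℕ}
    (ih : ∀ c ∈ T.cols, ∀ i < T.N, val (T.τ c) i < t → e c • C i = C (sg T.nets c i)) :
    ∀ (u : List ℕ) (i : ℕ), i < T.N → T.EdgesLt u i t →
      ev (sg T.nets) u i < T.N ∧ ev e u • C i = C (ev (sg T.nets) u i)
  | [], i, hi, _ => by simpa using hi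
  | y :: u, i, hi, h => by
    obtain ⟨h1, h2⟩ := path_valid hb ih u i hi h.2
    refine ⟨by simpa using hb.lt y h.1.1 _ h1, ?_⟩
    rw [ev_cons, mul_smul, h2, ih y h.1.1 _ h1 h.1.2]; simp

theorem OK.sound (hT : T.OK) (hiv : IvOK e T.iv) (hR : ∀ r ∈ T.R, ev e r = 1)
    (hH : ∀ c ∈ T.hcols, e c ∈ H) :
    ∀ c ∈ T.cols, ∀ i < T.N, e c • coset e H T i = coset e H T (sg T.nets c i) := by
  have hb := hT.basic
  suffices h : ∀ t, ∀ c ∈ T.cols, ∀ i < T.N, val (T.τ c) i = t →
      e c • coset e H T i = coset e H T (sg T.nets c i) from fun c hc i hi => h _ c hc i hi rfl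
  intro t
  induction t using Nat.strong_induction_on with
  | _ t ih =>
    have key : ∀ c ∈ T.cols, ∀ i < T.N, val (T.τ c) i = t → T.Just i c →
        e c • coset e H T i = coset e H T (sg T.nets c i) := by
      intro c hc i hi ht hJ
      rcases hJ with hD | ⟨rfl, h0⟩ | ⟨r, s, sgn, h, u, hw, rfl, hE⟩
      · have hex : ∃ c ∈ T.cols, (T.D c).testBit i = true ∧ sg T.nets c i < i :=
          ⟨c, hc, hD, (hT.col c hc).2.2.2 i hi hD⟩
        have : hex.choose = c := hT.tree.uniq i _ hex.choose_spec.1 c hc hex.choose_spec.2.1 hD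
        conv_lhs => rw [coset, dif_pos hex]
        simp only [this, smul_inv_smul]
      · rw [hT.tree.hfix c h0, coset_zero, MulAction.Quotient.smul_coe, QuotientGroup.eq]
        simpa using hH c h0
      · have e1 := ev_rotW hiv hR r s sgn
        have e2 := ev_rotW hb.iv hT.rels r s sgn
        rw [hw, ev_cons] at e1 e2
        rw [hiv h, hb.iv h, ← eq_inv_of_mul_eq_one_right e1, ← eq_inv_of_mul_eq_one_right e2]
        rw [ht] at hE
        exact (path_valid hb (fun c hc i hi h => ih _ h c hc i hi rfl) u i hi hE).2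
    intro c hc i hi ht
    obtain ⟨h1, h2, h3, -⟩ := hT.col c hc
    rcases h3 i hi with hJ | hJ
    · exact key c hc i hi ht hJ
    · have := key _ h1 _ (hb.lt c hc i hi) ((h2 i).trans ht) hJ
      rw [hiv c, hb.iv c, inv_smul_eq_iff] at this
      rw [this]; simp

end Sound

end TCData

end H29
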