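import Mathlib
import Cfsg.Agent.H29.TC

/-!
# Derived relators

A small interpreter for straight-line programs on identities `P = U` between words.  Words are
packed in numbers (`b` bits per letter) together with their formal inverses, so that a product
with free cancellation costs a few big-number operations.
-/

set_option autoImplicit false

namespace H29

/-- The first `len` digits of `n` in base `2 ^ b`. -/
noncomputable def dec (b len : ℕ) : ℕ → List ℕ :=
  Nat.rec (motive := fun _ => ℕ → List ℕ) (fun _ => [])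
    (fun _ ih n => Nat.land n (ones b) :: lit (Nat.shiftRight n b) ih) len

theorem ones_eq (n : ℕ) : ones n = 2 ^ n - 1 := by simp [ones, Nat.shiftLeft_eq]

theorem land_ones (x n : ℕ) : Nat.land x (ones n) = x % 2 ^ n := by
  rw [land_eq, ones_eq, Nat.and_two_pow_sub_one_eq_mod]

theorem dec_succ (b len n : ℕ) : dec b (len + 1) n = (n % 2 ^ b) :: dec b len (n / 2 ^ b) := by
  rw [show dec b (len + 1) n = Nat.land n (ones b) :: dec b len (Nat.shiftRight n b) from rfl,
    land_ones, shr_eq, Nat.shiftRight_eq_div_pow]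

@[simp] theorem dec_zero (b n : ℕ) : dec b 0 n = [] := rfl

theorem dec_length (b : ℕ) : ∀ (len n : ℕ), (dec b len n).length = len
  | 0, _ => rfl
  | len + 1, n => by rw [dec_succ]; simp [dec_length b len]

theorem dec_add (b : ℕ) : ∀ (l1 l2 n : ℕ),
    dec b (l1 + l2) n = dec b l1 n ++ dec b l2 (n / 2 ^ (b * l1))
  | 0, l2, n => by simp
  | l1 + 1, l2, n => by
    rw [show l1 + 1 + l2 = (l1 + l2) + 1 by ring, dec_succ, dec_succ, dec_add b l1 l2,
      Nat.div_div_eq_div_mul, ← pow_add, show b + b * l1 = b * (l1 + 1) by ring]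
    rfl

theorem dec_congr (b : ℕ) : ∀ (l n m : ℕ), n % 2 ^ (b * l) = m % 2 ^ (b * l) →
    dec b l n = dec b l m
  | 0, _, _, _ => rfl
  | l + 1, n, m, h => by
    rw [show b * (l + 1) = b + b * l by ring, pow_add, Nat.mod_mul, Nat.mod_mul] at h
    have hp : 0 < 2 ^ b := by positivity
    have h1 : n % 2 ^ b = m % 2 ^ b := by
      have := congrArg (· % 2 ^ b) h
      simpa [Nat.add_mul_mod_self_left] using this
    have h2 : n / 2 ^ b % 2 ^ (b * l) = m / 2 ^ b % 2 ^ (b * l) := by
      rw [h1] at h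
      exact Nat.eq_of_mul_eq_mul_left hp (by omega)
    rw [dec_succ, dec_succ, h1, dec_congr b l _ _ h2]

/-- Keep the low `s` bits of `a` and put `c` above them. -/
def glue (s a c : ℕ) : ℕ := Nat.add (Nat.land a (ones s)) (Nat.shiftLeft c s)

theorem dec_glue (b l1 l2 a c : ℕ) :
    dec b (l1 + l2) (glue (b * l1) a c) = dec b l1 a ++ dec b l2 c := by
  have e : glue (b * l1) a c = a % 2 ^ (b * l1) + 2 ^ (b * l1) * c := by
    rw [glue, land_ones, shl_eq, Nat.shiftLeft_eq, mul_comm c]; rfl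
  have hp : 0 < 2 ^ (b * l1) := by positivity
  rw [dec_add, e, Nat.add_mul_div_left _ _ hp, Nat.div_eq_of_lt (Nat.mod_lt _ hp), zero_add,
    dec_congr b l1 _ a (by simp)]

/-- A packed word with its formal inverse. -/
structure PW where
  w : ℕ
  wi : ℕ
  len : ℕ

namespace PW

/-- The second field is the formal inverse of the first. -/
def Inv (b : ℕ) (iv : ℕ → ℕ) (p : PW) : Prop :=
  dec b p.len p.wi = ((dec b p.len p.w).map iv).reverse

/-- The word. -/
noncomputable def word (b : ℕ) (p : PW) : List ℕ := dec b p.len p.w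

/-- The empty word. -/
def one : PW := ⟨0, 0, 0⟩

/-- The formal inverse. -/
noncomputable def inv (p : PW) : PW := PW.rec (fun w wi len => ⟨wi, w, len⟩) p

/-- Product with cancellation of `c` letters. -/
noncomputable def mulC (b pw pwi lp qw qwi lq c : ℕ) : PW :=
  lit (Nat.sub lp c) fun l1 => lit (Nat.sub lq c) fun l2 => lit (Nat.mul b c) fun s =>
    lit (glue (Nat.mul b l1) pw (Nat.shiftRight qw s)) fun w =>
      lit (glue (Nat.mul b l2) qwi (Nat.shiftRight pwi s)) fun wi =>
        lit (Nat.add l1 l2) fun len => ⟨w, wi, len⟩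

/-- The number of letters that cancel (a guess, checked in `mul`). -/
noncomputable def guess (b x lp lq : ℕ) : ℕ :=
  let y := Nat.lor x (Nat.shiftLeft 1 (Nat.mul b (Bool.rec lq lp (Nat.ble lp lq))))
  Nat.div (Nat.log2 (Nat.xor y (Nat.land y (Nat.sub y 1)))) b

/-- Product with free cancellation. -/
noncomputable def mul (b : ℕ) (p q : PW) : PW :=
  PW.rec (fun pw pwi lp => PW.rec (fun qw qwi lq =>
    lit (guess b (Nat.xor pwi qw) lp lq) fun c =>
      mulC b pw pwi lp qw qwi lq (Bool.rec 0 c (and2 (and2 (Nat.ble c lp) (Nat.ble c lq))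
        (Nat.beq (Nat.land pwi (ones (Nat.mul b c))) (Nat.land qw (ones (Nat.mul b c))))))) q) p

variable {G : Type*} [Group G] {e : ℕ → G} {b : ℕ} {iv : ℕ → ℕ}

theorem inv_one : one.Inv b iv := rfl

theorem inv_spec (h : IvOK e iv) (hii : ∀ c, iv (iv c) = c) {p : PW} (hp : p.Inv b iv) :
    p.inv.Inv b iv ∧ ev e (p.inv.word b) = (ev e (p.word b))⁻¹ := by
  obtain ⟨w, wi, len⟩ := p
  change dec b len wi = _ at hp
  constructor
  · change dec b len w = ((dec b len wi).map iv).reverse
    rw [hp]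
    simp [Function.comp_def, hii]
  · change ev e (dec b len wi) = _
    rw [hp, ← invW_eq, ev_invW h]; rfl

theorem mulC_spec (h : IvOK e iv) {pw pwi lp qw qwi lq c : ℕ} (hp : (⟨pw, pwi, lp⟩ : PW).Inv b iv)
    (hq : (⟨qw, qwi, lq⟩ : PW).Inv b iv) (h1 : c ≤ lp) (h2 : c ≤ lq)
    (h3 : pwi % 2 ^ (b * c) = qw % 2 ^ (b * c)) :
    (mulC b pw pwi lp qw qwi lq c).Inv b iv ∧
      ev e ((mulC b pw pwi lp qw qwi lq c).word b) = ev e (dec b lp pw) * ev e (dec b lq qw) := by
  obtain ⟨l1, rfl⟩ : ∃ l1, lp = l1 + c := ⟨lp - c, by omega⟩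
  obtain ⟨l2, rfl⟩ : ∃ l2, lq = c + l2 := ⟨lq - c, by omega⟩
  have e1 : mulC b pw pwi (l1 + c) qw qwi (c + l2) c =
      ⟨glue (b * l1) pw (qw / 2 ^ (b * c)), glue (b * l2) qwi (pwi / 2 ^ (b * c)), l1 + l2⟩ := by
    simp only [mulC, lit_eq, shr_eq, Nat.shiftRight_eq_div_pow, Nat.sub_eq, Nat.add_sub_cancel,
      Nat.add_sub_cancel_left, Nat.mul_eq, Nat.add_eq]
  rw [e1]
  change dec b (l1 + c) pwi = ((dec b (l1 + c) pw).map iv).reverse at hp
  change dec b (c + l2) qwi = ((dec b (c + l2) qw).map iv).reverse at hq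
  rw [dec_add b l1 c pw, add_comm l1 c, dec_add b c l1 pwi, List.map_append,
    List.reverse_append] at hp
  rw [dec_add b c l2 qw, add_comm c l2, dec_add b l2 c qwi, List.map_append,
    List.reverse_append] at hq
  obtain ⟨p1, p2⟩ := List.append_inj hp (by simp [dec_length])
  obtain ⟨q1, -⟩ := List.append_inj hq (by simp [dec_length])
  constructor
  · change dec b (l1 + l2) _ = ((dec b (l1 + l2) _).map iv).reverse
    rw [dec_glue, add_comm l1 l2, dec_glue, List.map_append, List.reverse_append, q1, p2]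
  · change ev e (dec b (l1 + l2) _) = _
    rw [dec_glue, dec_add b l1 c pw, dec_add b c l2 qw, ← dec_congr b c _ _ h3, p1, ← invW_eq]
    simp only [ev_append, ev_invW h]
    group

theorem mul_spec (h : IvOK e iv) {p q : PW} (hp : p.Inv b iv) (hq : q.Inv b iv) :
    (mul b p q).Inv b iv ∧ ev e ((mul b p q).word b) = ev e (p.word b) * ev e (q.word b) := by
  obtain ⟨pw, pwi, lp⟩ := p
  obtain ⟨qw, qwi, lq⟩ := q
  generalize hc : guess b (Nat.xor pwi qw) lp lq = c
  have e1 : mul b ⟨pw, pwi, lp⟩ ⟨qw, qwi, lq⟩ = mulC b pw pwi lp qw qwi lq (Bool.rec 0 c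
      (and2 (and2 (Nat.ble c lp) (Nat.ble c lq))
        (Nat.beq (Nat.land pwi (ones (Nat.mul b c))) (Nat.land qw (ones (Nat.mul b c)))))) := by
    rw [← hc]; rfl
  rw [e1]
  cases hch : and2 (and2 (Nat.ble c lp) (Nat.ble c lq))
        (Nat.beq (Nat.land pwi (ones (Nat.mul b c))) (Nat.land qw (ones (Nat.mul b c)))) with
  | false => exact mulC_spec h hp hq (Nat.zero_le _) (Nat.zero_le _) (by simp [Nat.mod_one])
  | true =>
    simp only [and2_true, ble_true, beq_true, land_ones] at hch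
    exact mulC_spec h hp hq hch.1.1 hch.1.2 hch.2

/-- Pack a list of digits. -/
noncomputable def pack (b : ℕ) (l : List ℕ) : ℕ :=
  List.rec (motive := fun _ => ℕ) 0 (fun a _ ih => Nat.add a (Nat.shiftLeft ih b)) l

theorem dec_pack (b : ℕ) : ∀ (l : List ℕ), (∀ a ∈ l, a < 2 ^ b) → dec b l.length (pack b l) = l
  | [], _ => rfl
  | a :: l, h => by
    have ha : a < 2 ^ b := h a (by simp)
    have e : pack b (a :: l) = a + 2 ^ b * pack b l := by
      rw [show pack b (a :: l) = a + pack b l <<< b from rfl, Nat.shiftLeft_eq, mul_comm]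
    rw [List.length_cons, dec_succ, e, Nat.add_mul_mod_self_left, Nat.mod_eq_of_lt ha,
      Nat.add_mul_div_left _ _ (by positivity), Nat.div_eq_of_lt ha, zero_add,
      dec_pack b l fun x hx => h x (by simp [hx])]

/-- A word as a packed word, or the empty word if some letter does not fit. -/
noncomputable def ofList (b : ℕ) (iv : ℕ → ℕ) (l : List ℕ) : PW :=
  Bool.rec one (lit (pack b l) fun w => lit (pack b (invW iv l)) fun wi =>
      lit l.length fun len => ⟨w, wi, len⟩)
    (allL l fun y => and2 (Nat.ble (Nat.succ y) (Nat.pow 2 b))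
      (Nat.ble (Nat.succ (iv y)) (Nat.pow 2 b)))

theorem ofList_spec (b : ℕ) (iv : ℕ → ℕ) (l : List ℕ) :
    (ofList b iv l).Inv b iv ∧ ((ofList b iv l).word b = l ∨ (ofList b iv l).word b = []) := by
  unfold ofList
  cases hch : allL l fun y => and2 (Nat.ble (Nat.succ y) (Nat.pow 2 b))
      (Nat.ble (Nat.succ (iv y)) (Nat.pow 2 b)) with
  | false => exact ⟨rfl, Or.inr rfl⟩
  | true =>
    simp only [allL_true, and2_true, ble_true] at hch
    have h1 := dec_pack b l fun a ha => (hch a ha).1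
    have h2 := dec_pack b (invW iv l) (by
      intro a ha
      rw [invW_eq, List.mem_reverse, List.mem_map] at ha
      obtain ⟨y, hy, rfl⟩ := ha
      exact (hch y hy).2)
    refine ⟨?_, Or.inl h1⟩
    change dec b l.length (pack b (invW iv l)) = ((dec b l.length (pack b l)).map iv).reverse
    rw [h1, ← invW_eq]
    rw [show (invW iv l).length = l.length by simp [invW_eq]] at h2
    exact h2

end PW

/-- An identity between two packed words. -/
structure Lem where
  P : PW
  U : PW

/-- Trees of a skew-binary list. -/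
inductive STree : Type
  | leaf (v : Lem) : STree
  | node (v : Lem) (l r : STree) : STree

/-- Skew-binary random access lists. -/
inductive SL : Type
  | nil : SL
  | cons (w : ℕ) (t : STree) (rest : SL) : SL

/-- The trivial identity. -/
def Lem.triv : Lem := ⟨PW.one, PW.one⟩

/-- Lookup in a tree of weight `w`. -/
noncomputable def STree.get (t : STree) : ℕ → ℕ → Lem :=
  STree.rec (motive := fun _ => ℕ → ℕ → Lem) (fun v _ _ => v) (fun v _ _ fl fr w i =>
    Nat.rec (motive := fun _ => Lem) v (fun j _ => lit (Nat.shiftRight w 1) fun h =>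
      Bool.rec (motive := fun _ => Lem) (fl h j) (fr h (Nat.sub j h)) (Nat.ble h j)) i) t

/-- Lookup, counted from the most recent entry. -/
noncomputable def SL.get (s : SL) : ℕ → Lem :=
  SL.rec (motive := fun _ => ℕ → Lem) (fun _ => Lem.triv) (fun w t _ ih i =>
    Bool.rec (motive := fun _ => Lem) (t.get w i) (ih (Nat.sub i w)) (Nat.ble w i)) s

/-- Add an entry, then continue. -/
noncomputable def SL.push {α : Type} (v : Lem) (s : SL) (k : SL → α) : α :=
  SL.rec (motive := fun _ => α) (k (SL.cons 1 (.leaf v) .nil)) (fun w1 t1 s1 _ =>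
    SL.rec (motive := fun _ => α) (k (SL.cons 1 (.leaf v) (SL.cons w1 t1 .nil)))
      (fun w2 t2 s2 _ => Bool.rec (motive := fun _ => α)
        (k (SL.cons 1 (.leaf v) (SL.cons w1 t1 (SL.cons w2 t2 s2))))
        (lit (Nat.succ (Nat.add w1 w2)) fun w => k (SL.cons w (.node v t1 t2) s2))
        (Nat.beq w1 w2)) s1) s

/-- All entries satisfy `p`. -/
def STree.All (p : Lem → Prop) : STree → Prop
  | .leaf v => p v
  | .node v l r => p v ∧ l.All p ∧ r.All p

/-- All entries satisfy `p`. -/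
def SL.All (p : Lem → Prop) : SL → Prop
  | .nil => True
  | .cons _ t s => t.All p ∧ s.All p

theorem STree.All.get {p : Lem → Prop} : ∀ {t : STree}, t.All p → ∀ w i, p (t.get w i)
  | .leaf _, h, _, _ => h
  | .node v l r, h, w, 0 => h.1
  | .node v l r, h, w, j + 1 => by
    change p (Bool.rec (motive := fun _ => Lem) (l.get (Nat.shiftRight w 1) j)
      (r.get (Nat.shiftRight w 1) (Nat.sub j (Nat.shiftRight w 1))) (Nat.ble (Nat.shiftRight w 1) j))
    cases Nat.ble (Nat.shiftRight w 1) j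
    · exact STree.All.get h.2.1 _ _
    · exact STree.All.get h.2.2 _ _

theorem SL.All.get {p : Lem → Prop} (h0 : p Lem.triv) : ∀ {s : SL}, s.All p → ∀ i, p (s.get i)
  | .nil, _, _ => h0
  | .cons w t s, h, i => by
    change p (Bool.rec (motive := fun _ => Lem) (t.get w i) (s.get (Nat.sub i w)) (Nat.ble w i))
    cases Nat.ble w i
    · exact h.1.get _ _
    · exact SL.All.get h0 h.2 _

theorem SL.push_spec {α : Type} {p : Lem → Prop} {v : Lem} (hv : p v) {s : SL} (hs : s.All p)
    (k : SL → α) : ∃ s' : SL, s'.All p ∧ s.push v k = k s' := by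
  cases s with
  | nil => exact ⟨SL.cons 1 (.leaf v) .nil, ⟨hv, trivial⟩, rfl⟩
  | cons w1 t1 s1 =>
    cases s1 with
    | nil => exact ⟨SL.cons 1 (.leaf v) (SL.cons w1 t1 .nil), ⟨hv, hs⟩, rfl⟩
    | cons w2 t2 s2 =>
      change ∃ s' : SL, s'.All p ∧ Bool.rec (motive := fun _ => α)
        (k (SL.cons 1 (.leaf v) (SL.cons w1 t1 (SL.cons w2 t2 s2))))
        (k (SL.cons (Nat.succ (Nat.add w1 w2)) (.node v t1 t2) s2)) (Nat.beq w1 w2) = k s'
      cases Nat.beq w1 w2
      · exact ⟨SL.cons 1 (.leaf v) (SL.cons w1 t1 (SL.cons w2 t2 s2)), ⟨hv, hs⟩, rfl⟩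
      · exact ⟨SL.cons _ (.node v t1 t2) s2, ⟨⟨hv, hs.1, hs.2.1⟩, hs.2.2⟩, rfl⟩

/-- The identity holds and both packed words are well formed. -/
def Lem.Valid {G : Type*} [Group G] (e : ℕ → G) (b : ℕ) (iv : ℕ → ℕ) (L : Lem) : Prop :=
  L.P.Inv b iv ∧ L.U.Inv b iv ∧ ev e (L.P.word b) = ev e (L.U.word b)

/-- Multiply two identities, then continue. -/
noncomputable def Lem.mulK {α : Type} (b : ℕ) (L M : Lem) (k : Lem → α) : α :=
  Lem.rec (fun P U => Lem.rec (fun P' U' =>
    PW.rec (fun a1 a2 a3 => PW.rec (fun c1 c2 c3 => k ⟨⟨a1, a2, a3⟩, ⟨c1, c2, c3⟩⟩)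
      (PW.mul b U U')) (PW.mul b P P')) M) L

theorem Lem.mulK_eq {α : Type} (b : ℕ) (L M : Lem) (k : Lem → α) :
    Lem.mulK b L M k = k ⟨PW.mul b L.P M.P, PW.mul b L.U M.U⟩ := rfl

/-- The identity named by an item: `ty = 0` a letter, `1` a stored identity, `2` its inverse,
`3` the trivial identity on its right side, `4` the inverse of that, otherwise a relator. -/
noncomputable def item (b : ℕ) (iv : ℕ → ℕ) (R : List (List ℕ)) (s : SL) (ty arg : ℕ) : Lem :=
  Nat.rec (motive := fun _ => Lem) ⟨PW.ofList b iv [arg], PW.ofList b iv [arg]⟩ (fun t _ =>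
    Nat.rec (motive := fun _ => Lem) (s.get arg) (fun t _ =>
      Nat.rec (motive := fun _ => Lem) (Lem.rec (fun P U => ⟨P.inv, U.inv⟩) (s.get arg)) (fun t _ =>
        Nat.rec (motive := fun _ => Lem) (Lem.rec (fun _ U => ⟨U, U⟩) (s.get arg)) (fun t _ =>
          Nat.rec (motive := fun _ => Lem) (Lem.rec (fun _ U => ⟨U.inv, U.inv⟩) (s.get arg))
            (fun _ _ => ⟨PW.ofList b iv (nth [] R arg), PW.one⟩) t) t) t) t) ty

/-- Run the codes (24 bits each) packed in one number: a code `8 * arg + ty` with `ty < 7`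
multiplies the current identity by an item, `ty = 7` stores the current identity. -/
noncomputable def runChunk {α : Type} (b : ℕ) (iv : ℕ → ℕ) (R : List (List ℕ))
    (k : Lem → SL → α) (fuel : ℕ) : ℕ → Lem → SL → α :=
  Nat.rec (motive := fun _ => ℕ → Lem → SL → α) (fun _ cur s => k cur s) (fun _ ih n cur s =>
    lit (Nat.land n 7) fun ty => lit (Nat.shiftRight n 24) fun n' =>
      Bool.rec (motive := fun _ => α)
        (lit (Nat.land (Nat.shiftRight n 3) 2097151) fun arg =>
          Lem.mulK b cur (item b iv R s ty arg) fun cur' => ih n' cur' s)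
        (s.push cur fun s' => ih n' Lem.triv s') (Nat.beq ty 7)) fuel

/-- Run a list of chunks `(number of codes, packed codes)`. -/
noncomputable def runProg {α : Type} (b : ℕ) (iv : ℕ → ℕ) (R : List (List ℕ))
    (k : SL → α) (l : List (ℕ × ℕ)) : Lem → SL → α :=
  List.rec (motive := fun _ => Lem → SL → α) (fun _ s => k s)
    (fun c _ ih cur s => runChunk b iv R ih c.1 c.2 cur s) l

/-- Run a program and compare the stored identities named in `outs` with the claimed relators. -/
noncomputable def chkProg (b : ℕ) (iv : ℕ → ℕ) (R : List (List ℕ)) (l : List (ℕ × ℕ))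
    (outs : List (ℕ × List ℕ)) : Bool :=
  runProg b iv R (fun s => allL outs fun o =>
    and2 (eqL ((s.get o.1).P.word b) o.2) (Nat.beq (s.get o.1).U.len 0)) l Lem.triv SL.nil

section Sound

variable {G : Type*} [Group G] {e : ℕ → G} {b : ℕ} {iv : ℕ → ℕ} {R : List (List ℕ)}

theorem Lem.valid_triv : Lem.triv.Valid e b iv := ⟨rfl, rfl, rfl⟩

theorem item_valid (h : IvOK e iv) (hii : ∀ c, iv (iv c) = c) (hR : ∀ r ∈ R, ev e r = 1) {s : SL}
    (hs : s.All (Lem.Valid e b iv)) (ty arg : ℕ) : (item b iv R s ty arg).Valid e b iv := by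
  have hg := hs.get Lem.valid_triv arg
  match ty with
  | 0 => exact ⟨(PW.ofList_spec b iv _).1, (PW.ofList_spec b iv _).1, rfl⟩
  | 1 => exact hg
  | 2 =>
    change Lem.Valid e b iv ⟨(s.get arg).P.inv, (s.get arg).U.inv⟩
    refine ⟨(PW.inv_spec h hii hg.1).1, (PW.inv_spec h hii hg.2.1).1, ?_⟩
    rw [(PW.inv_spec h hii hg.1).2, (PW.inv_spec h hii hg.2.1).2, hg.2.2]
  | 3 => exact ⟨hg.2.1, hg.2.1, rfl⟩
  | 4 => exact ⟨(PW.inv_spec h hii hg.2.1).1, (PW.inv_spec h hii hg.2.1).1, rfl⟩
  | t + 5 =>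
    change Lem.Valid e b iv ⟨PW.ofList b iv (nth [] R arg), PW.one⟩
    refine ⟨(PW.ofList_spec b iv _).1, rfl, ?_⟩
    rcases (PW.ofList_spec b iv (nth [] R arg)).2 with h1 | h1
    · rw [h1]; exact nth_forall (p := fun w => ev e w = 1) rfl hR arg
    · rw [h1]; rfl

theorem runChunk_spec {α : Type} (h : IvOK e iv) (hii : ∀ c, iv (iv c) = c)
    (hR : ∀ r ∈ R, ev e r = 1) (k : Lem → SL → α) : ∀ (fuel n : ℕ) (cur : Lem) (s : SL),
    cur.Valid e b iv → s.All (Lem.Valid e b iv) → ∃ (cur' : Lem) (s' : SL),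
      cur'.Valid e b iv ∧ s'.All (Lem.Valid e b iv) ∧ runChunk b iv R k fuel n cur s = k cur' s'
  | 0, _, cur, s, h1, h2 => ⟨cur, s, h1, h2, rfl⟩
  | fuel + 1, n, cur, s, h1, h2 => by
    change ∃ (cur' : Lem) (s' : SL), cur'.Valid e b iv ∧ s'.All (Lem.Valid e b iv) ∧
      Bool.rec (motive := fun _ => α)
        (Lem.mulK b cur (item b iv R s (Nat.land n 7) (Nat.land (Nat.shiftRight n 3) 2097151))
          fun cur' => runChunk b iv R k fuel (Nat.shiftRight n 24) cur' s)
        (s.push cur fun s' => runChunk b iv R k fuel (Nat.shiftRight n 24) Lem.triv s')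
        (Nat.beq (Nat.land n 7) 7) = k cur' s'
    cases Nat.beq (Nat.land n 7) 7
    · have hi := item_valid (b := b) h hii hR h2 (Nat.land n 7)
        (Nat.land (Nat.shiftRight n 3) 2097151)
      change ∃ (cur' : Lem) (s' : SL), _ ∧ _ ∧ Lem.mulK _ _ _ _ = _
      rw [Lem.mulK_eq]
      refine runChunk_spec h hii hR k fuel _ _ s ?_ h2
      obtain ⟨a1, a2⟩ := PW.mul_spec h h1.1 hi.1
      obtain ⟨c1, c2⟩ := PW.mul_spec h h1.2.1 hi.2.1
      exact ⟨a1, c1, by rw [a2, c2, h1.2.2, hi.2.2]⟩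
    · change ∃ (cur' : Lem) (s' : SL), _ ∧ _ ∧ SL.push _ _ _ = _
      obtain ⟨s', hs', e1⟩ := SL.push_spec h1 h2
        (fun s' => runChunk b iv R k fuel (Nat.shiftRight n 24) Lem.triv s')
      rw [e1]
      exact runChunk_spec h hii hR k fuel _ _ s' Lem.valid_triv hs'

theorem runProg_spec {α : Type} (h : IvOK e iv) (hii : ∀ c, iv (iv c) = c)
    (hR : ∀ r ∈ R, ev e r = 1) (k : SL → α) : ∀ (l : List (ℕ × ℕ)) (cur : Lem) (s : SL),
    cur.Valid e b iv → s.All (Lem.Valid e b iv) → ∃ s' : SL,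
      s'.All (Lem.Valid e b iv) ∧ runProg b iv R k l cur s = k s'
  | [], _, s, _, h2 => ⟨s, h2, rfl⟩
  | c :: l, cur, s, h1, h2 => by
    obtain ⟨cur', s', h3, h4, e1⟩ := runChunk_spec h hii hR (runProg b iv R k l) c.1 c.2 cur s h1 h2
    rw [show runProg b iv R k (c :: l) cur s = runChunk b iv R (runProg b iv R k l) c.1 c.2 cur s
      from rfl, e1]
    exact runProg_spec h hii hR k l cur' s' h3 h4

theorem chkProg_sound (h : IvOK e iv) (hii : ∀ c, iv (iv c) = c) (hR : ∀ r ∈ R, ev e r = 1)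
    {l : List (ℕ × ℕ)} {outs : List (ℕ × List ℕ)} (hc : chkProg b iv R l outs = true) :
    ∀ r ∈ R ++ outs.map Prod.snd, ev e r = 1 := by
  intro r hr
  rcases List.mem_append.1 hr with hr | hr
  · exact hR r hr
  obtain ⟨o, ho, rfl⟩ := List.mem_map.1 hr
  obtain ⟨s, hs, e1⟩ := runProg_spec (b := b) h hii hR (fun s => allL outs fun o =>
    and2 (eqL ((s.get o.1).P.word b) o.2) (Nat.beq (s.get o.1).U.len 0)) l Lem.triv SL.nil
    Lem.valid_triv trivial
  rw [chkProg, e1, allL_true] at hc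
  have h1 := hc o ho
  rw [and2_true, beq_true] at h1
  have h2 := (hs.get Lem.valid_triv o.1).2.2
  rw [eqL_true h1.1, PW.word, h1.2] at h2
  exact h2

end Sound

theorem ivOf_ivOf {l : List ℕ} (h : allN l.length (fun c => Nat.beq (ivOf l (ivOf l c)) c) = true)
    (c : ℕ) : ivOf l (ivOf l c) = c := by
  by_cases hc : c < l.length
  · exact beq_true.1 (allN_true.1 h c hc)
  · have e1 : ivOf l c = c := by rw [ivOf, nth_eq, List.getD_eq_default _ _ (by omega)]
    rw [e1, e1]

end H29
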