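import Mathlib
import Cfsg.Agent.H29.Prog

/-!
# Group-theoretic consequences of the certificates

* `gen e l`: the subgroup generated by the letters in `l`;
* `Bd K n`: `K` is finite of order at most `n`; `TCData.OK.bd`: one step of an upper bound;
* `CosetModel ρ H N`: the action `ρ` on the points below `N` is the action on the cosets of `H`;
* `Reach`: orbits; `card_mul_le_of_chain`: lower bounds on the order;
* `normal_transitive`, `isSimpleGroup_of_cert`: primitivity and simplicity.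
-/

set_option autoImplicit false

namespace H29

section Gen

variable {G : Type*} [Group G]

/-- The subgroup generated by the letters of `l`. -/
def gen (e : ℕ → G) (l : List ℕ) : Subgroup G := Subgroup.closure (e '' {c | c ∈ l})

theorem mem_gen {e : ℕ → G} {l : List ℕ} {c : ℕ} (h : c ∈ l) : e c ∈ gen e l :=
  Subgroup.subset_closure ⟨c, h, rfl⟩

theorem ev_mem_gen {e : ℕ → G} {l w : List ℕ} (h : ∀ c ∈ w, c ∈ l) : ev e w ∈ gen e l :=
  ev_mem fun c hc => mem_gen (h c hc)

theorem gen_le {e : ℕ → G} {l : List ℕ} {H : Subgroup G} : gen e l ≤ H ↔ ∀ c ∈ l, e c ∈ H := by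
  rw [gen, Subgroup.closure_le]
  exact ⟨fun h c hc => h ⟨c, hc, rfl⟩, by rintro h _ ⟨c, hc, rfl⟩; exact h c hc⟩

theorem gen_mono {e : ℕ → G} {l l' : List ℕ} (h : ∀ c ∈ l, c ∈ l') : gen e l ≤ gen e l' :=
  gen_le.2 fun c hc => mem_gen (h c hc)

theorem gen_nil (e : ℕ → G) : gen e [] = ⊥ := by simp [gen]

theorem map_gen {H : Type*} [Group H] (f : G →* H) (e : ℕ → G) (l : List ℕ) :
    (gen e l).map f = gen (fun c => f (e c)) l := by
  rw [gen, MonoidHom.map_closure, Set.image_image]; rfl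

theorem gen_congr {e e' : ℕ → G} {l : List ℕ} (h : ∀ c ∈ l, e c = e' c) : gen e l = gen e' l := by
  rw [gen, gen, Set.image_congr (s := {c | c ∈ l}) (g := e') fun c hc => h c hc]

theorem exists_word {e : ℕ → G} {iv : ℕ → ℕ} (h : IvOK e iv) {l : List ℕ}
    (hl : ∀ c ∈ l, iv c ∈ l) {g : G} (hg : g ∈ gen e l) :
    ∃ w : List ℕ, (∀ c ∈ w, c ∈ l) ∧ ev e w = g := by
  induction hg using Subgroup.closure_induction with
  | mem x hx => obtain ⟨c, hc, rfl⟩ := hx; exact ⟨[c], by simpa using hc, by simp⟩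
  | one => exact ⟨[], by simp, rfl⟩
  | mul x y _ _ hx hy =>
    obtain ⟨u, hu, rfl⟩ := hx
    obtain ⟨v, hv, rfl⟩ := hy
    exact ⟨u ++ v, fun c hc => (List.mem_append.1 hc).elim (hu c) (hv c), by simp⟩
  | inv x _ hx =>
    obtain ⟨u, hu, rfl⟩ := hx
    refine ⟨invW iv u, fun c hc => ?_, ev_invW h u⟩
    rw [invW_eq, List.mem_reverse, List.mem_map] at hc
    obtain ⟨y, hy, rfl⟩ := hc
    exact hl y (hu y hy)

/-- `K` is finite of order at most `n`. -/
def Bd (K : Subgroup G) (n : ℕ) : Prop := Finite K ∧ Nat.card K ≤ n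

theorem bd_nil (e : ℕ → G) : Bd (gen e []) 1 := by
  rw [gen_nil]; exact ⟨inferInstance, by simp⟩

theorem Bd.mono {K : Subgroup G} {n m : ℕ} (h : Bd K n) (h' : n ≤ m) : Bd K m :=
  ⟨h.1, h.2.trans h'⟩

theorem Bd.of_le {K L : Subgroup G} {n : ℕ} (h : Bd K n) (h' : L ≤ K) : Bd L n := by
  have := h.1
  exact ⟨Finite.of_injective _ (Subgroup.inclusion_injective h'),
    (Subgroup.card_le_of_le h').trans h.2⟩

theorem Bd.of_top {K : Subgroup G} {n : ℕ} (h : Bd K n) (h' : K = ⊤) :
    Finite G ∧ Nat.card G ≤ n := by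
  subst h'
  have := h.1
  exact ⟨Finite.of_equiv _ Subgroup.topEquiv.toEquiv, by simpa using h.2⟩

theorem bd_of_cover {K H : Subgroup G} {N m : ℕ} (C : ℕ → G ⧸ H)
    (h : ∀ g ∈ K, ∃ j < N, (g : G ⧸ H) = C j) (hH : Bd H m) : Bd K (N * m) := by
  have := hH.1
  choose f hf1 hf2 using h
  let φ : K → Fin N × H := fun g => (⟨f g g.2, hf1 g g.2⟩,
    ⟨(C (f g g.2)).out⁻¹ * g, by rw [← QuotientGroup.eq, QuotientGroup.out_eq', hf2 g g.2]⟩)
  have hφ : Function.Injective φ := by
    intro g g' hg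
    simp only [φ, Prod.mk.injEq, Fin.mk.injEq, Subtype.mk.injEq] at hg
    rw [hg.1] at hg
    exact Subtype.ext (mul_left_cancel hg.2)
  refine ⟨Finite.of_injective φ hφ, (Nat.card_le_card_of_injective φ hφ).trans ?_⟩
  rw [Nat.card_prod, Nat.card_eq_fintype_card, Fintype.card_fin]
  exact Nat.mul_le_mul_left _ hH.2

end Gen

/-- The relators `R'` follow from the relators `R`. -/
def Derives (iv : ℕ → ℕ) (R R' : List (List ℕ)) : Prop :=
  ∀ (G : Type) [Group G] (e : ℕ → G), IvOK e iv → (∀ r ∈ R, ev e r = 1) → ∀ r ∈ R', ev e r = 1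

theorem Derives.refl (iv : ℕ → ℕ) (R : List (List ℕ)) : Derives iv R R := fun _ _ _ _ h => h

theorem Derives.prog {iv : ℕ → ℕ} {R R' : List (List ℕ)} (h : Derives iv R R')
    (hii : ∀ c, iv (iv c) = c) {b : ℕ} {l : List (ℕ × ℕ)} {outs : List (ℕ × List ℕ)}
    (hc : chkProg b iv R' l outs = true) : Derives iv R (R' ++ outs.map Prod.snd) :=
  fun G _ e h1 h2 => chkProg_sound h1 hii (h G e h1 h2) hc

/-- Select members of a list by their indices. -/
noncomputable def pick (R : List (List ℕ)) (l : List ℕ) : List (List ℕ) :=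
  List.rec (motive := fun _ => List (List ℕ)) [] (fun a _ ih => nth [] R a :: ih) l

theorem pick_rel {G : Type*} [Group G] {e : ℕ → G} {R : List (List ℕ)}
    (h : ∀ r ∈ R, ev e r = 1) : ∀ (l : List ℕ), ∀ r ∈ pick R l, ev e r = 1
  | [], _, hr => by simp [show pick R [] = [] from rfl] at hr
  | a :: l, r, hr => by
    rw [show pick R (a :: l) = nth [] R a :: pick R l from rfl, List.mem_cons] at hr
    rcases hr with rfl | hr
    · exact nth_forall (p := fun w => ev e w = 1) rfl h a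
    · exact pick_rel h l r hr

theorem rels_append {G : Type*} [Group G] {e : ℕ → G} {R R' : List (List ℕ)}
    (h : ∀ r ∈ R, ev e r = 1) (h' : ∀ r ∈ R', ev e r = 1) : ∀ r ∈ R ++ R', ev e r = 1 :=
  fun r hr => (List.mem_append.1 hr).elim (h r) (h' r)

namespace TCData

variable {T : TCData} {G : Type*} [Group G] {e : ℕ → G}

theorem OK.ev_lt (hT : T.OK) : ∀ {w : List ℕ}, (∀ c ∈ w, c ∈ T.cols) → ∀ {i : ℕ}, i < T.N →
    ev (sg T.nets) w i < T.N
  | [], _, _, hi => hi
  | y :: w, h, i, hi => by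
    simpa using hT.basic.lt y (h y (by simp)) _ (OK.ev_lt hT (fun c hc => h c (by simp [hc])) hi)

theorem OK.ev_smul (hT : T.OK) (hiv : IvOK e T.iv) (hR : ∀ r ∈ T.R, ev e r = 1) {H : Subgroup G}
    (hH : ∀ c ∈ T.hcols, e c ∈ H) : ∀ {w : List ℕ}, (∀ c ∈ w, c ∈ T.cols) → ∀ {i : ℕ}, i < T.N →
    ev e w • coset e H T i = coset e H T (ev (sg T.nets) w i)
  | [], _, _, _ => by simp
  | y :: w, h, i, hi => by
    have h' : ∀ c ∈ w, c ∈ T.cols := fun c hc => h c (by simp [hc])
    rw [ev_cons, mul_smul, OK.ev_smul hT hiv hR hH h' hi,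
      hT.sound hiv hR hH y (h y (by simp)) _ (hT.ev_lt h' hi)]
    simp

/-- One step of an upper bound on the order. -/
theorem OK.bd (hT : T.OK) (hiv : IvOK e T.iv) (hR : ∀ r ∈ T.R, ev e r = 1) {m : ℕ}
    (hH : Bd (gen e T.hcols) m) : Bd (gen e T.cols) (T.N * m) := by
  refine bd_of_cover (coset e (gen e T.hcols) T) (fun g hg => ?_) hH
  obtain ⟨w, hw, rfl⟩ := exists_word hiv (fun c hc => (hT.col c hc).1) hg
  refine ⟨_, hT.ev_lt hw hT.tree.pos, ?_⟩
  rw [← hT.ev_smul hiv hR (fun c hc => mem_gen hc) hw hT.tree.pos, coset_zero,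
    MulAction.Quotient.smul_coe, smul_eq_mul, mul_one]

theorem OK.trans (hT : T.OK) (i : ℕ) (hi : i < T.N) :
    ∃ w : List ℕ, (∀ c ∈ w, c ∈ T.cols) ∧ ev (sg T.nets) w i = 0 := by
  induction i using Nat.strong_induction_on with
  | _ i ih =>
    by_cases h0 : i = 0
    · exact ⟨[], by simp, by simp [h0]⟩
    · obtain ⟨c, hc, hD⟩ := hT.tree.cover i hi h0
      have h1 := (hT.col c hc).2.2.2 i hi hD
      obtain ⟨w, hw, h2⟩ := ih _ h1 (h1.trans hi)
      refine ⟨w ++ [c], fun y hy => ?_, by simpa using h2⟩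
      rcases List.mem_append.1 hy with hy | hy
      · exact hw y hy
      · rw [List.mem_singleton.1 hy]; exact hc

end TCData

/-- `ρ` preserves the set of the points below `N` and is transitive on it. -/
structure Trans {G : Type*} [Group G] (ρ : G →* Equiv.Perm ℕ) (N : ℕ) : Prop where
  pos : 0 < N
  lt : ∀ g, ∀ i < N, ρ g i < N
  trans : ∀ i < N, ∃ g, ρ g 0 = i

/-- The action `ρ` on the points below `N` is the action on the cosets of `H`. -/
structure CosetModel {G : Type*} [Group G] (ρ : G →* Equiv.Perm ℕ) (H : Subgroup G) (N : ℕ) :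
    Prop extends Trans ρ N where
  mem : ∀ g, ρ g 0 = 0 ↔ g ∈ H

section Model

variable {G : Type*} [Group G] {e : ℕ → G} {ρ : G →* Equiv.Perm ℕ}

theorem map_ev_sg {nets : ℕ → Net} {w : List ℕ} (hρ : ∀ c ∈ w, ρ (e c) = sg nets c) :
    ρ (ev e w) = ev (sg nets) w := by
  rw [map_ev, ev_congr hρ]

theorem fix_of_mem_gen {l : List ℕ} {b : ℕ} (h : ∀ c ∈ l, ρ (e c) b = b) {g : G}
    (hg : g ∈ gen e l) : ρ g b = b := by
  have : gen e l ≤ (MulAction.stabilizer (Equiv.Perm ℕ) b).comap ρ := gen_le.2 h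
  exact this hg

theorem TCData.OK.cosetModel {T : TCData} (hT : T.OK) (hiv : IvOK e T.iv)
    (hR : ∀ r ∈ T.R, ev e r = 1) (htop : gen e T.cols = ⊤)
    (hρ : ∀ c ∈ T.cols, ρ (e c) = sg T.nets c) : CosetModel ρ (gen e T.hcols) T.N := by
  have hw : ∀ g : G, ∃ w : List ℕ, (∀ c ∈ w, c ∈ T.cols) ∧ ev e w = g := fun g =>
    exists_word hiv (fun c hc => (hT.col c hc).1) (htop ▸ Subgroup.mem_top g)
  refine ⟨⟨hT.tree.pos, fun g i hi => ?_, fun i hi => ?_⟩, fun g => ⟨fun h => ?_, fun h => ?_⟩⟩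
  · obtain ⟨w, h1, rfl⟩ := hw g
    rw [map_ev_sg fun c hc => hρ c (h1 c hc)]
    exact hT.ev_lt h1 hi
  · obtain ⟨w, h1, h2⟩ := hT.trans i hi
    refine ⟨(ev e w)⁻¹, ?_⟩
    rw [map_inv, map_ev_sg fun c hc => hρ c (h1 c hc), ← h2]
    simp
  · obtain ⟨w, h1, rfl⟩ := hw g
    rw [map_ev_sg fun c hc => hρ c (h1 c hc)] at h
    have := hT.ev_smul hiv hR (H := gen e T.hcols) (fun c hc => mem_gen hc) h1 hT.tree.pos
    rw [h, TCData.coset_zero, MulAction.Quotient.smul_coe, QuotientGroup.eq] at this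
    simpa using this
  · exact fix_of_mem_gen (fun c hc => by
      rw [hρ c (hT.tree.hsub c hc)]; exact hT.tree.hfix c hc) h

/-- The stabiliser of the point `b`. -/
def stab (ρ : G →* Equiv.Perm ℕ) (b : ℕ) : Subgroup G :=
  (MulAction.stabilizer (Equiv.Perm ℕ) b).comap ρ

theorem mem_stab {b : ℕ} {g : G} : g ∈ stab ρ b ↔ ρ g b = b := Iff.rfl

theorem Trans.cosetModel {N : ℕ} (h : Trans ρ N) : CosetModel ρ (stab ρ 0) N :=
  ⟨h, fun _ => Iff.rfl⟩

namespace CosetModel

variable {H : Subgroup G} {N : ℕ}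

/-- The point attached to a coset. -/
def pt (h : CosetModel ρ H N) : G ⧸ H → ℕ :=
  Quotient.lift (fun g : G => ρ g 0) (by
    intro a b hab
    have h1 := (h.mem _).2 (QuotientGroup.leftRel_apply.1 hab)
    rw [map_mul, map_inv, Equiv.Perm.mul_apply, Equiv.Perm.inv_eq_iff_eq] at h1
    exact h1.symm)

theorem pt_mk (h : CosetModel ρ H N) (g : G) : h.pt (g : G ⧸ H) = ρ g 0 := rfl

theorem pt_smul (h : CosetModel ρ H N) (g : G) (q : G ⧸ H) : h.pt (g • q) = ρ g (h.pt q) := by
  induction q using QuotientGroup.induction_on with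
  | H a => rw [MulAction.Quotient.smul_coe, pt_mk, pt_mk]; simp

theorem pt_injective (h : CosetModel ρ H N) : Function.Injective h.pt := by
  intro p q hpq
  induction p using QuotientGroup.induction_on with
  | H a =>
    induction q using QuotientGroup.induction_on with
    | H b =>
      rw [pt_mk, pt_mk] at hpq
      rw [QuotientGroup.eq, ← h.mem, map_mul, map_inv, Equiv.Perm.mul_apply, ← hpq]
      simp

theorem range_pt (h : CosetModel ρ H N) : Set.range h.pt = Set.Iio N := by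
  ext i
  constructor
  · rintro ⟨q, rfl⟩
    induction q using QuotientGroup.induction_on with
    | H a => exact h.lt a 0 h.pos
  · intro hi
    obtain ⟨g, hg⟩ := h.trans i hi
    exact ⟨g, hg⟩

theorem index_eq (h : CosetModel ρ H N) : H.index = N := by
  rw [Subgroup.index, ← Nat.card_range_of_injective h.pt_injective, range_pt]
  simp

theorem eq_stab (h : CosetModel ρ H N) : H = stab ρ 0 := by
  ext g; rw [mem_stab, h.mem]

theorem ncard_orbit (h : CosetModel ρ H N) (K : Subgroup G) (q : G ⧸ H) :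
    (MulAction.orbit K q).ncard = {i | ∃ g ∈ K, ρ g (h.pt q) = i}.ncard := by
  rw [← Set.ncard_image_of_injective _ h.pt_injective]
  congr 1
  ext i
  constructor
  · rintro ⟨_, ⟨g, rfl⟩, rfl⟩
    exact ⟨g, g.2, (h.pt_smul g q).symm⟩
  · rintro ⟨g, hg, rfl⟩
    exact ⟨_, ⟨⟨g, hg⟩, rfl⟩, h.pt_smul g q⟩

end CosetModel

theorem Trans.card_eq {N : ℕ} (h : Trans ρ N) : Nat.card G = N * Nat.card (stab ρ 0) := by
  rw [← h.cosetModel.index_eq, Subgroup.index_mul_card]

end Model

/-! ### Orbits -/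

/-- From each point of `V` some word in the letters `L` leads to a point of `S`. -/
def Reach (nets : ℕ → Net) (L : List ℕ) (S V : ℕ) : Prop :=
  ∀ i, V.testBit i = true → ∃ w : List ℕ, (∀ c ∈ w, c ∈ L) ∧ S.testBit (ev (sg nets) w i) = true

theorem Reach.refl (nets : ℕ → Net) (L : List ℕ) (S : ℕ) : Reach nets L S S :=
  fun _ hi => ⟨[], by simp, hi⟩

theorem Reach.mono {nets : ℕ → Net} {L : List ℕ} {S U V : ℕ} (h : Reach nets L S U)
    (h' : sub V U = true) : Reach nets L S V := fun i hi => h i (sub_true h' hi)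

/-- One sweep through the letters of `l`. -/
noncomputable def sweep (nets : ℕ → Net) (l : List ℕ) : ℕ → ℕ :=
  List.rec (motive := fun _ => ℕ → ℕ) (fun U => U)
    (fun c _ ih U => seqN (Nat.lor U ((nets c).pull U)) ih) l

/-- `r` sweeps. -/
noncomputable def orb (nets : ℕ → Net) (l : List ℕ) (r : ℕ) : ℕ → ℕ :=
  Nat.rec (motive := fun _ => ℕ → ℕ) (fun U => U) (fun _ ih U => seqN (sweep nets l U) ih) r

theorem Reach.sweep {K : ℕ} {nets : ℕ → Net} (hn : NetsOK K nets) {L : List ℕ} {S : ℕ} :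
    ∀ (l : List ℕ) {U : ℕ}, (∀ c ∈ l, c ∈ L) → Reach nets L S U →
      Reach nets L S (sweep nets l U)
  | [], _, _, h => h
  | c :: l, U, hl, h => by
    rw [show H29.sweep nets (c :: l) U = seqN (Nat.lor U ((nets c).pull U)) (H29.sweep nets l)
      from rfl, seqN_eq]
    refine Reach.sweep hn l (fun y hy => hl y (by simp [hy])) fun i hi => ?_
    rw [lor_eq, Nat.testBit_or, Bool.or_eq_true, Net.testBit_pull (hn c)] at hi
    rcases hi with hi | hi
    · exact h i hi
    · obtain ⟨w, hw, h2⟩ := h _ hi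
      refine ⟨w ++ [c], fun y hy => ?_, by simpa [sg] using h2⟩
      rcases List.mem_append.1 hy with hy | hy
      · exact hw y hy
      · rw [List.mem_singleton.1 hy]; exact hl c (by simp)

theorem Reach.orb {K : ℕ} {nets : ℕ → Net} (hn : NetsOK K nets) {L : List ℕ} {S : ℕ} :
    ∀ (r : ℕ) {U : ℕ}, Reach nets L S U → Reach nets L S (orb nets L r U)
  | 0, _, h => h
  | r + 1, U, h => by
    rw [show H29.orb nets L (r + 1) U = seqN (H29.sweep nets L U) (H29.orb nets L r) from rfl,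
      seqN_eq]
    exact Reach.orb hn r (Reach.sweep hn L (fun _ h => h) h)

/-- A checkpoint in an orbit computation. -/
theorem Reach.next {K : ℕ} {nets : ℕ → Net} (hn : NetsOK K nets) {L : List ℕ} {S U V r : ℕ}
    (h : Reach nets L S U) (hc : sub V (H29.orb nets L r U) = true) : Reach nets L S V :=
  (h.orb hn r).mono hc

theorem reach_of_chk {K : ℕ} {nets : ℕ → Net} (hn : NetsOK K nets) {L : List ℕ} {S V r : ℕ}
    (hc : sub V (orb nets L r S) = true) : Reach nets L S V :=
  (Reach.refl nets L S).next hn hc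

/-- The singleton bit set. -/
def bit (b : ℕ) : ℕ := Nat.shiftLeft 1 b

theorem testBit_bit (b i : ℕ) : (bit b).testBit i = decide (b = i) := by
  rw [bit, shl_eq, Nat.one_shiftLeft, Nat.testBit_two_pow]

section Orbits

variable {G : Type*} [Group G] {e : ℕ → G} {ρ : G →* Equiv.Perm ℕ} {nets : ℕ → Net}

theorem Reach.exists_mem {L : List ℕ} {S V : ℕ} (h : Reach nets L S V)
    (hρ : ∀ c ∈ L, ρ (e c) = sg nets c) {i : ℕ} (hi : V.testBit i = true) :
    ∃ g ∈ gen e L, ∃ s, S.testBit s = true ∧ ρ g s = i := by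
  obtain ⟨w, hw, h2⟩ := h i hi
  refine ⟨(ev e w)⁻¹, inv_mem (ev_mem_gen hw), _, h2, ?_⟩
  rw [map_inv, map_ev_sg fun c hc => hρ c (hw c hc)]
  simp

theorem Reach.exists_bit {L : List ℕ} {b V : ℕ} (h : Reach nets L (bit b) V)
    (hρ : ∀ c ∈ L, ρ (e c) = sg nets c) {i : ℕ} (hi : V.testBit i = true) :
    ∃ g ∈ gen e L, ρ g b = i := by
  obtain ⟨g, hg, s, h1, h2⟩ := h.exists_mem hρ hi
  rw [testBit_bit, decide_eq_true_eq] at h1
  exact ⟨g, hg, h1 ▸ h2⟩

/-- The bit set `V` is invariant under the letters of `L`. -/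
noncomputable def chkInv (nets : ℕ → Net) (L : List ℕ) (V : ℕ) : Bool :=
  allL L fun c => Nat.beq ((nets c).pull V) V

theorem inv_of_chk {K : ℕ} (hn : NetsOK K nets) {L : List ℕ} {V : ℕ}
    (hρ : ∀ c ∈ L, ρ (e c) = sg nets c) (hc : chkInv nets L V = true) {g : G}
    (hg : g ∈ gen e L) (i : ℕ) : V.testBit (ρ g i) = V.testBit i := by
  induction hg using Subgroup.closure_induction generalizing i with
  | mem x hx =>
    obtain ⟨c, hc', rfl⟩ := hx
    have := beq_true.1 (allL_true.1 hc c hc')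
    rw [hρ c hc', sg, ← Net.testBit_pull (hn c), this]
  | one => simp
  | mul x y _ _ hx hy => rw [map_mul, Equiv.Perm.mul_apply, hx, hy]
  | inv x _ hx => rw [← hx, map_inv]; simp

theorem ncard_bits {k V : ℕ} (h : Nat.shiftRight V (Nat.pow 2 k) = 0) :
    {i | V.testBit i = true}.ncard = popc k V := by
  rw [popc_eq, ← Set.ncard_coe_finset]
  congr 1
  ext i
  simp only [Set.mem_ofPred_eq, Finset.coe_filter, Finset.mem_range, iff_and_self]
  intro hi
  by_contra h1
  have := congrArg (fun x => Nat.testBit x (i - 2 ^ k)) h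
  simp only [shr_eq, Nat.testBit_shiftRight, Nat.zero_testBit, Nat.pow_eq] at this
  rw [show 2 ^ k + (i - 2 ^ k) = i by omega, hi] at this
  exact absurd this (by simp)

/-- The orbit of `b` is exactly the bit set `V`. -/
theorem orbit_eq {K : ℕ} (hn : NetsOK K nets) {L : List ℕ} {b V : ℕ}
    (hρ : ∀ c ∈ L, ρ (e c) = sg nets c) (h : Reach nets L (bit b) V)
    (hc : and2 (sub (bit b) V) (chkInv nets L V) = true) :
    {i | ∃ g ∈ gen e L, ρ g b = i} = {i | V.testBit i = true} := by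
  rw [and2_true] at hc
  ext i
  constructor
  · rintro ⟨g, hg, rfl⟩
    rw [Set.mem_ofPred_eq, inv_of_chk hn hρ hc.2 hg]
    exact sub_true hc.1 (by simp [testBit_bit])
  · exact fun hi => h.exists_bit hρ hi

/-- Test: the orbit of `b` under `L` is reached in `r` sweeps, is invariant, and has `n` points. -/
noncomputable def chkOrbit (k : ℕ) (nets : ℕ → Net) (L : List ℕ) (b r n : ℕ) : Bool :=
  seqN (orb nets L r (bit b)) fun V => and2 (and2 (sub (bit b) V) (chkInv nets L V))
    (and2 (Nat.beq (Nat.shiftRight V (Nat.pow 2 k)) 0) (Nat.beq (popc k V) n))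

theorem ncard_orbit_of_chk {K k : ℕ} (hn : NetsOK K nets) {L : List ℕ} {b r n : ℕ}
    (hρ : ∀ c ∈ L, ρ (e c) = sg nets c) (hc : chkOrbit k nets L b r n = true) :
    {i | ∃ g ∈ gen e L, ρ g b = i}.ncard = n := by
  rw [chkOrbit, seqN_eq, and2_true, and2_true (a := Nat.beq _ _), beq_true, beq_true] at hc
  rw [orbit_eq hn hρ ((Reach.refl nets L _).orb hn r) hc.1, ncard_bits hc.2.1, hc.2.2]

theorem CosetModel.exists_suborbit {K k N : ℕ} {H : Subgroup G} (h : CosetModel ρ H N)
    (hn : NetsOK K nets) {L : List ℕ} {b r n : ℕ} (hb : b < N)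
    (hρ : ∀ c ∈ L, ρ (e c) = sg nets c) (hc : chkOrbit k nets L b r n = true) :
    ∃ q : G ⧸ H, h.pt q = b ∧ (MulAction.orbit (gen e L) q).ncard = n := by
  obtain ⟨g, hg⟩ := h.trans b hb
  exact ⟨g, hg, by rw [h.ncard_orbit, h.pt_mk, hg, ncard_orbit_of_chk hn hρ hc]⟩

/-! ### Lower bounds -/

theorem card_mul_le_of_orbit [Finite G] {K K' : Subgroup G} (hK : K' ≤ K) {b n : ℕ}
    (hfix : ∀ g ∈ K', ρ g b = b) (hn : n ≤ {i | ∃ g ∈ K, ρ g b = i}.ncard) :
    n * Nat.card K' ≤ Nat.card K := by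
  let _ : MulAction K ℕ := MulAction.compHom ℕ (ρ.comp K.subtype)
  have e1 : {i | ∃ g ∈ K, ρ g b = i} = MulAction.orbit K b := by
    ext i
    exact ⟨fun ⟨g, hg, h⟩ => ⟨⟨g, hg⟩, h⟩, fun ⟨g, h⟩ => ⟨g, g.2, h⟩⟩
  rw [e1, ← MulAction.index_stabilizer] at hn
  rw [← (MulAction.stabilizer K b).index_mul_card]
  refine Nat.mul_le_mul hn ?_
  rw [← Nat.card_congr (Subgroup.subgroupOfEquivOfLe hK).toEquiv]
  exact Subgroup.card_le_of_le fun g hg => hfix g hg

/-- The elements that fix all points below `N`. -/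
def fixAll (ρ : G →* Equiv.Perm ℕ) (N : ℕ) : Subgroup G where
  carrier := {g | ∀ i < N, ρ g i = i}
  one_mem' := by simp
  mul_mem' := fun {a b} ha hb i hi => by rw [map_mul, Equiv.Perm.mul_apply, hb i hi, ha i hi]
  inv_mem' := fun {a} ha i hi => by rw [map_inv, Equiv.Perm.inv_eq_iff_eq, ha i hi]

/-- A stabiliser chain: each level is `(b, r, n, L')`: the orbit of `b` under the current letters,
reached in `r` sweeps, has at least `n` points, and the next letters `L'` are among the current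
ones and fix `b`. -/
noncomputable def chkChain (N k : ℕ) (nets : ℕ → Net) (ch : List (ℕ × ℕ × ℕ × List ℕ)) :
    List ℕ → Bool :=
  List.rec (motive := fun _ => List ℕ → Bool) (fun _ => true) (fun a _ ih L =>
    and2 (and2 (Nat.ble (Nat.succ a.1) N) (Nat.ble a.2.2.1 (popc k (orb nets L a.2.1 (bit a.1)))))
      (and2 (allL a.2.2.2 fun c => and2 (memL c L) (sub (bit a.1) ((nets c).pull (bit a.1))))
        (ih a.2.2.2))) ch

theorem popc_le_ncard {k V : ℕ} {s : Set ℕ} (hs : s.Finite) (h : ∀ i, V.testBit i = true → i ∈ s) :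
    popc k V ≤ s.ncard := by
  rw [popc_eq, ← Set.ncard_coe_finset]
  refine Set.ncard_le_ncard (fun i hi => h i ?_) hs
  simpa using (Finset.mem_filter.1 hi).2

theorem card_mul_le_of_chain [Finite G] {K N k : ℕ} (hn : NetsOK K nets) :
    ∀ (ch : List (ℕ × ℕ × ℕ × List ℕ)) (L : List ℕ), (∀ c ∈ L, ρ (e c) = sg nets c) →
      chkChain N k nets ch L = true →
      (ch.map fun a => a.2.2.1).prod * Nat.card (fixAll ρ N) ≤ Nat.card ↥(gen e L ⊔ fixAll ρ N)
  | [], L, _, _ => by simpa using Subgroup.card_le_of_le le_sup_right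
  | a :: ch, L, hρ, h => by
    rw [show chkChain N k nets (a :: ch) L = and2 (and2 (Nat.ble (Nat.succ a.1) N)
      (Nat.ble a.2.2.1 (popc k (orb nets L a.2.1 (bit a.1)))))
      (and2 (allL a.2.2.2 fun c => and2 (memL c L) (sub (bit a.1) ((nets c).pull (bit a.1))))
        (chkChain N k nets ch a.2.2.2)) from rfl] at h
    simp only [and2_true, ble_true, allL_true, memL_true] at h
    obtain ⟨⟨h1, h2⟩, h3, h4⟩ := h
    have ih := card_mul_le_of_chain hn ch a.2.2.2 (fun c hc => hρ c (h3 c hc).1) h4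
    rw [List.map_cons, List.prod_cons, mul_assoc]
    refine (Nat.mul_le_mul_left _ ih).trans (card_mul_le_of_orbit (ρ := ρ) (b := a.1)
      (sup_le_sup_right (gen_mono fun c hc => (h3 c hc).1) _) ?_ (h2.trans ?_))
    · have : gen e a.2.2.2 ⊔ fixAll ρ N ≤ stab ρ a.1 := by
        refine sup_le (gen_le.2 fun c hc => ?_) fun g hg => hg _ h1
        have := sub_true (h3 c hc).2 (i := a.1) (by simp [testBit_bit])
        rw [Net.testBit_pull (hn c), testBit_bit, decide_eq_true_eq] at this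
        rw [mem_stab, hρ c (h3 c hc).1]
        exact this.symm
      exact fun g hg => this hg
    · refine popc_le_ncard ?_ fun i hi => ?_
      · exact (Set.finite_range fun g : G => ρ g a.1).subset fun i ⟨g, _, hg⟩ => ⟨g, hg⟩
      · obtain ⟨g, hg, h5⟩ := ((Reach.refl nets L _).orb hn a.2.1).exists_bit hρ hi
        exact ⟨g, Subgroup.mem_sup_left hg, h5⟩

/-- Matching upper and lower bounds give the order, and the action is faithful. -/
theorem card_eq_of_chain {K N k n : ℕ} (hn : NetsOK K nets) (hG : Finite G ∧ Nat.card G ≤ n)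
    {ch : List (ℕ × ℕ × ℕ × List ℕ)} {L : List ℕ} (hρ : ∀ c ∈ L, ρ (e c) = sg nets c)
    (hc : chkChain N k nets ch L = true) (hp : (ch.map fun a => a.2.2.1).prod = n) :
    Nat.card G = n ∧ ∀ g : G, (∀ i < N, ρ g i = i) → g = 1 := by
  have := hG.1
  have h1 := card_mul_le_of_chain hn ch L hρ hc
  rw [hp] at h1
  have h2 : Nat.card ↥(gen e L ⊔ fixAll ρ N) ≤ Nat.card G := Subgroup.card_le_card_group _
  have h3 : 0 < Nat.card (fixAll ρ N) := Nat.card_pos
  have h4 : 0 < Nat.card G := Nat.card_pos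
  have h5 : Nat.card (fixAll ρ N) = 1 := by
    by_contra h5
    have : n * 2 ≤ n * Nat.card (fixAll ρ N) := Nat.mul_le_mul_left _ (by omega)
    omega
  refine ⟨by rw [h5] at h1; omega, fun g hg => ?_⟩
  have := Subgroup.eq_bot_of_card_eq _ h5
  exact (Subgroup.eq_bot_iff_forall _).1 this g hg

/-- A lower bound for the order of a subgroup when the action is faithful or not. -/
theorem le_card_gen_of_chain [Finite G] {K N k : ℕ} (hn : NetsOK K nets)
    (hf : ∀ g : G, (∀ i < N, ρ g i = i) → g = 1)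
    {ch : List (ℕ × ℕ × ℕ × List ℕ)} {L : List ℕ} (hρ : ∀ c ∈ L, ρ (e c) = sg nets c)
    (hc : chkChain N k nets ch L = true) :
    (ch.map fun a => a.2.2.1).prod ≤ Nat.card (gen e L) := by
  have h1 := card_mul_le_of_chain hn ch L hρ hc
  have : fixAll ρ N = ⊥ := (Subgroup.eq_bot_iff_forall _).2 hf
  simpa [this] using h1

theorem rels_of_faithful {N : ℕ} (hf : ∀ g : G, (∀ i < N, ρ g i = i) → g = 1)
    (hρ : ∀ c, ρ (e c) = sg nets c) {R : List (List ℕ)} (h : ∀ r ∈ R, ev (sg nets) r = 1) :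
    ∀ r ∈ R, ev e r = 1 := fun r hr => hf _ fun i _ => by
  rw [map_ev_sg fun c _ => hρ c, h r hr]; rfl

/-! ### Primitivity and simplicity -/

/-- The start set of the suborbit computation: `0` and the points sent to `0` by the letters. -/
noncomputable def primStart (nets : ℕ → Net) (xs : List ℕ) : ℕ :=
  List.rec (motive := fun _ => ℕ) 1 (fun x _ ih => Nat.lor ((nets x).pull 1) ih) xs

theorem testBit_primStart {K : ℕ} (hn : NetsOK K nets) : ∀ {xs : List ℕ} {s : ℕ},
    (primStart nets xs).testBit s = true → s = 0 ∨ ∃ x ∈ xs, sg nets x s = 0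
  | [], _, h => Or.inl (Nat.testBit_one_eq_true_iff_self_eq_zero.1 h)
  | x :: xs, s, h => by
    rw [show primStart nets (x :: xs) = Nat.lor ((nets x).pull 1) (primStart nets xs) from rfl,
      lor_eq, Nat.testBit_or, Bool.or_eq_true, Net.testBit_pull (hn x),
      Nat.testBit_one_eq_true_iff_self_eq_zero] at h
    rcases h with h | h
    · exact Or.inr ⟨x, by simp, h⟩
    · exact (testBit_primStart hn h).imp id fun ⟨y, hy, h⟩ => ⟨y, by simp [hy], h⟩

/-- The combinatorial content of primitivity: the letters `L` fix `0`, their orbits below `N` are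
those of `0` and of the points sent to `0` by the letters `xs`, and `L` with any one of `xs` is
transitive. -/
structure Prim (nets : ℕ → Net) (N : ℕ) (L xs : List ℕ) : Prop where
  fix : ∀ c ∈ L, sg nets c 0 = 0
  cover : Reach nets L (primStart nets xs) (ones N)
  trans : ∀ x ∈ xs, Reach nets (x :: L) (bit 0) (ones N)

/-- Test of `Prim` in one go. -/
noncomputable def chkPrim (nets : ℕ → Net) (N : ℕ) (L xs : List ℕ) (r1 r2 : ℕ) : Bool :=
  and2 (allL L fun c => sub 1 ((nets c).pull 1))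
    (and2 (sub (ones N) (orb nets L r1 (primStart nets xs)))
      (allL xs fun x => sub (ones N) (orb nets (x :: L) r2 (bit 0))))

theorem fix_zero_of_chk {K : ℕ} (hn : NetsOK K nets) {L : List ℕ}
    (h : (allL L fun c => sub 1 ((nets c).pull 1)) = true) : ∀ c ∈ L, sg nets c 0 = 0 := by
  intro c hc
  have := sub_true (allL_true.1 h c hc) (i := 0) (by simp)
  rwa [Net.testBit_pull (hn c), Nat.testBit_one_eq_true_iff_self_eq_zero] at this

theorem prim_of_chk {K N : ℕ} (hn : NetsOK K nets) {L xs : List ℕ} {r1 r2 : ℕ}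
    (h : chkPrim nets N L xs r1 r2 = true) : Prim nets N L xs := by
  rw [chkPrim, and2_true, and2_true] at h
  exact ⟨fix_zero_of_chk hn h.1, reach_of_chk hn h.2.1,
    fun x hx => reach_of_chk hn (allL_true.1 h.2.2 x hx)⟩

/-- A subgroup that contains the letters `L` either fixes `0` or is transitive. -/
theorem Prim.trans_of_le {K N : ℕ} (hn : NetsOK K nets) {L xs : List ℕ} (h : Prim nets N L xs)
    (ht : Trans ρ N) (hρ : ∀ c, ρ (e c) = sg nets c) {B : Set ℕ} (h0 : 0 ∈ B)
    (hB : ∀ g : G, ∀ i ∈ B, ρ g i ∈ B → ∀ j ∈ B, ρ g j ∈ B) {p : ℕ} (hp : p ∈ B) (hp0 : p ≠ 0)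
    (hpN : p < N) : ∀ i < N, i ∈ B := by
  have _ := ht.pos
  let S : Subgroup G :=
    { carrier := {g | ∀ j, ρ g j ∈ B ↔ j ∈ B}
      one_mem' := by simp
      mul_mem' := fun {a b} ha hb j => by rw [map_mul, Equiv.Perm.mul_apply, ha, hb]
      inv_mem' := fun {a} ha j => by rw [← ha, map_inv]; simp }
  have key : ∀ g : G, ∀ i ∈ B, ρ g i ∈ B → g ∈ S := fun g i hi hgi j =>
    ⟨fun hj => by simpa using hB g⁻¹ _ hgi (by simpa using hi) _ hj, hB g i hi hgi j⟩
  have hL : ∀ c ∈ L, e c ∈ S := fun c hc => key _ 0 h0 (by rw [hρ, h.fix c hc]; exact h0)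
  obtain ⟨g, hg, s, h1, h2⟩ := h.cover.exists_mem (e := e) (fun c _ => hρ c) (i := p)
    (by simp [testBit_ones, hpN])
  have hs : s ∈ B := (gen_le.2 hL hg s).1 (h2 ▸ hp)
  rcases testBit_primStart hn h1 with rfl | ⟨x, hx, h3⟩
  · exact absurd (h2.symm.trans (fix_of_mem_gen (fun c hc => by rw [hρ, h.fix c hc]) hg)) hp0
  · have hxS : e x ∈ S := key _ s hs (by rw [hρ, h3]; exact h0)
    intro i hi
    obtain ⟨g', hg', h4⟩ := (h.trans x hx).exists_bit (e := e) (fun c _ => hρ c) (i := i)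
      (by simp [testBit_ones, hi])
    have : g' ∈ S := gen_le.2 (fun c hc => by
      rcases List.mem_cons.1 hc with rfl | hc
      · exact hxS
      · exact hL c hc) hg'
    exact h4 ▸ (this 0).2 h0

theorem Prim.normal_transitive {K N : ℕ} (hn : NetsOK K nets) {L xs : List ℕ}
    (h : Prim nets N L xs) (ht : Trans ρ N) (hρ : ∀ c, ρ (e c) = sg nets c) (M : Subgroup G)
    [hM : M.Normal] (hne : ¬ M ≤ fixAll ρ N) : ∀ i < N, ∃ m ∈ M, ρ m 0 = i := by
  have : ∃ m ∈ M, ρ m 0 ≠ 0 := by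
    by_contra hcon
    push Not at hcon
    refine hne fun m hm i hi => ?_
    obtain ⟨g, rfl⟩ := ht.trans i hi
    have := hcon _ (hM.conj_mem' m hm g)
    rw [map_mul, map_mul, map_inv, Equiv.Perm.mul_apply, Equiv.Perm.mul_apply,
      Equiv.Perm.inv_eq_iff_eq] at this
    exact this
  obtain ⟨m, hm, hm0⟩ := this
  refine h.trans_of_le hn ht hρ (B := {i | ∃ m ∈ M, ρ m 0 = i}) ⟨1, M.one_mem, by simp⟩ ?_
    ⟨m, hm, rfl⟩ hm0 (ht.lt m 0 ht.pos)
  rintro g _ ⟨a, ha, rfl⟩ ⟨b, hb, h1⟩ _ ⟨c, hc, rfl⟩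
  refine ⟨g * (c * a⁻¹) * g⁻¹ * b, M.mul_mem (hM.conj_mem _ (M.mul_mem hc (M.inv_mem ha)) g) hb, ?_⟩
  simp [h1]

/-- The point stabiliser is a maximal subgroup. -/
theorem Prim.isCoatom {K N : ℕ} (hn : NetsOK K nets) {L xs : List ℕ}
    (h : Prim nets N L xs) (ht : Trans ρ N) (hρ : ∀ c, ρ (e c) = sg nets c) (hN : 1 < N) :
    IsCoatom (stab ρ 0) := by
  constructor
  · intro h1
    obtain ⟨g, hg⟩ := ht.trans 1 hN
    have : g ∈ stab ρ 0 := h1 ▸ Subgroup.mem_top g
    rw [mem_stab, hg] at this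
    exact absurd this (by simp)
  · intro M hM
    obtain ⟨m, hm, hm0⟩ := SetLike.exists_of_lt hM
    have := h.trans_of_le hn ht hρ (B := {i | ∃ m ∈ M, ρ m 0 = i}) ⟨1, M.one_mem, by simp⟩ ?_
      ⟨m, hm, rfl⟩ hm0 (ht.lt m 0 ht.pos)
    · rw [eq_top_iff]
      intro g _
      obtain ⟨a, ha, h1⟩ := this _ (ht.lt g 0 ht.pos)
      have h2 : a⁻¹ * g ∈ M := hM.le (by simp [mem_stab, ← h1])
      simpa using M.mul_mem ha h2
    · rintro g _ ⟨a, ha, rfl⟩ ⟨b, hb, h1⟩ _ ⟨c, hc, rfl⟩
      have h2 : b⁻¹ * (g * a) ∈ M := hM.le (by simp [mem_stab, ← h1])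
      have h3 : g ∈ M := by simpa using M.mul_mem (M.mul_mem hb h2) (M.inv_mem ha)
      exact ⟨g * c, M.mul_mem h3 hc, by simp⟩

theorem dvd_card_of_transitive {N : ℕ} (ht : Trans ρ N) (M : Subgroup G)
    (h : ∀ i < N, ∃ m ∈ M, ρ m 0 = i) : N ∣ Nat.card M := by
  have : Trans (ρ.comp M.subtype) N :=
    ⟨ht.pos, fun g => ht.lt g, fun i hi => by obtain ⟨m, hm, h1⟩ := h i hi; exact ⟨⟨m, hm⟩, h1⟩⟩
  exact ⟨_, this.card_eq⟩

theorem mem_of_pow_eq_one [Finite G] {M : Subgroup G} [M.Normal] {q m : ℕ}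
    (hG : Nat.card G = q * m) (hq : q ∣ Nat.card M) (hc : Nat.Coprime q m) {u : G}
    (hu : u ^ q = 1) : u ∈ M := by
  have h1 : M.index ∣ m := by
    obtain ⟨a, ha⟩ := hq
    have := M.index_mul_card
    rw [hG, ha] at this
    have hq0 : 0 < q := Nat.pos_of_ne_zero (by rintro rfl; have := Nat.card_pos (α := G); omega)
    exact ⟨a, Nat.eq_of_mul_eq_mul_left hq0 (by rw [← this]; ring)⟩
  rw [← QuotientGroup.eq_one_iff, ← orderOf_eq_one_iff]
  have h2 : orderOf (u : G ⧸ M) ∣ q := orderOf_dvd_of_pow_eq_one (by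
    rw [← QuotientGroup.mk_pow, hu]; rfl)
  have h3 : orderOf (u : G ⧸ M) ∣ m := (orderOf_dvd_natCard _).trans h1
  exact Nat.eq_one_of_dvd_coprimes hc h2 h3

end Orbits

/-! ### Killing letters modulo a normal subgroup -/

/-- Delete the letters of `S` and reduce freely; the result is accumulated in reverse. -/
noncomputable def killAux (iv : ℕ → ℕ) (S w : List ℕ) : List ℕ → List ℕ :=
  List.rec (motive := fun _ => List ℕ → List ℕ) (fun acc => acc) (fun y _ ih acc =>
    lit y fun y => Bool.rec (motive := fun _ => List ℕ)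
      (List.rec (motive := fun _ => List ℕ) (ih [y]) (fun z acc' _ =>
        Bool.rec (motive := fun _ => List ℕ) (ih (y :: z :: acc')) (ih acc') (Nat.beq (iv z) y)) acc)
      (ih acc) (memL y S)) w

theorem ev_killAux {G : Type*} [Group G] {e : ℕ → G} {iv : ℕ → ℕ} (h : IvOK e iv) {S : List ℕ}
    (hS : ∀ c ∈ S, e c = 1) : ∀ (w acc : List ℕ),
    ev e (killAux iv S w acc).reverse = ev e acc.reverse * ev e w
  | [], acc => by simp [show killAux iv S [] acc = acc from rfl]
  | y :: w, acc => by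
    rw [show killAux iv S (y :: w) acc = Bool.rec (motive := fun _ => List ℕ)
      (List.rec (motive := fun _ => List ℕ) (killAux iv S w [y]) (fun z acc' _ =>
        Bool.rec (motive := fun _ => List ℕ) (killAux iv S w (y :: z :: acc'))
          (killAux iv S w acc') (Nat.beq (iv z) y)) acc)
      (killAux iv S w acc) (memL y S) from rfl]
    cases hy : memL y S with
    | true =>
      change ev e (killAux iv S w acc).reverse = _
      rw [ev_killAux h hS, ev_cons, hS y (memL_true.1 hy), one_mul]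
    | false =>
      cases acc with
      | nil =>
        change ev e (killAux iv S w [y]).reverse = _
        rw [ev_killAux h hS]; simp
      | cons z acc' =>
        change ev e (Bool.rec (motive := fun _ => List ℕ) (killAux iv S w (y :: z :: acc'))
          (killAux iv S w acc') (Nat.beq (iv z) y)).reverse = _
        cases hz : Nat.beq (iv z) y with
        | false =>
          change ev e (killAux iv S w (y :: z :: acc')).reverse = _
          rw [ev_killAux h hS]; simp [mul_assoc]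
        | true =>
          change ev e (killAux iv S w acc').reverse = _
          rw [ev_killAux h hS, ← beq_true.1 hz]; simp [mul_assoc, h z]

/-- Each step `(r, s)` takes the rotation by `s` of relator `r`; if it reduces to one letter after
deleting the letters of `S`, this letter and its inverse join `S`. -/
noncomputable def killAll (iv : ℕ → ℕ) (R : List (List ℕ)) (l : List (ℕ × ℕ)) : List ℕ → List ℕ :=
  List.rec (motive := fun _ => List ℕ → List ℕ) (fun S => S) (fun a _ ih S =>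
    List.rec (motive := fun _ => List ℕ) (ih S) (fun y t _ =>
      List.rec (motive := fun _ => List ℕ) (ih (y :: iv y :: S)) (fun _ _ _ => ih S) t)
      (killAux iv S (rotW iv R a.1 a.2 0) [])) l

theorem killAll_spec {G : Type*} [Group G] {e : ℕ → G} {iv : ℕ → ℕ} (h : IvOK e iv)
    {R : List (List ℕ)} (hR : ∀ r ∈ R, ev e r = 1) : ∀ (l : List (ℕ × ℕ)) (S : List ℕ),
    (∀ c ∈ S, e c = 1) → ∀ c ∈ killAll iv R l S, e c = 1
  | [], _, hS => hS
  | a :: l, S, hS => by
    rw [show killAll iv R (a :: l) S = List.rec (motive := fun _ => List ℕ) (killAll iv R l S)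
      (fun y t _ => List.rec (motive := fun _ => List ℕ) (killAll iv R l (y :: iv y :: S))
        (fun _ _ _ => killAll iv R l S) t) (killAux iv S (rotW iv R a.1 a.2 0) []) from rfl]
    have key := ev_killAux h hS (rotW iv R a.1 a.2 0) []
    rw [ev_rotW h hR] at key
    cases hk : killAux iv S (rotW iv R a.1 a.2 0) [] with
    | nil => exact killAll_spec h hR l S hS
    | cons y t =>
      cases t with
      | cons _ _ => exact killAll_spec h hR l S hS
      | nil =>
        rw [hk] at key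
        have hy : e y = 1 := by simpa using key
        refine killAll_spec h hR l _ fun c hc => ?_
        simp only [List.mem_cons] at hc
        rcases hc with rfl | rfl | hc
        · exact hy
        · rw [h, hy, inv_one]
        · exact hS c hc

/-- A normal subgroup that contains the letters `S` is everything. -/
theorem eq_top_of_kill {G : Type*} [Group G] {e : ℕ → G} {iv : ℕ → ℕ} (h : IvOK e iv)
    {R : List (List ℕ)} (hR : ∀ r ∈ R, ev e r = 1) {L : List ℕ} (htop : gen e L = ⊤)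
    {l : List (ℕ × ℕ)} {S : List ℕ} (hc : (allL L fun c => memL c (killAll iv R l S)) = true)
    (M : Subgroup G) [M.Normal] (hS : ∀ c ∈ S, e c ∈ M) : M = ⊤ := by
  rw [eq_top_iff, ← htop, gen_le]
  intro c hcL
  have := killAll_spec (e := fun c => QuotientGroup.mk' M (e c)) (iv := iv)
    (fun c => by simp only [h c, map_inv]) (R := R)
    (fun r hr => by rw [← map_ev, hR r hr, map_one]) l S
    (fun c hc => (QuotientGroup.eq_one_iff _).2 (hS c hc)) c (memL_true.1 (allL_true.1 hc c hcL))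
  exact (QuotientGroup.eq_one_iff _).1 this

theorem ev_replicate {G : Type*} [Group G] (e : ℕ → G) (n u : ℕ) :
    ev e (List.replicate n u) = e u ^ n := by simp [ev]

/-- The simplicity criterion: a faithful primitive action on `N` points, a divisor `q` of `N`
coprime to `|G| / q`, and a letter `u` with `u ^ q = 1` whose normal closure is `G`. -/
theorem isSimpleGroup_of_cert {G : Type*} [Group G] {e : ℕ → G} {ρ : G →* Equiv.Perm ℕ}
    {nets : ℕ → Net} {K N q m u : ℕ} (hn : NetsOK K nets) {L xs : List ℕ}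
    (hp : Prim nets N L xs) (ht : Trans ρ N) (hρ : ∀ c, ρ (e c) = sg nets c)
    (hf : ∀ g : G, (∀ i < N, ρ g i = i) → g = 1) (hG : Nat.card G = q * m) (h1 : 1 < q * m)
    (hq : q ∣ N) (hc : Nat.Coprime q m) (hu : e u ^ q = 1)
    (hcl : ∀ (M : Subgroup G) [M.Normal], e u ∈ M → M = ⊤) : IsSimpleGroup G := by
  have : Finite G := Nat.finite_of_card_ne_zero (by omega)
  have : Nontrivial G := Finite.one_lt_card_iff_nontrivial.1 (by omega)
  refine ⟨fun M hM => ?_⟩
  by_cases hb : M = ⊥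
  · exact Or.inl hb
  refine Or.inr (hcl M (mem_of_pow_eq_one hG (hq.trans (dvd_card_of_transitive ht M ?_)) hc hu))
  refine hp.normal_transitive hn ht hρ M fun h => hb ?_
  exact (Subgroup.eq_bot_iff_forall _).2 fun g hg => hf g (h hg)

end H29
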