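import Mathlib
import Cfsg.Agent.H29.Group

/-!
# New letters, words as letters, and the transfer of relators

* `extE e n defs`: the letters `n + 2 j`, `n + 2 j + 1` are the value of the word `defs[j]` and its
  inverse (a straight-line program);
* `wE`, `wNets`: a list of words used as a new alphabet;
* `Tr e e' L`: every relator on the letters `L` of `e` holds for `e'`.
-/

set_option autoImplicit false

namespace H29

section Ext

variable {G : Type*} [Group G]

/-- The letters from `n` on are given by the straight-line program `defs`. -/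
structure IsExt (e : ℕ → G) (n : ℕ) (defs : List (List ℕ)) : Prop where
  even : ∀ j, e (n + 2 * j) = ev e (nth [] defs j)
  odd : ∀ j, e (n + 2 * j + 1) = (e (n + 2 * j))⁻¹

/-- Extend `e` by the straight-line program `defs`. -/
noncomputable def extE (e : ℕ → G) (n : ℕ) (defs : List (List ℕ)) (c : ℕ) : G :=
  if c < n then e c else
    let g := ((nth [] defs ((c - n) / 2)).map fun y =>
      if _h : y < c - (c - n) % 2 then extE e n defs y else 1).prod
    if (c - n) % 2 = 0 then g else g⁻¹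
termination_by c
decreasing_by omega

theorem extE_lt (e : ℕ → G) (n : ℕ) (defs : List (List ℕ)) {c : ℕ} (h : c < n) :
    extE e n defs c = e c := by rw [extE, if_pos h]

/-- The definitions use earlier letters only, and `ivl` extends `ivl0` in the right way. -/
noncomputable def chkExt (n : ℕ) (defs : List (List ℕ)) (ivl0 ivl : List ℕ) : Bool :=
  and2 (allN defs.length fun j => lit (Nat.add n (Nat.mul 2 j)) fun c =>
      and2 (allL (nth [] defs j) fun y => Nat.ble (Nat.succ y) c)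
        (and2 (Nat.beq (ivOf ivl c) (Nat.succ c)) (Nat.beq (ivOf ivl (Nat.succ c)) c)))
    (and2 (allN n fun c => and2 (Nat.beq (ivOf ivl c) (ivOf ivl0 c))
        (Nat.ble (Nat.succ (ivOf ivl0 c)) n))
      (Nat.ble ivl.length (Nat.add n (Nat.mul 2 defs.length))))

theorem nth_default {α : Type} (d : α) {l : List α} {j : ℕ} (h : l.length ≤ j) : nth d l j = d := by
  rw [nth_eq, List.getD_eq_default _ _ h]

theorem chkExt_wf {n : ℕ} {defs : List (List ℕ)} {ivl0 ivl : List ℕ}
    (h : chkExt n defs ivl0 ivl = true) (j : ℕ) : ∀ y ∈ nth [] defs j, y < n + 2 * j := by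
  simp only [chkExt, and2_true, allN_true, allL_true, lit_eq, ble_true] at h
  by_cases hj : j < defs.length
  · exact fun y hy => (h.1 j hj).1 y hy
  · rw [nth_default _ (by omega)]; simp

theorem isExt_extE (e : ℕ → G) {n : ℕ} {defs : List (List ℕ)}
    (h : ∀ j, ∀ y ∈ nth [] defs j, y < n + 2 * j) : IsExt (extE e n defs) n defs := by
  have key : ∀ j, extE e n defs (n + 2 * j) = ev (extE e n defs) (nth [] defs j) := by
    intro j
    rw [extE, if_neg (by omega)]
    simp only [Nat.add_sub_cancel_left, Nat.mul_mod_right, Nat.sub_zero, if_true,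
      Nat.mul_div_cancel_left j two_pos, ev]
    congr 1
    exact List.map_congr_left fun y hy => dif_pos (h j y hy)
  refine ⟨key, fun j => ?_⟩
  rw [key, extE, if_neg (by omega)]
  have e1 : (n + 2 * j + 1 - n) % 2 = 1 := by omega
  have e2 : (n + 2 * j + 1 - n) / 2 = j := by omega
  simp only [e1, e2, one_ne_zero, if_false, Nat.add_sub_cancel, ev]
  congr 2
  exact List.map_congr_left fun y hy => dif_pos (h j y hy)

theorem ext_cases (n c : ℕ) : c < n ∨ (∃ j, c = n + 2 * j) ∨ ∃ j, c = n + 2 * j + 1 := by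
  by_cases h : c < n
  · exact Or.inl h
  · rcases Nat.mod_two_eq_zero_or_one (c - n) with h1 | h1
    · exact Or.inr (Or.inl ⟨(c - n) / 2, by omega⟩)
    · exact Or.inr (Or.inr ⟨(c - n) / 2, by omega⟩)

theorem IsExt.map_eq {H : Type*} [Group H] {e : ℕ → G} {σ : ℕ → H} {n : ℕ} {defs : List (List ℕ)}
    (wf : ∀ j, ∀ y ∈ nth [] defs j, y < n + 2 * j) (he : IsExt e n defs) (hσ : IsExt σ n defs)
    {ρ : G →* H} (h0 : ∀ c < n, ρ (e c) = σ c) (c : ℕ) : ρ (e c) = σ c := by
  induction c using Nat.strong_induction_on with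
  | _ c ih =>
    rcases ext_cases n c with h | ⟨j, rfl⟩ | ⟨j, rfl⟩
    · exact h0 c h
    · rw [he.even, hσ.even, map_ev]
      exact ev_congr fun y hy => ih y (wf j y hy)
    · rw [he.odd, hσ.odd, map_inv, ih _ (by omega)]

theorem IsExt.eq_one {e : ℕ → G} {n : ℕ} {defs : List (List ℕ)} (he : IsExt e n defs) {c : ℕ}
    (h : n + 2 * defs.length ≤ c) : e c = 1 := by
  rcases ext_cases n c with h | ⟨j, rfl⟩ | ⟨j, rfl⟩
  · omega
  · rw [he.even, nth_default _ (by omega)]; rfl
  · rw [he.odd, he.even, nth_default _ (by omega)]; simp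

theorem ivOK_extE {e : ℕ → G} {n : ℕ} {defs : List (List ℕ)} {ivl0 ivl : List ℕ}
    (h0 : IvOK e (ivOf ivl0)) (h : chkExt n defs ivl0 ivl = true) :
    IvOK (extE e n defs) (ivOf ivl) := by
  have he := isExt_extE e (chkExt_wf h)
  simp only [chkExt, and2_true, allN_true, allL_true, lit_eq, ble_true, beq_true] at h
  intro c
  by_cases hc : n + 2 * defs.length ≤ c
  · rw [ivOf, nth_default _ (h.2.2.trans hc), he.eq_one hc, inv_one]
  rcases ext_cases n c with h1 | ⟨j, rfl⟩ | ⟨j, rfl⟩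
  · rw [(h.2.1 c h1).1, extE_lt _ _ _ h1, extE_lt _ _ _ (h.2.1 c h1).2, h0]
  · rw [← he.odd]; exact congrArg _ (h.1 j (by omega)).2.1
  · rw [he.odd, inv_inv]; exact congrArg _ (h.1 j (by omega)).2.2

/-- The defining relators of the new letters, from number `c` on. -/
noncomputable def defRels (defs : List (List ℕ)) : ℕ → List (List ℕ) :=
  List.rec (motive := fun _ => ℕ → List (List ℕ)) (fun _ => [])
    (fun w _ ih c => (Nat.succ c :: w) :: lit (Nat.add c 2) ih) defs

theorem mem_defRels : ∀ {defs : List (List ℕ)} {n : ℕ} {r : List ℕ},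
    r ∈ defRels defs n ↔ ∃ j < defs.length, r = (n + 2 * j + 1) :: nth [] defs j
  | [], n, r => by simp [show defRels [] n = [] from rfl]
  | w :: t, n, r => by
    rw [show defRels (w :: t) n = ((n + 1) :: w) :: defRels t (n + 2) from rfl, List.mem_cons,
      mem_defRels]
    constructor
    · rintro (rfl | ⟨j, hj, rfl⟩)
      · exact ⟨0, by simp, rfl⟩
      · exact ⟨j + 1, by simpa using hj, by rw [show n + 2 + 2 * j = n + 2 * (j + 1) by ring]; rfl⟩
    · rintro ⟨j, hj, rfl⟩
      cases j with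
      | zero => exact Or.inl rfl
      | succ j =>
        exact Or.inr ⟨j, by simpa using hj, by rw [show n + 2 + 2 * j = n + 2 * (j + 1) by ring]; rfl⟩

theorem IsExt.rels {e : ℕ → G} {n : ℕ} {defs : List (List ℕ)} (he : IsExt e n defs) :
    ∀ r ∈ defRels defs n, ev e r = 1 := by
  intro r hr
  obtain ⟨j, -, rfl⟩ := mem_defRels.1 hr
  rw [ev_cons, he.odd, he.even, inv_mul_cancel]

theorem isExt_of_rels {σ : ℕ → G} {n : ℕ} {defs : List (List ℕ)} {ivl0 ivl : List ℕ}
    (h : chkExt n defs ivl0 ivl = true) (hiv : IvOK σ (ivOf ivl))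
    (hR : ∀ r ∈ defRels defs n, ev σ r = 1) (h1 : ∀ c, n + 2 * defs.length ≤ c → σ c = 1) :
    IsExt σ n defs := by
  simp only [chkExt, and2_true, allN_true, allL_true, lit_eq, ble_true, beq_true] at h
  have key : ∀ j, σ (n + 2 * j + 1) = (σ (n + 2 * j))⁻¹ := by
    intro j
    by_cases hj : j < defs.length
    · rw [← hiv]; exact congrArg _ (h.1 j hj).2.1.symm
    · rw [h1 _ (by omega), h1 _ (by omega), inv_one]
  refine ⟨fun j => ?_, key⟩
  by_cases hj : j < defs.length
  · have := hR _ (mem_defRels.2 ⟨j, hj, rfl⟩)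
    rwa [ev_cons, key, inv_mul_eq_one] at this
  · rw [h1 _ (by omega), nth_default _ (by omega)]; rfl

theorem sg_nth_eq_one {l : List Net} {c : ℕ} (h : l.length ≤ c) : sg (nth Net.nil l) c = 1 := by
  rw [sg, nth_default _ h]; rfl

/-- A homomorphism that matches the old letters matches the new ones. -/
theorem map_extE {e : ℕ → G} {n : ℕ} {defs : List (List ℕ)} {ivl0 ivl : List ℕ} {l : List Net}
    (h : chkExt n defs ivl0 ivl = true) (hiv : IvOK (sg (nth Net.nil l)) (ivOf ivl))
    (hR : ∀ r ∈ defRels defs n, ev (sg (nth Net.nil l)) r = 1)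
    (hl : l.length ≤ n + 2 * defs.length) {ρ : G →* Equiv.Perm ℕ}
    (h0 : ∀ c < n, ρ (e c) = sg (nth Net.nil l) c) (c : ℕ) :
    ρ (extE e n defs c) = sg (nth Net.nil l) c :=
  (isExt_extE e (chkExt_wf h)).map_eq (chkExt_wf h)
    (isExt_of_rels h hiv hR fun _ hc => sg_nth_eq_one (hl.trans hc))
    (fun c hc => by rw [extE_lt _ _ _ hc, h0 c hc]) c

/-- All letters of all words are below `n`. -/
noncomputable def chkLt (n : ℕ) (R : List (List ℕ)) : Bool :=
  allL R fun w => allL w fun y => Nat.ble (Nat.succ y) n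

theorem rels_extE {e : ℕ → G} {n : ℕ} {defs R : List (List ℕ)} (hR : ∀ r ∈ R, ev e r = 1)
    (h : chkLt n R = true) : ∀ r ∈ R, ev (extE e n defs) r = 1 := fun r hr => by
  rw [ev_congr (e' := e) fun c hc =>
    extE_lt _ _ _ (ble_true.1 (allL_true.1 (allL_true.1 h r hr) c hc)), hR r hr]

theorem gen_extE (e : ℕ → G) {n : ℕ} (defs : List (List ℕ)) {l : List ℕ}
    (h : (allL l fun y => Nat.ble (Nat.succ y) n) = true) : gen (extE e n defs) l = gen e l :=
  gen_congr fun c hc => extE_lt _ _ _ (ble_true.1 (allL_true.1 h c hc))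

/-- Membership in a list of words. -/
noncomputable def memLL (w : List ℕ) (R : List (List ℕ)) : Bool :=
  List.rec (motive := fun _ => Bool) false (fun a _ ih => Bool.rec ih true (eqL a w)) R

theorem memLL_true {w : List ℕ} : ∀ {R : List (List ℕ)}, memLL w R = true → w ∈ R
  | [], h => absurd h (by simp [show memLL w [] = false from rfl])
  | a :: t, h => by
    rw [show memLL w (a :: t) = Bool.rec (memLL w t) true (eqL a w) from rfl] at h
    cases h1 : eqL a w with
    | true => rw [eqL_true h1]; simp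
    | false => rw [h1] at h; exact List.mem_cons_of_mem _ (memLL_true h)

theorem rels_sub {e : ℕ → G} {R R' : List (List ℕ)} (hR : ∀ r ∈ R, ev e r = 1)
    (h : (allL R' fun w => memLL w R) = true) : ∀ r ∈ R', ev e r = 1 :=
  fun r hr => hR r (memLL_true (allL_true.1 h r hr))

theorem gen_sub {e : ℕ → G} {l l' : List ℕ} (h : (allL l fun c => memL c l') = true) :
    gen e l ≤ gen e l' := gen_mono fun c hc => memL_true.1 (allL_true.1 h c hc)

/-- `gen e l ≤ gen e l'` if each letter of `l` is in `l'` or is the inverse of one in `l'`. -/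
theorem gen_sub_iv {e : ℕ → G} {iv : ℕ → ℕ} (hiv : IvOK e iv) {l l' : List ℕ}
    (h : (allL l fun c => Bool.rec (memL (iv c) l') true (memL c l')) = true) :
    gen e l ≤ gen e l' := gen_le.2 fun c hc => by
  have := allL_true.1 h c hc
  cases h1 : memL c l' with
  | true => exact mem_gen (memL_true.1 h1)
  | false =>
    rw [h1] at this
    have h2 := mem_gen (e := e) (memL_true.1 this)
    rw [hiv] at h2
    exact (Subgroup.inv_mem_iff _).1 h2

theorem mem_of_odd {M : Subgroup G} [M.Normal] {u a : G} (hu : u ∈ M) (ha : a * a = 1) {n : ℕ}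
    (h : (u * a) ^ (2 * n + 1) = 1) : a ∈ M := by
  rw [← QuotientGroup.eq_one_iff] at hu ⊢
  have h1 := congrArg (QuotientGroup.mk' M) h
  have h2 := congrArg (QuotientGroup.mk' M) ha
  simp only [map_pow, map_mul, QuotientGroup.mk'_apply, hu, one_mul, map_one] at h1 h2
  rwa [pow_succ, pow_mul, sq, h2, one_pow, one_mul] at h1

/-- The `m`-th power of a word. -/
noncomputable def powW (m : ℕ) (w : List ℕ) : List ℕ :=
  Nat.rec (motive := fun _ => List ℕ) [] (fun _ ih => w ++ ih) m

theorem ev_powW (e : ℕ → G) (w : List ℕ) : ∀ m, ev e (powW m w) = ev e w ^ m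
  | 0 => by simp [show powW 0 w = [] from rfl]
  | m + 1 => by
    rw [show powW (m + 1) w = w ++ powW m w from rfl, ev_append, ev_powW e w m, pow_succ']

end Ext

/-! ### Words as letters -/

/-- Concatenation of networks. -/
noncomputable def Net.app (n m : Net) : Net :=
  Net.rec (motive := fun _ => Net) m (fun d k _ ih => Net.cons d k ih) n

theorem Net.app_perm : ∀ n m : Net, (n.app m).perm = n.perm * m.perm
  | .nil, m => by simp [show Net.nil.app m = m from rfl, Net.perm]
  | .cons d k r, m => by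
    rw [show (Net.cons d k r).app m = .cons d k (r.app m) from rfl]
    simp [Net.perm, Net.app_perm r m, mul_assoc]

theorem Net.app_valid {K : ℕ} : ∀ {n m : Net}, n.valid K = true → m.valid K = true →
    (n.app m).valid K = true
  | .nil, _, _, h => h
  | .cons d k r, m, h, h' => by
    obtain ⟨h1, h2, h3⟩ := Net.valid_cons.1 h
    exact Net.valid_cons.2 ⟨h1, h2, Net.app_valid (n := r) h3 h'⟩

/-- The network of a word. -/
noncomputable def wordNet (nets : ℕ → Net) (w : List ℕ) : Net :=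
  List.rec (motive := fun _ => Net) Net.nil (fun y _ ih => (nets y).app ih) w

theorem wordNet_perm (nets : ℕ → Net) : ∀ w, (wordNet nets w).perm = ev (sg nets) w
  | [] => rfl
  | y :: w => by
    rw [show wordNet nets (y :: w) = (nets y).app (wordNet nets w) from rfl, Net.app_perm,
      wordNet_perm nets w]; rfl

theorem wordNet_valid {K : ℕ} {nets : ℕ → Net} (h : NetsOK K nets) :
    ∀ w, (wordNet nets w).valid K = true
  | [] => rfl
  | y :: w => Net.app_valid (h y) (wordNet_valid h w)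

/-- The words of `wl` as a new alphabet. -/
noncomputable def wE {G : Type*} [Group G] (e : ℕ → G) (wl : List (List ℕ)) (c : ℕ) : G :=
  ev e (nth [] wl c)

/-- The networks of the words of `wl`. -/
noncomputable def wNets (nets : ℕ → Net) (wl : List (List ℕ)) (c : ℕ) : Net :=
  wordNet nets (nth [] wl c)

theorem NetsOK.wNets {K : ℕ} {nets : ℕ → Net} (h : NetsOK K nets) (wl : List (List ℕ)) :
    NetsOK K (wNets nets wl) := fun _ => wordNet_valid h _

theorem sg_wNets (nets : ℕ → Net) (wl : List (List ℕ)) : sg (wNets nets wl) = wE (sg nets) wl :=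
  funext fun _ => wordNet_perm _ _

theorem map_wE {G : Type*} [Group G] {e : ℕ → G} {ρ : G →* Equiv.Perm ℕ} {nets : ℕ → Net}
    (hρ : ∀ c, ρ (e c) = sg nets c) (wl : List (List ℕ)) (c : ℕ) :
    ρ (wE e wl c) = sg (wNets nets wl) c := by
  rw [sg_wNets, wE, map_ev_sg fun c _ => hρ c]; rfl

/-! ### Transfer of relators -/

section Tr

variable {G H J : Type*} [Group G] [Group H] [Group J]

/-- Every relator of `e` on the letters of `L` is a relator of `e'`. -/
def Tr (e : ℕ → G) (e' : ℕ → H) (L : List ℕ) : Prop :=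
  ∀ w : List ℕ, (∀ c ∈ w, c ∈ L) → ev e w = 1 → ev e' w = 1

theorem Tr.trans {e : ℕ → G} {e' : ℕ → H} {e'' : ℕ → J} {L : List ℕ} (h : Tr e e' L)
    (h' : Tr e' e'' L) : Tr e e'' L := fun w hw h1 => h' w hw (h w hw h1)

theorem Tr.mono {e : ℕ → G} {e' : ℕ → H} {L L' : List ℕ} (h : Tr e e' L)
    (h' : ∀ c ∈ L', c ∈ L) : Tr e e' L' := fun w hw h1 => h w (fun c hc => h' c (hw c hc)) h1

theorem Tr.of_hom {e : ℕ → G} {e' : ℕ → H} {L : List ℕ} (ρ : G →* H)
    (h : ∀ c ∈ L, ρ (e c) = e' c) : Tr e e' L := fun w hw h1 => by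
  rw [← ev_congr (e := fun c => ρ (e c)) fun c hc => h c (hw c hc), ← map_ev, h1, map_one]

theorem Tr.of_injective {e : ℕ → G} {e' : ℕ → H} {L : List ℕ} (ρ : G →* H)
    (hρ : Function.Injective ρ) (h : ∀ c ∈ L, ρ (e c) = e' c) : Tr e' e L := fun w hw h1 => by
  apply hρ
  rw [map_one, map_ev, ev_congr fun c hc => h c (hw c hc), h1]

theorem Tr.of_faithful {e : ℕ → G} {ρ : G →* Equiv.Perm ℕ} {σ : ℕ → Equiv.Perm ℕ} {N : ℕ}
    {L : List ℕ} (hf : ∀ g : G, (∀ i < N, ρ g i = i) → g = 1) (h : ∀ c ∈ L, ρ (e c) = σ c) :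
    Tr σ e L :=
  Tr.of_injective ρ ((injective_iff_map_eq_one ρ).2 fun g hg => hf g fun i _ => by rw [hg]; rfl) h

theorem Tr.eq {e : ℕ → G} {e' : ℕ → H} {L : List ℕ} {iv : ℕ → ℕ} (h : Tr e e' L)
    (h1 : IvOK e iv) (h2 : IvOK e' iv) (hL : ∀ c ∈ L, iv c ∈ L) {u v : List ℕ}
    (hu : ∀ c ∈ u, c ∈ L) (hv : ∀ c ∈ v, c ∈ L) (huv : ev e u = ev e v) : ev e' u = ev e' v := by
  have := h (u ++ invW iv v) (fun c hc => ?_) (by rw [ev_append, ev_invW h1, huv, mul_inv_cancel])
  · rwa [ev_append, ev_invW h2, mul_inv_eq_one] at this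
  · rcases List.mem_append.1 hc with hc | hc
    · exact hu c hc
    · rw [invW_eq, List.mem_reverse, List.mem_map] at hc
      obtain ⟨y, hy, rfl⟩ := hc
      exact hL y (hv y hy)

theorem Tr.exists_hom {e : ℕ → G} {e' : ℕ → H} {L : List ℕ} {iv : ℕ → ℕ} (h : Tr e e' L)
    (h1 : IvOK e iv) (h2 : IvOK e' iv) (hL : ∀ c ∈ L, iv c ∈ L) :
    ∃ f : gen e L →* H, ∀ (w : List ℕ) (hw : ∀ c ∈ w, c ∈ L),
      f ⟨ev e w, ev_mem_gen hw⟩ = ev e' w := by
  choose W hW1 hW2 using fun g : gen e L => exists_word h1 hL g.2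
  refine ⟨MonoidHom.mk' (fun g => ev e' (W g)) fun a b => ?_, fun w hw => ?_⟩
  · rw [← ev_append]
    refine h.eq h1 h2 hL (hW1 _) (fun c hc => (List.mem_append.1 hc).elim (hW1 a c) (hW1 b c)) ?_
    rw [ev_append, hW2, hW2, hW2]; rfl
  · exact h.eq h1 h2 hL (hW1 _) hw (hW2 _)

theorem Tr.exists_surj {e : ℕ → G} {e' : ℕ → H} {L : List ℕ} {iv : ℕ → ℕ} (h : Tr e e' L)
    (h1 : IvOK e iv) (h2 : IvOK e' iv) (hL : ∀ c ∈ L, iv c ∈ L) :
    ∃ f : gen e L →* gen e' L, Function.Surjective f ∧ ∀ (w : List ℕ) (hw : ∀ c ∈ w, c ∈ L),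
      (f ⟨ev e w, ev_mem_gen hw⟩ : H) = ev e' w := by
  obtain ⟨f, hf⟩ := h.exists_hom h1 h2 hL
  refine ⟨f.codRestrict _ fun g => ?_, fun g => ?_, hf⟩
  · obtain ⟨w, hw, h3⟩ := exists_word h1 hL g.2
    rw [show g = ⟨ev e w, ev_mem_gen hw⟩ from Subtype.ext h3.symm, hf w hw]
    exact ev_mem_gen hw
  · obtain ⟨w, hw, h3⟩ := exists_word h2 hL g.2
    exact ⟨⟨ev e w, ev_mem_gen hw⟩, Subtype.ext ((hf w hw).trans h3)⟩

theorem Tr.bd {e : ℕ → G} {e' : ℕ → H} {L : List ℕ} {iv : ℕ → ℕ} (h : Tr e e' L)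
    (h1 : IvOK e iv) (h2 : IvOK e' iv) (hL : ∀ c ∈ L, iv c ∈ L) {n : ℕ} (hb : Bd (gen e L) n) :
    Bd (gen e' L) n := by
  obtain ⟨f, hf, -⟩ := h.exists_surj h1 h2 hL
  have := hb.1
  exact ⟨Finite.of_surjective f hf, (Nat.card_le_card_of_surjective f hf).trans hb.2⟩

theorem Tr.card_le {e : ℕ → G} {e' : ℕ → H} {L : List ℕ} {iv : ℕ → ℕ} (h : Tr e e' L)
    (h1 : IvOK e iv) (h2 : IvOK e' iv) (hL : ∀ c ∈ L, iv c ∈ L) [hf : Finite (gen e L)] :
    Nat.card (gen e' L) ≤ Nat.card (gen e L) := (h.bd h1 h2 hL ⟨hf, le_rfl⟩).2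

theorem Tr.equiv {e : ℕ → G} {e' : ℕ → H} {L : List ℕ} {iv : ℕ → ℕ} (h : Tr e e' L)
    (h' : Tr e' e L) (h1 : IvOK e iv) (h2 : IvOK e' iv) (hL : ∀ c ∈ L, iv c ∈ L) :
    ∃ f : gen e L ≃* gen e' L, ∀ (w : List ℕ) (hw : ∀ c ∈ w, c ∈ L),
      (f ⟨ev e w, ev_mem_gen hw⟩ : H) = ev e' w := by
  obtain ⟨f, hf, hf2⟩ := h.exists_surj h1 h2 hL
  refine ⟨MulEquiv.ofBijective f ⟨(injective_iff_map_eq_one f).2 fun g hg => ?_, hf⟩, hf2⟩
  obtain ⟨w, hw, h3⟩ := exists_word h1 hL g.2
  rw [show g = ⟨ev e w, ev_mem_gen hw⟩ from Subtype.ext h3.symm] at hg ⊢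
  exact Subtype.ext (h' w hw (by rw [← hf2 w hw, hg]; rfl))

/-- Equal finite orders turn a transfer around. -/
theorem Tr.symm_of_card {e : ℕ → G} {e' : ℕ → H} {L : List ℕ} {iv : ℕ → ℕ} (h : Tr e e' L)
    (h1 : IvOK e iv) (h2 : IvOK e' iv) (hL : ∀ c ∈ L, iv c ∈ L) {n : ℕ} (hb : Bd (gen e L) n)
    (hn : n ≤ Nat.card (gen e' L)) : Tr e' e L := by
  obtain ⟨f, hf, hf2⟩ := h.exists_surj h1 h2 hL
  have := hb.1
  have := Finite.of_surjective f hf
  have hbij := (Nat.bijective_iff_surjective_and_card f).2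
    ⟨hf, le_antisymm (hb.2.trans hn) (Nat.card_le_card_of_surjective f hf)⟩
  intro w hw h3
  have := hbij.1 (a₁ := ⟨ev e w, ev_mem_gen hw⟩) (a₂ := 1)
    (by rw [map_one]; exact Subtype.ext ((hf2 w hw).trans h3))
  exact congrArg Subtype.val this

end Tr

/-- Plane `j` of the test that `p` carries the action `nets'` below `K'` into the action `nets`. -/
noncomputable def chkRes (K k K' : ℕ) (nets nets' : ℕ → Net) (p : Net) (L : List ℕ) (j : ℕ) : Bool :=
  seqN (Nat.land (p.pull (idK K k j)) (ones K')) fun x => allL L fun c =>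
    seqN ((nets c).pull (idK K k j)) fun y =>
      Nat.beq (Nat.land (p.pull y) (ones K')) ((nets' c).pull x)

theorem res_of_chk {K k K' : ℕ} {nets nets' : ℕ → Net} {p : Net} {L : List ℕ}
    (hn : NetsOK K nets) (hn' : NetsOK K' nets') (hp : p.valid K = true) (hK : K ≤ 2 ^ k)
    (hK' : K' ≤ K) (h : ∀ j < k, chkRes K k K' nets nets' p L j = true) :
    ∀ c ∈ L, ∀ i < K', sg nets c (p.perm i) = p.perm (sg nets' c i) := by
  intro c hc i hi
  have a1 : p.perm i < K := lt_of_fix (fun i hi => Net.perm_fix hp hi) (by omega)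
  have a2 : sg nets c (p.perm i) < K := lt_of_fix (fun i hi => Net.perm_fix (hn c) hi) a1
  have a3 : sg nets' c i < K' := lt_of_fix (fun i hi => Net.perm_fix (hn' c) hi) hi
  have a4 : p.perm (sg nets' c i) < K := lt_of_fix (fun i hi => Net.perm_fix hp hi) (by omega)
  apply Nat.eq_of_testBit_eq
  intro j
  by_cases hj : j < k
  · have := h j hj
    simp only [chkRes, seqN_eq, allL_true, beq_true] at this
    have := congrArg (fun x => Nat.testBit x i) (this c hc)
    simp only [land_eq, Nat.testBit_and, Net.testBit_pull hp, Net.testBit_pull (hn c),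
      Net.testBit_pull (hn' c), testBit_ones, testBit_idK hK] at this
    simpa [sg, hi, show (nets c).perm (p.perm i) < K from a2, show (nets' c).perm i < K' from a3,
      show p.perm ((nets' c).perm i) < K from a4] using this
  · have : 2 ^ k ≤ 2 ^ j := Nat.pow_le_pow_right (by norm_num) (by omega)
    rw [Nat.testBit_lt_two_pow (by omega), Nat.testBit_lt_two_pow (by omega)]

theorem Tr.of_res {K' : ℕ} {nets nets' : ℕ → Net} {p : Equiv.Perm ℕ} {L : List ℕ}
    (hn' : NetsOK K' nets')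
    (h : ∀ c ∈ L, ∀ i < K', sg nets c (p i) = p (sg nets' c i)) : Tr (sg nets) (sg nets') L := by
  have key : ∀ w : List ℕ, (∀ c ∈ w, c ∈ L) → ∀ i < K',
      ev (sg nets) w (p i) = p (ev (sg nets') w i) := by
    intro w
    induction w with
    | nil => simp
    | cons y t ih =>
      intro hw i hi
      rw [ev_cons, ev_cons, Equiv.Perm.mul_apply, Equiv.Perm.mul_apply,
        ih (fun c hc => hw c (by simp [hc])) i hi,
        h y (hw y (by simp)) _ (lt_of_fix (fun i hi => ev_sg_fix hn' t hi) hi)]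
  intro w hw h1
  ext i
  by_cases hi : i < K'
  · have := key w hw i hi
    rw [h1] at this
    exact (p.injective this).symm
  · exact ev_sg_fix hn' w (by omega)

end H29
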