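import Mathlib
import Cfsg.Agent.H29.Ext

/-!
# Packaged certificates: extra networks, simplicity, permutation groups on `Fin N`
-/

set_option autoImplicit false

namespace H29

/-- Each network followed by its reverse. -/
noncomputable def dbl (l : List Net) : List Net :=
  List.rec (motive := fun _ => List Net) [] (fun m _ ih => m :: m.rev :: ih) l

theorem dbl_length : ∀ l : List Net, (dbl l).length = 2 * l.length
  | [] => rfl
  | m :: l => by
    rw [show dbl (m :: l) = m :: m.rev :: dbl l from rfl]; simp [dbl_length l]; ring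

theorem nth_dbl : ∀ (l : List Net) (j : ℕ), nth Net.nil (dbl l) (2 * j) = nth Net.nil l j ∧
    nth Net.nil (dbl l) (2 * j + 1) = (nth Net.nil l j).rev
  | [], _ => ⟨rfl, rfl⟩
  | _ :: _, 0 => ⟨rfl, rfl⟩
  | _ :: l, j + 1 => nth_dbl l j

theorem nth_append_left {α : Type} (d : α) : ∀ (l l' : List α) {c : ℕ}, c < l.length →
    nth d (l ++ l') c = nth d l c
  | [], _, _, h => absurd h (by simp)
  | _ :: _, _, 0, _ => rfl
  | _ :: l, l', c + 1, h => nth_append_left d l l' (c := c) (by simpa using h)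

theorem nth_append_right {α : Type} (d : α) : ∀ (l l' : List α) (c : ℕ),
    nth d (l ++ l') (l.length + c) = nth d l' c
  | [], _, c => by simp
  | a :: l, l', c => by
    rw [List.length_cons, show l.length + 1 + c = (l.length + c) + 1 by ring]
    exact nth_append_right d l l' c

theorem netsOK_ext {K : ℕ} {l ly : List Net} (h : NetsOK K (nth Net.nil l))
    (h' : allL ly (Net.valid K) = true) : NetsOK K (nth Net.nil (l ++ dbl ly)) := by
  intro c
  have h1 := netsOK_of_all h'
  rcases ext_cases l.length c with hc | ⟨j, rfl⟩ | ⟨j, rfl⟩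
  · rw [nth_append_left _ _ _ hc]; exact h c
  · rw [nth_append_right, (nth_dbl ly j).1]; exact h1 j
  · rw [add_assoc, nth_append_right, (nth_dbl ly j).2]; exact Net.rev_valid (h1 j)

theorem ivOK_ext {l ly : List Net} {defs : List (List ℕ)} {ivl0 ivl : List ℕ} {n : ℕ}
    (h0 : IvOK (sg (nth Net.nil l)) (ivOf ivl0)) (h : chkExt n defs ivl0 ivl = true)
    (h1 : l.length = n) (h2 : ly.length = defs.length) :
    IvOK (sg (nth Net.nil (l ++ dbl ly))) (ivOf ivl) := by
  subst h1
  simp only [chkExt, and2_true, allN_true, allL_true, lit_eq, ble_true, beq_true] at h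
  intro c
  by_cases hc : l.length + 2 * defs.length ≤ c
  · rw [ivOf, nth_default _ (h.2.2.trans hc), sg_nth_eq_one (by simp [dbl_length, h2, hc]), inv_one]
  have key : ∀ j, sg (nth Net.nil (l ++ dbl ly)) (l.length + 2 * j + 1) =
      (sg (nth Net.nil (l ++ dbl ly)) (l.length + 2 * j))⁻¹ := fun j => by
    rw [sg, sg, add_assoc, nth_append_right, nth_append_right, (nth_dbl ly j).1, (nth_dbl ly j).2,
      Net.rev_perm]
  rcases ext_cases l.length c with h1 | ⟨j, rfl⟩ | ⟨j, rfl⟩
  · rw [(h.2.1 c h1).1, sg, sg, nth_append_left _ _ _ h1, nth_append_left _ _ _ (h.2.1 c h1).2]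
    exact h0 c
  · rw [← key]; exact congrArg _ (h.1 j (by omega)).2.1
  · rw [key, inv_inv]; exact congrArg _ (h.1 j (by omega)).2.2

theorem map_ext {G : Type*} [Group G] {e : ℕ → G} {l ly : List Net} {defs : List (List ℕ)}
    {ivl0 ivl : List ℕ} {n : ℕ} (h : chkExt n defs ivl0 ivl = true)
    (hiv : IvOK (sg (nth Net.nil (l ++ dbl ly))) (ivOf ivl))
    (hR : ∀ r ∈ defRels defs n, ev (sg (nth Net.nil (l ++ dbl ly))) r = 1)
    (h1 : l.length = n) (h2 : ly.length = defs.length) {ρ : G →* Equiv.Perm ℕ}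
    (h0 : ∀ c, ρ (e c) = sg (nth Net.nil l) c) (c : ℕ) :
    ρ (extE e n defs c) = sg (nth Net.nil (l ++ dbl ly)) c :=
  map_extE h hiv hR (by simp [dbl_length, h1, h2])
    (fun c hc => by rw [h0, sg, sg, nth_append_left _ _ _ (h1 ▸ hc)]) c

/-- Split a stabiliser chain into its levels. -/
theorem chkChain_cons {N k : ℕ} {nets : ℕ → Net} {b r n : ℕ} {L L' : List ℕ}
    {ch : List (ℕ × ℕ × ℕ × List ℕ)}
    (h1 : and2 (and2 (Nat.ble (Nat.succ b) N) (Nat.ble n (popc k (orb nets L r (bit b)))))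
      (allL L' fun c => and2 (memL c L) (sub (bit b) ((nets c).pull (bit b)))) = true)
    (h2 : chkChain N k nets ch L' = true) : chkChain N k nets ((b, r, n, L') :: ch) L = true := by
  rw [and2_true] at h1
  exact and2_true.2 ⟨h1.1, and2_true.2 ⟨h1.2, h2⟩⟩

section

variable {G : Type*} [Group G]

theorem mem_of_coprime {M : Subgroup G} [M.Normal] {u a : G} (hu : u ∈ M) {m n : ℕ}
    (ha : a ^ m = 1) (h : (u * a) ^ n = 1) (hc : Nat.Coprime m n) : a ∈ M := by
  rw [← QuotientGroup.eq_one_iff] at hu ⊢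
  have h1 := congrArg (QuotientGroup.mk' M) h
  have h2 := congrArg (QuotientGroup.mk' M) ha
  simp only [map_pow, map_mul, QuotientGroup.mk'_apply, hu, one_mul, map_one] at h1 h2
  rw [← orderOf_eq_one_iff]
  exact Nat.eq_one_of_dvd_coprimes hc (orderOf_dvd_of_pow_eq_one h2) (orderOf_dvd_of_pow_eq_one h1)

/-- The simplicity criterion with all words checked in the permutation representation: the letter
`u` has order dividing `p`, `a` has order dividing `s`, `u a` has order dividing `t`. -/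
theorem simple_of_cert {e : ℕ → G} {ρ : G →* Equiv.Perm ℕ} {nets : ℕ → Net} {iv : ℕ → ℕ}
    {K N q m u a p s t : ℕ} (hn : NetsOK K nets) {L xs : List ℕ} (hp : Prim nets N L xs)
    (ht : Trans ρ N) (hρ : ∀ c, ρ (e c) = sg nets c)
    (hf : ∀ g : G, (∀ i < N, ρ g i = i) → g = 1) (hG : Nat.card G = q * m)
    (hw : ∀ r ∈ [powW p [u], powW s [a], powW t [u, a]], ev (sg nets) r = 1)
    (hiv : IvOK e iv) {R : List (List ℕ)} (hR : ∀ r ∈ R, ev e r = 1) {cols : List ℕ}
    (htop : gen e cols = ⊤) {l : List (ℕ × ℕ)}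
    (hc : (allL cols fun c => memL c (killAll iv R l [a, iv a])) = true)
    (hnum : 1 < q * m ∧ q ∣ N ∧ Nat.Coprime q m ∧ p ∣ q ∧ Nat.Coprime s t) : IsSimpleGroup G := by
  have hw' := rels_of_faithful hf hρ hw
  have w1 := hw' _ (List.mem_cons_self)
  have w2 := hw' (powW s [a]) (by simp)
  have w3 := hw' (powW t [u, a]) (by simp)
  simp only [ev_powW, ev_cons, ev_nil, mul_one] at w1 w2 w3
  obtain ⟨n1, n2, n3, ⟨z, rfl⟩, n5⟩ := hnum
  refine isSimpleGroup_of_cert (u := u) hn hp ht hρ hf hG n1 n2 n3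
    (by rw [pow_mul, w1, one_pow]) fun M _ hu => ?_
  have := mem_of_coprime hu w2 w3 n5
  refine eq_top_of_kill hiv hR htop hc M fun c hc => ?_
  simp only [List.mem_cons, List.not_mem_nil, or_false] at hc
  rcases hc with rfl | rfl
  · exact this
  · rw [hiv]; exact M.inv_mem this

/-- The action on `Fin N`. -/
noncomputable def Trans.toFin {ρ : G →* Equiv.Perm ℕ} {N : ℕ} (h : Trans ρ N) :
    G →* Equiv.Perm (Fin N) where
  toFun g :=
    { toFun := fun i => ⟨ρ g i, h.lt g i i.2⟩
      invFun := fun i => ⟨ρ g⁻¹ i, h.lt g⁻¹ i i.2⟩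
      left_inv := fun i => by simp
      right_inv := fun i => by simp }
  map_one' := by ext; simp
  map_mul' := fun a b => by ext; simp

theorem Trans.exists_fin {ρ : G →* Equiv.Perm ℕ} {N : ℕ} [NeZero N] (h : Trans ρ N)
    (hf : ∀ g : G, (∀ i < N, ρ g i = i) → g = 1) :
    ∃ (H : Subgroup (Equiv.Perm (Fin N))) (_ : G ≃* H), MulAction.IsPretransitive H (Fin N) ∧
      Nonempty (stab ρ 0 ≃* MulAction.stabilizer H (0 : Fin N)) := by
  have hinj : Function.Injective h.toFin := (injective_iff_map_eq_one _).2 fun g hg =>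
    hf g fun i hi => congrArg Fin.val (DFunLike.congr_fun hg (⟨i, hi⟩ : Fin N))
  refine ⟨h.toFin.range, MonoidHom.ofInjective hinj, ⟨fun i j => ?_⟩, ⟨?_⟩⟩
  · obtain ⟨a, ha⟩ := h.trans i i.2
    obtain ⟨b, hb⟩ := h.trans j j.2
    refine ⟨⟨h.toFin (b * a⁻¹), _, rfl⟩, Fin.ext ?_⟩
    change ρ (b * a⁻¹) i = j
    rw [← ha, ← hb]; simp
  · refine ((MonoidHom.ofInjective hinj).subgroupMap (stab ρ 0)).trans (MulEquiv.subgroupCongr ?_)
    ext x
    obtain ⟨g, rfl⟩ := (MonoidHom.ofInjective hinj).surjective x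
    refine (Subgroup.mem_map_iff_mem (f := (MonoidHom.ofInjective hinj).toMonoidHom)
      (MonoidHom.ofInjective hinj).injective).trans ?_
    rw [mem_stab, MulAction.mem_stabilizer_iff, Fin.ext_iff]
    rfl

end

end H29
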