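import Mathlib
import Cfsg.Prelude.Def_SporadicB
import Cfsg.Agent.H29.Cert

/-!
# Presentations proved by counting, subgroups of index two, double covers
-/

set_option autoImplicit false

namespace H29

/-- Every group generated by letters `L` subject to `R` has order at most `n`. -/
def UB (iv : ℕ → ℕ) (R : List (List ℕ)) (L : List ℕ) (n : ℕ) : Prop :=
  ∀ (G : Type) [Group G] (e : ℕ → G), IvOK e iv → (∀ r ∈ R, ev e r = 1) → Bd (gen e L) n

/-- If the bound is attained then `R` presents the group. -/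
theorem UB.tr {iv : ℕ → ℕ} {R : List (List ℕ)} {L : List ℕ} {n : ℕ} (h : UB iv R L n)
    (hL : ∀ c ∈ L, iv c ∈ L) {G H : Type} [Group G] [Group H] {e : ℕ → G} {e' : ℕ → H}
    (h1 : IvOK e iv) (h2 : ∀ r ∈ R, ev e r = 1) (hn : n ≤ Nat.card (gen e L))
    (h3 : IvOK e' iv) (h4 : ∀ r ∈ R, ev e' r = 1) : Tr e e' L := by
  have a1 : IvOK (fun c => (e c, e' c)) iv := fun c => by simp [h1 c, h3 c]
  have a2 : ∀ r ∈ R, ev (fun c => (e c, e' c)) r = 1 := fun r hr => Prod.ext
    ((map_ev (MonoidHom.fst G H) _ r).trans (h2 r hr)) ((map_ev (MonoidHom.snd G H) _ r).trans (h4 r hr))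
  exact ((Tr.of_hom (MonoidHom.fst G H) fun _ _ => rfl).symm_of_card a1 h1 hL (h _ _ a1 a2) hn).trans
    (Tr.of_hom (MonoidHom.snd G H) fun _ _ => rfl)

section

variable {G : Type*} [Group G]

theorem sign_eq_one {s : ℕ → ℤˣ} {w : List ℕ} (hw : ev s w = 1) {c : ℕ}
    (h : ∀ y ∈ c :: w, w.count y % 2 = if y = c then 1 else 0) : s c = 1 := by
  have hc := h c (by simp)
  rw [if_pos rfl] at hc
  have hcw : c ∈ w := List.count_pos_iff.1 (by omega)
  rw [ev, Finset.prod_list_map_count, Finset.prod_eq_single c] at hw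
  · rwa [← Nat.div_add_mod (w.count c) 2, hc, pow_add, pow_mul, Int.units_sq, one_pow, one_mul,
      pow_one] at hw
  · intro y hy hyc
    have := h y (List.mem_cons_of_mem _ (List.mem_toFinset.1 hy))
    rw [if_neg hyc] at this
    rw [← Nat.div_add_mod (w.count y) 2, this, add_zero, pow_mul, Int.units_sq, one_pow]
  · intro h1
    exact absurd (List.mem_toFinset.2 hcw) h1

theorem ev_flatten {e : ℕ → G} : ∀ {R : List (List ℕ)}, (∀ r ∈ R, ev e r = 1) →
    ev e R.flatten = 1
  | [], _ => rfl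
  | r :: R, h => by
    rw [List.flatten_cons, ev_append, h r (by simp), ev_flatten fun x hx => h x (by simp [hx]),
      one_mul]

/-- A parity certificate: `gen e L` has no subgroup of index two. -/
theorem no_index_two {e : ℕ → G} {L : List ℕ} {R : List (List ℕ)} (hR : ∀ r ∈ R, ev e r = 1)
    (hRL : ∀ r ∈ R, ∀ c ∈ r, c ∈ L) {cert : ℕ → List ℕ}
    (hc : ∀ c ∈ L, ∀ y ∈ c :: (pick R (cert c)).flatten,
      (pick R (cert c)).flatten.count y % 2 = if y = c then 1 else 0)
    (M : Subgroup (gen e L)) : M.index ≠ 2 := by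
  classical
  intro hM
  let χ : gen e L →* ℤˣ := MonoidHom.mk' (fun g => if g ∈ M then 1 else -1) fun a b => by
    by_cases ha : a ∈ M <;> by_cases hb : b ∈ M <;> simp [Subgroup.mul_mem_iff_of_index_two hM, ha, hb]
  let e' : ℕ → gen e L := fun c => if h : c ∈ L then ⟨e c, mem_gen h⟩ else 1
  have he' : ∀ r ∈ R, ev (fun c => χ (e' c)) r = 1 := fun r hr => by
    rw [← map_ev]
    have : ev e' r = 1 := Subtype.ext (by
      rw [show ((ev e' r : gen e L) : G) = (gen e L).subtype (ev e' r) from rfl, map_ev,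
        ev_congr (e' := e) fun c hc => by simp [e', hRL r hr c hc], hR r hr]; rfl)
    rw [this, map_one]
  have key : ∀ c (h : c ∈ L), (⟨e c, mem_gen h⟩ : gen e L) ∈ M := fun c h => by
    have := sign_eq_one (ev_flatten (pick_rel he' (cert c))) (hc c h)
    by_contra h1
    simp [χ, e', h, h1] at this
  have : M = ⊤ := by
    rw [eq_top_iff]
    rintro ⟨g, hg⟩ -
    have : gen e L ≤ M.map (gen e L).subtype := gen_le.2 fun c h => ⟨_, key c h, rfl⟩
    obtain ⟨x, hx, rfl⟩ := this hg
    exact hx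
  rw [this] at hM
  simp at hM

theorem le_center_of_card_two {Z : Subgroup G} [hZ : Z.Normal] (h : Nat.card Z = 2) :
    Z ≤ Subgroup.center G := by
  intro z hz
  rw [Subgroup.mem_center_iff]
  intro g
  by_cases h1 : z = 1
  · simp [h1]
  obtain ⟨y, -, hy⟩ := (Nat.card_eq_two_iff' (1 : Z)).1 h
  have a1 := hy ⟨z, hz⟩ (by simpa using h1)
  have a2 := hy ⟨_, hZ.conj_mem z hz g⟩ (by simpa [mul_inv_eq_iff_eq_mul] using h1)
  have := congrArg Subtype.val (a2.trans a1.symm)
  simpa [mul_inv_eq_iff_eq_mul] using this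

theorem nonsplit_of_surj {K : Type*} [Group K] [Finite K] (f : G →* K)
    (hf : Function.Surjective f) (hK : Subgroup.center K = ⊥) (hc : Nat.card G = 2 * Nat.card K)
    (h2 : ∀ M : Subgroup G, M.index ≠ 2) : Cfsg.IsNonsplitDoubleCover G K := by
  have h1 : Nat.card f.ker = 2 := by
    have := f.ker.index_mul_card
    rw [Subgroup.index_ker, MonoidHom.range_eq_top.2 hf, Subgroup.card_top, hc, mul_comm 2] at this
    exact Nat.eq_of_mul_eq_mul_left Nat.card_pos this
  have h3 : Subgroup.center G = f.ker := by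
    refine le_antisymm (fun z hz => ?_) (le_center_of_card_two h1)
    rw [MonoidHom.mem_ker, ← Subgroup.mem_bot, ← hK, Subgroup.mem_center_iff]
    intro k
    obtain ⟨g, rfl⟩ := hf k
    rw [← map_mul, ← map_mul, Subgroup.mem_center_iff.1 hz]
  refine ⟨h3 ▸ h1, ⟨(QuotientGroup.quotientMulEquivOfEq h3).trans
    (QuotientGroup.quotientKerEquivOfSurjective f hf)⟩, fun L hL => h2 L ?_⟩
  rw [hL.index_eq_card, h3, h1]

theorem center_eq_bot_of_simple [IsSimpleGroup G] (h : ¬ (Nat.card G).Prime) :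
    Subgroup.center G = ⊥ := by
  rcases (inferInstance : (Subgroup.center G).Normal).eq_bot_or_eq_top with h1 | h1
  · exact h1
  · have : IsMulCommutative G := ⟨⟨fun a b =>
      (Subgroup.mem_center_iff.1 (h1 ▸ Subgroup.mem_top b : b ∈ Subgroup.center G) a)⟩⟩
    let _ : CommGroup G := { (inferInstance : Group G) with mul_comm := this.1.1 }
    exact absurd IsSimpleGroup.prime_card h

theorem CosetModel.card_sub {ρ : G →* Equiv.Perm ℕ} {H : Subgroup G} {N m : ℕ}
    (h : CosetModel ρ H N) (hG : Nat.card G = N * m) : Nat.card H = m := by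
  have := H.index_mul_card
  rw [h.index_eq, hG] at this
  exact Nat.eq_of_mul_eq_mul_left h.pos this

end

end H29
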