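import Mathlib
import Cfsg.Prelude.Def_SporCoxeter
import Cfsg.Agent.H29.Ext

/-!
# The bridge to `Cfsg.Spor.CoxPresented`
-/

set_option autoImplicit false

namespace H29

open Cfsg.Spor

variable {α : Type} [DecidableEq α]

/-- The letters given by a table of generators with signs. -/
def letE {H : Type*} [Group H] (f : α → H) (lets : List (α × Bool)) (c : ℕ) : H :=
  match lets[c]? with
  | none => 1
  | some (x, true) => f x
  | some (x, false) => (f x)⁻¹

/-- A word of the free group as a list of letters. -/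
def toL (idx : α → ℕ) (iv : ℕ → ℕ) (w : FreeGroup α) : List ℕ :=
  w.toWord.map fun p => if p.2 then idx p.1 else iv (idx p.1)

theorem ev_toL {H : Type*} [Group H] {e : ℕ → H} {iv : ℕ → ℕ} (h : IvOK e iv) (idx : α → ℕ)
    (w : FreeGroup α) : ev e (toL idx iv w) = FreeGroup.lift (fun x => e (idx x)) w := by
  conv_rhs => rw [← FreeGroup.mk_toWord (x := w), FreeGroup.lift_mk]
  rw [toL, ev, List.map_map]
  congr 1
  refine List.map_congr_left fun p _ => ?_
  obtain ⟨x, b⟩ := p
  cases b <;> simp [h (idx x)]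

/-- The data that tie a presentation to numbered letters. -/
structure PData (α : Type) where
  edges : List (α × ℕ × α)
  extra : List (FreeGroup α)
  /-- all generators, once each -/
  gens : List α
  lets : List (α × Bool)
  idx : α → ℕ
  ivl : List ℕ

namespace PData

variable (P : PData α)

/-- The presented group. -/
abbrev G : Type := CoxPresented α P.edges P.extra

/-- The letters in the presented group. -/
def e : ℕ → P.G := letE PresentedGroup.of P.lets

/-- The Coxeter relators, one for each unordered pair of distinct nodes. -/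
noncomputable def coxL : List (List ℕ) :=
  P.gens.flatMap fun x => P.gens.filterMap fun y =>
    if P.idx x < P.idx y ∧ x ∈ coxNodes P.edges ∧ y ∈ coxNodes P.edges then
      some (powW (coxLabel P.edges x y) [P.idx x, P.idx y]) else none

/-- All relators but the squares of the nodes. -/
noncomputable def relL : List (List ℕ) := P.coxL ++ P.extra.map (toL P.idx (ivOf P.ivl))

/-- The tables are coherent. -/
def Coh : Prop :=
  (∀ x ∈ P.gens, P.lets[P.idx x]? = some (x, true)) ∧
  (∀ x ∈ coxNodes P.edges, ivOf P.ivl (P.idx x) = P.idx x) ∧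
  P.ivl.length ≤ P.lets.length ∧
  ∀ c < P.lets.length, ∀ p ∈ P.lets[c]?, (if p.2 then P.idx p.1 else ivOf P.ivl (P.idx p.1)) = c ∧
    (P.lets[ivOf P.ivl c]? = some (p.1, !p.2) ∨ (ivOf P.ivl c = c ∧
      (p.1 ∈ coxNodes P.edges ∨ [(p.1, true), (p.1, true)] ∈ P.extra.map FreeGroup.toWord)))

set_option synthInstance.maxSize 1000 in
noncomputable instance instDecCoh : Decidable P.Coh := by unfold Coh; infer_instance

variable {P}

theorem mk_rel {r : FreeGroup α} (h : r ∈ coxRelators P.edges ∪ {r | r ∈ P.extra}) :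
    (PresentedGroup.mk _ r : P.G) = 1 := PresentedGroup.one_of_mem h

theorem ivOK (h : P.Coh) : IvOK P.e (ivOf P.ivl) := by
  intro c
  by_cases hc : c < P.lets.length
  · obtain ⟨p, hp⟩ : ∃ p, P.lets[c]? = some p := ⟨_, List.getElem?_eq_getElem hc⟩
    obtain ⟨x, b⟩ := p
    rcases (h.2.2.2 c hc _ hp).2 with h1 | ⟨h1, h2⟩
    · cases b <;> simp [e, letE, h1, hp]
    · have h3 : (PresentedGroup.of x : P.G) * PresentedGroup.of x = 1 := by
        rcases h2 with h2 | h2
        · exact mk_rel (r := FreeGroup.of x * FreeGroup.of x)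
            (Or.inl ⟨x, h2, x, h2, by simp [coxLabel]⟩)
        · obtain ⟨r, hr, h4⟩ := List.mem_map.1 h2
          have h5 : r = FreeGroup.of x * FreeGroup.of x := by
            rw [← FreeGroup.mk_toWord (x := r), h4]; rfl
          exact mk_rel (r := FreeGroup.of x * FreeGroup.of x) (Or.inr (h5 ▸ hr))
      have h4 := eq_inv_of_mul_eq_one_left h3
      rw [h1]
      cases b
      · simp only [e, letE, hp]; rw [inv_inv, ← h4]
      · simp only [e, letE, hp]; exact h4
  · rw [ivOf, nth_default _ (h.2.2.1.trans (by omega))]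
    simp [e, letE, List.getElem?_eq_none (not_lt.1 hc)]

theorem e_idx (h : P.Coh) (hg : ∀ x, x ∈ P.gens) (x : α) :
    P.e (P.idx x) = PresentedGroup.of x := by simp [e, letE, h.1 x (hg x)]

theorem ev_toL_eq (h : P.Coh) (hg : ∀ x, x ∈ P.gens) (w : FreeGroup α) :
    ev P.e (toL P.idx (ivOf P.ivl) w) = PresentedGroup.mk _ w := by
  rw [ev_toL (ivOK h)]
  refine DFunLike.congr_fun (FreeGroup.ext_hom _ _ fun x => ?_) w
  rw [FreeGroup.lift_apply_of, e_idx h hg]; rfl

theorem rels (h : P.Coh) (hg : ∀ x, x ∈ P.gens) : ∀ r ∈ P.relL, ev P.e r = 1 := by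
  intro r hr
  rcases List.mem_append.1 hr with hr | hr
  · simp only [coxL, List.mem_flatMap, List.mem_filterMap, Option.ite_none_right_eq_some,
      Option.some.injEq] at hr
    obtain ⟨x, -, y, -, ⟨-, hx, hy⟩, rfl⟩ := hr
    rw [ev_powW, ev_cons, ev_cons, ev_nil, mul_one, e_idx h hg, e_idx h hg]
    have := mk_rel (P := P) (Or.inl ⟨x, hx, y, hy, rfl⟩)
    rw [map_pow, map_mul] at this
    exact this
  · obtain ⟨w, hw, rfl⟩ := List.mem_map.1 hr
    rw [ev_toL_eq h hg]
    exact mk_rel (Or.inr hw)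

theorem coxLabel_comm (edges : List (α × ℕ × α)) (x y : α) :
    coxLabel edges x y = coxLabel edges y x := by
  simp only [coxLabel, eq_comm (a := x) (b := y), or_comm]

theorem gen_top (h : P.Coh) (hg : ∀ x, x ∈ P.gens) {l : List ℕ}
    (hl : ∀ x ∈ P.gens, P.idx x ∈ l) : gen P.e l = ⊤ := by
  rw [eq_top_iff, ← PresentedGroup.closure_range_of, Subgroup.closure_le]
  rintro _ ⟨x, rfl⟩
  rw [← e_idx h hg]
  exact mem_gen (hl x (hg x))

/-- Letters that satisfy the relators define a homomorphism. -/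
theorem exists_hom (h : P.Coh) (hg : ∀ x, x ∈ P.gens) {H : Type*} [Group H] {σ : ℕ → H}
    (hiv : IvOK σ (ivOf P.ivl)) (hR : ∀ r ∈ P.relL, ev σ r = 1) :
    ∃ ρ : P.G →* H, ∀ c < P.lets.length, ρ (P.e c) = σ c := by
  have hinj : ∀ x y, P.idx x = P.idx y → x = y := fun x y hxy => by
    have h1 := h.1 x (hg x)
    rw [hxy, h.1 y (hg y)] at h1
    simpa using h1.symm
  have key : ∀ x ∈ coxNodes P.edges, ∀ y ∈ coxNodes P.edges, P.idx x < P.idx y →
      (σ (P.idx x) * σ (P.idx y)) ^ coxLabel P.edges x y = 1 := by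
    intro x hx y hy hxy
    have := hR (powW (coxLabel P.edges x y) [P.idx x, P.idx y]) (List.mem_append_left _ (by
      simp only [coxL, List.mem_flatMap, List.mem_filterMap, Option.ite_none_right_eq_some,
        Option.some.injEq]
      exact ⟨x, hg x, y, hg y, ⟨hxy, hx, hy⟩, rfl⟩))
    simpa [ev_powW] using this
  have hsat : ∀ r ∈ coxRelators P.edges ∪ {r | r ∈ P.extra},
      FreeGroup.lift (fun x => σ (P.idx x)) r = 1 := by
    rintro r (⟨x, hx, y, hy, rfl⟩ | hr)
    · simp only [map_pow, map_mul, FreeGroup.lift_apply_of]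
      rcases lt_trichotomy (P.idx x) (P.idx y) with h1 | h1 | h1
      · exact key x hx y hy h1
      · obtain rfl := hinj x y h1
        have := hiv (P.idx x)
        rw [h.2.1 x hx] at this
        simp only [coxLabel, if_true, pow_one]
        exact mul_eq_one_iff_eq_inv.2 this
      · have := key y hy x hx h1
        rw [coxLabel_comm] at this
        have h2 : σ (P.idx x) * σ (P.idx y) =
            (σ (P.idx y))⁻¹ * (σ (P.idx y) * σ (P.idx x)) * (σ (P.idx y))⁻¹⁻¹ := by group
        rw [h2, conj_pow, this]; simp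
    · rw [← ev_toL hiv]
      exact hR _ (List.mem_append_right _ (List.mem_map.2 ⟨r, hr, rfl⟩))
  refine ⟨PresentedGroup.toGroup hsat, fun c hc => ?_⟩
  obtain ⟨p, hp⟩ : ∃ p, P.lets[c]? = some p := ⟨_, List.getElem?_eq_getElem hc⟩
  obtain ⟨x, b⟩ := p
  have h1 := (h.2.2.2 c hc _ hp).1
  cases b
  · simp only [e, letE, hp, map_inv, PresentedGroup.toGroup.of]
    rw [← hiv, ← h1]; rfl
  · simp only [e, letE, hp, PresentedGroup.toGroup.of]
    rw [← h1]; rfl

theorem e_eq_one {c : ℕ} (hc : P.lets.length ≤ c) : P.e c = 1 := by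
  simp [e, letE, List.getElem?_eq_none hc]

/-- The version for networks, with all letters. -/
theorem exists_rho (h : P.Coh) (hg : ∀ x, x ∈ P.gens) {l : List Net}
    (hiv : IvOK (sg (nth Net.nil l)) (ivOf P.ivl))
    (hR : ∀ r ∈ P.relL, ev (sg (nth Net.nil l)) r = 1) (hl : l.length ≤ P.lets.length) :
    ∃ ρ : P.G →* Equiv.Perm ℕ, ∀ c, ρ (P.e c) = sg (nth Net.nil l) c := by
  obtain ⟨ρ, hρ⟩ := exists_hom h hg hiv hR
  refine ⟨ρ, fun c => ?_⟩
  by_cases hc : c < P.lets.length
  · exact hρ c hc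
  · rw [e_eq_one (not_lt.1 hc), map_one, sg_nth_eq_one (by omega)]

/-- The subgroups named in the statements. -/
theorem map_closure (h : P.Coh) (hg : ∀ x, x ∈ P.gens) {S : Set (FreeGroup α)}
    {ws : List (FreeGroup α)} (hS : ∀ w, w ∈ S ↔ w ∈ ws) {e' : ℕ → P.G} {l : List ℕ}
    {W : ℕ → List ℕ} (hW : ∀ c ∈ l, e' c = ev P.e (W c))
    (hl : ws.map (toL P.idx (ivOf P.ivl)) = l.map W) :
    (Subgroup.closure S).map (PresentedGroup.mk _) = gen e' l := by
  rw [MonoidHom.map_closure, gen]
  congr 1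
  ext g
  constructor
  · rintro ⟨w, hw, rfl⟩
    have := List.mem_map_of_mem (f := toL P.idx (ivOf P.ivl)) ((hS w).1 hw)
    rw [hl] at this
    obtain ⟨c, hc, h1⟩ := List.mem_map.1 this
    exact ⟨c, hc, by rw [hW c hc, h1, ev_toL_eq h hg]⟩
  · rintro ⟨c, hc, rfl⟩
    have := List.mem_map_of_mem (f := W) hc
    rw [← hl] at this
    obtain ⟨w, hw, h1⟩ := List.mem_map.1 this
    exact ⟨w, (hS w).2 hw, by rw [hW c hc, ← h1, ev_toL_eq h hg]⟩

end PData

end H29
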