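import Mathlib
import Cfsg.Agent.H29.Pres
import Cfsg.Agent.H29.Cert

/-!
# Presented groups with extra letters; distinct orbits
-/

set_option autoImplicit false

namespace H29

theorem ivOK_trunc {H : Type*} [Group H] {σ : ℕ → H} {n : ℕ} {defs : List (List ℕ)}
    {ivl0 ivl : List ℕ} (h : chkExt n defs ivl0 ivl = true) (hl : ivl0.length ≤ n)
    (hiv : IvOK σ (ivOf ivl)) : IvOK (fun c => if c < n then σ c else 1) (ivOf ivl0) := by
  simp only [chkExt, and2_true, allN_true, allL_true, lit_eq, ble_true, beq_true] at h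
  intro c
  by_cases hc : c < n
  · have h1 : ivOf ivl0 c < n := (h.2.1 c hc).2
    simp only [hc, h1, if_true]
    rw [← (h.2.1 c hc).1, hiv]
  · rw [ivOf, nth_default _ (by omega)]; simp [hc]

theorem PData.exists_rho_ext {α : Type} [DecidableEq α] {P : PData α} (h : P.Coh)
    (hg : ∀ x, x ∈ P.gens) {l : List Net} {defs : List (List ℕ)} {ivl : List ℕ} {n : ℕ}
    (hn : P.lets.length = n) (hext : chkExt n defs P.ivl ivl = true)
    (hiv : IvOK (sg (nth Net.nil l)) (ivOf ivl))
    (hR : ∀ r ∈ P.relL, ev (sg (nth Net.nil l)) r = 1) (hlt : chkLt n P.relL = true)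
    (hdef : ∀ r ∈ defRels defs n, ev (sg (nth Net.nil l)) r = 1)
    (hl : l.length ≤ n + 2 * defs.length) :
    ∃ ρ : P.G →* Equiv.Perm ℕ, ∀ c, ρ (extE P.e n defs c) = sg (nth Net.nil l) c := by
  obtain ⟨ρ, hρ⟩ := PData.exists_hom h hg (ivOK_trunc hext (hn ▸ h.2.2.1) hiv) (fun r hr => by
    rw [ev_congr (e' := sg (nth Net.nil l)) fun c hc =>
      if_pos (show c < n from ble_true.1 (allL_true.1 (allL_true.1 hlt r hr) c hc)), hR r hr])
  exact ⟨ρ, map_extE hext hiv hdef hl fun c hc => by rw [hρ c (hn ▸ hc), if_pos hc]⟩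

theorem extE_def {G : Type*} [Group G] (e : ℕ → G) {n : ℕ} {defs : List (List ℕ)}
    {ivl0 ivl : List ℕ} (h : chkExt n defs ivl0 ivl = true) (j : ℕ)
    (hj : (allL (nth [] defs j) fun y => Nat.ble (Nat.succ y) n) = true) :
    extE e n defs (n + 2 * j) = ev e (nth [] defs j) := by
  rw [(isExt_extE e (chkExt_wf h)).even]
  exact ev_congr fun c hc => extE_lt _ _ _ (ble_true.1 (allL_true.1 hj c hc))

/-- Two points in different orbits. -/
theorem CosetModel.orbit_ne {G : Type*} [Group G] {e : ℕ → G} {ρ : G →* Equiv.Perm ℕ}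
    {nets : ℕ → Net} {K N : ℕ} {H : Subgroup G} (h : CosetModel ρ H N) (hn : NetsOK K nets)
    {L : List ℕ} (hρ : ∀ c ∈ L, ρ (e c) = sg nets c) {r : ℕ} {p q : G ⧸ H}
    (hc : (seqN (orb nets L r (bit (h.pt p))) fun V => and2 (and2 (chkInv nets L V)
      (sub (bit (h.pt p)) V)) (disj (bit (h.pt q)) V)) = true) :
    MulAction.orbit (gen e L) p ≠ MulAction.orbit (gen e L) q := by
  rw [seqN_eq, and2_true, and2_true] at hc
  intro heq
  obtain ⟨g, hg⟩ : q ∈ MulAction.orbit (gen e L) p := heq ▸ MulAction.mem_orbit_self q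
  have h1 := inv_of_chk hn hρ hc.1.1 g.2 (h.pt p)
  rw [← h.pt_smul, show (g : G) • p = q from hg, 
    sub_true hc.1.2 (i := h.pt p) (by simp [testBit_bit]),
    disj_true hc.2 (i := h.pt q) (by simp [testBit_bit])] at h1
  exact absurd h1 (by simp)

end H29
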