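import Mathlib
import Cfsg.Agent.H29.Fi23X.B
import Cfsg.Agent.H29.Fi23X.C0

set_option autoImplicit false
set_option maxRecDepth 100000
set_option Elab.async false
set_option linter.all false

namespace H29.Fi23X

theorem hE0 : ∀ r ∈ E0, ev (sg nx) r = 1 :=
  rels_of_chk (k := 15) hn (by decide) hiv (lt_step (lt_step (lt_step (lt_step (lt_step (lt_step (lt_step (lt_step (lt_step (lt_step (lt_step (lt_step (lt_step (lt_step (lt_step lt_base e0_0) e0_1) e0_2) e0_3) e0_4) e0_5) e0_6) e0_7) e0_8) e0_9) e0_10) e0_11) e0_12) e0_13) e0_14)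
theorem hdef : ∀ r ∈ defRels defs 10, ev (sg nx) r = 1 :=
  rels_sub (R := E0) hE0 (by decide +kernel)
theorem map {G : Type} [Group G] {e : ℕ → G} {ρ : G →* Equiv.Perm ℕ}
    (h : ∀ c, ρ (e c) = sg (nth Net.nil Fi23T.nl) c) : ∀ c, ρ (extE e 10 defs c) = sg nx c :=
  map_ext hext hiv hdef rfl rfl h

end H29.Fi23X
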