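import Mathlib
import Cfsg.Agent.H29.FiA.B
import Cfsg.Agent.H29.FiA.C0
import Cfsg.Agent.H29.FiA.P0

set_option autoImplicit false
set_option maxRecDepth 100000
set_option Elab.async false
set_option linter.all false

namespace H29.FiA

theorem der : Derives (ivOf ivl) R0 R2 := ((Derives.refl _ _).prog hii p0).prog hii p1
theorem hR0 : ∀ r ∈ R0, ev (sg (nth Net.nil nl)) r = 1 := hG0
theorem col0 : T.ColOK 0 := TCData.colOK_of_chk (U := (Nat.lor (T.mask0 0) v0_0)) (V := (Nat.lor (T.mask0 0) v0_0)) hb ((T.cov_mask0 0).or cv0_0) ((T.cov_mask0 0).or cv0_0) (by decide +kernel)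
theorem col1 : T.ColOK 1 := TCData.colOK_of_chk (U := (Nat.lor (T.mask0 1) v1_0)) (V := (Nat.lor (T.mask0 1) v1_0)) hb ((T.cov_mask0 1).or cv1_0) ((T.cov_mask0 1).or cv1_0) (by decide +kernel)
theorem col2 : T.ColOK 2 := TCData.colOK_of_chk (U := (Nat.lor (T.mask0 2) v2_0)) (V := (Nat.lor (T.mask0 2) v2_0)) hb ((T.cov_mask0 2).or cv2_0) ((T.cov_mask0 2).or cv2_0) (by decide +kernel)
theorem col3 : T.ColOK 3 := TCData.colOK_of_chk (U := (Nat.lor (T.mask0 3) v3_0)) (V := (Nat.lor (T.mask0 3) v3_0)) hb ((T.cov_mask0 3).or cv3_0) ((T.cov_mask0 3).or cv3_0) (by decide +kernel)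
theorem col4 : T.ColOK 4 := TCData.colOK_of_chk (U := (Nat.lor (T.mask0 4) v4_0)) (V := (Nat.lor (T.mask0 4) v4_0)) hb ((T.cov_mask0 4).or cv4_0) ((T.cov_mask0 4).or cv4_0) (by decide +kernel)
theorem col5 : T.ColOK 5 := TCData.colOK_of_chk (U := (Nat.lor (T.mask0 5) v5_0)) (V := (Nat.lor (T.mask0 5) v5_0)) hb ((T.cov_mask0 5).or cv5_0) ((T.cov_mask0 5).or cv5_0) (by decide +kernel)
theorem col6 : T.ColOK 6 := TCData.colOK_of_chk (U := (Nat.lor (T.mask0 6) v6_0)) (V := (Nat.lor (T.mask0 6) v6_0)) hb ((T.cov_mask0 6).or cv6_0) ((T.cov_mask0 6).or cv6_0) (by decide +kernel)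
theorem col7 : T.ColOK 7 := TCData.colOK_of_chk (U := (Nat.lor (T.mask0 7) v7_0)) (V := (Nat.lor (T.mask0 7) v7_0)) hb ((T.cov_mask0 7).or cv7_0) ((T.cov_mask0 7).or cv7_0) (by decide +kernel)
theorem col8 : T.ColOK 8 := TCData.colOK_of_chk (U := (Nat.lor (T.mask0 8) v8_0)) (V := (Nat.lor (T.mask0 8) v8_0)) hb ((T.cov_mask0 8).or cv8_0) ((T.cov_mask0 8).or cv8_0) (by decide +kernel)
theorem ok : T.OK := ⟨hb, TCData.treeOK_of_chk hn (by decide +kernel), (List.forall_mem_cons.2 ⟨col0, (List.forall_mem_cons.2 ⟨col1, (List.forall_mem_cons.2 ⟨col2, (List.forall_mem_cons.2 ⟨col3, (List.forall_mem_cons.2 ⟨col4, (List.forall_mem_cons.2 ⟨col5, (List.forall_mem_cons.2 ⟨col6, (List.forall_mem_cons.2 ⟨col7, (List.forall_mem_cons.2 ⟨col8, (fun _ h => absurd h List.not_mem_nil)⟩)⟩)⟩)⟩)⟩)⟩)⟩)⟩)⟩), der _ _ hiv hR0⟩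
theorem bd {G : Type} [Group G] {e : ℕ → G} (h1 : IvOK e (ivOf ivl)) (h2 : ∀ r ∈ R0, ev e r = 1)
    {m : ℕ} (h : Bd (gen e hcols) m) : Bd (gen e cols) (14080 * m) := ok.bd h1 (der G e h1 h2) h
theorem cm {G : Type} [Group G] {e : ℕ → G} (h1 : IvOK e (ivOf ivl)) (h2 : ∀ r ∈ R0, ev e r = 1)
    (h3 : gen e cols = ⊤) {ρ : G →* Equiv.Perm ℕ} (h4 : ∀ c, ρ (e c) = sg (nth Net.nil nl) c) :
    CosetModel ρ (gen e hcols) 14080 := ok.cosetModel h1 (der G e h1 h2) h3 fun c _ => h4 c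

end H29.FiA
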