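import Mathlib
import Cfsg.Agent.H29.Ext

set_option autoImplicit false
set_option maxRecDepth 100000
set_option Elab.async false
set_option linter.all false

namespace H29.FiD

noncomputable def n1 : Net := ben 5 [(nat_lit 0x30333c0),
 (nat_lit 0x10a0b10),
 (nat_lit 0x8a00),
 (nat_lit 0x888),
 (nat_lit 0x8)]
noncomputable def t1 : List ℕ := [(nat_lit 0x166200a),
 (nat_lit 0x186414c),
 (nat_lit 0x66020),
 (nat_lit 0x1f80000)]
noncomputable def d1 : ℕ := (nat_lit 0x4011480)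
noncomputable def n2 : Net := ben 5 [(nat_lit 0x101f030),
 (nat_lit 0x70b0),
 (nat_lit 0x408),
 (nat_lit 0x0),
 (nat_lit 0x0)]
noncomputable def t2 : List ℕ := [(nat_lit 0x670902),
 (nat_lit 0x87d004),
 (nat_lit 0x4048b80),
 (nat_lit 0x4f80000)]
noncomputable def d2 : ℕ := (nat_lit 0x2002050)
noncomputable def n3 : Net := ben 5 [(nat_lit 0x3000f04),
 (nat_lit 0xa20700),
 (nat_lit 0x224400),
 (nat_lit 0x4060040),
 (nat_lit 0x400)]
noncomputable def t3 : List ℕ := [(nat_lit 0x26b0d32),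
 (nat_lit 0x201b530),
 (nat_lit 0x401b880),
 (nat_lit 0x6700000)]
noncomputable def d3 : ℕ := (nat_lit 0x1040208)
noncomputable def n4 : Net := ben 5 [(nat_lit 0xf0c00c),
 (nat_lit 0x107202),
 (nat_lit 0x80400),
 (nat_lit 0x0),
 (nat_lit 0x0)]
noncomputable def t4 : List ℕ := [(nat_lit 0x2051530),
 (nat_lit 0x3a58038),
 (nat_lit 0x40581c0),
 (nat_lit 0x7120000)]
noncomputable def d4 : ℕ := (nat_lit 0x404804)
noncomputable def n5 : Net := ben 5 [(nat_lit 0x173001),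
 (nat_lit 0x50000),
 (nat_lit 0x660800),
 (nat_lit 0x6060),
 (nat_lit 0x60)]
noncomputable def t5 : List ℕ := [(nat_lit 0x2813334),
 (nat_lit 0x3002438),
 (nat_lit 0x40027c0),
 (nat_lit 0x7c00000)]
noncomputable def d5 : ℕ := (nat_lit 0x2a8002)
noncomputable def n7 : Net := ben 5 [(nat_lit 0x400300),
 (nat_lit 0xf000b0),
 (nat_lit 0xc2208),
 (nat_lit 0x20),
 (nat_lit 0x0)]
noncomputable def t7 : List ℕ := [(nat_lit 0x2294c52),
 (nat_lit 0x301f004),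
 (nat_lit 0x401fe00),
 (nat_lit 0x7020000)]
noncomputable def d7 : ℕ := (nat_lit 0x900120)
def ivl : List ℕ := []
def cols : List ℕ := [1, 2, 3, 4, 5, 7]
def hcols : List ℕ := [1, 2, 3, 4, 7]
def G0 : List (List ℕ) := [[1, 2, 1, 2, 1, 2],
 [1, 3, 1, 3],
 [1, 4, 1, 4],
 [1, 5, 1, 5],
 [1, 7, 1, 7],
 [2, 3, 2, 3, 2, 3],
 [2, 4, 2, 4],
 [2, 5, 2, 5],
 [2, 7, 2, 7],
 [3, 4, 3, 4, 3, 4],
 [3, 5, 3, 5],
 [3, 7, 3, 7, 3, 7],
 [4, 5, 4, 5, 4, 5],
 [4, 7, 4, 7],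
 [5, 7, 5, 7]]
def R0 : List (List ℕ) := G0
theorem hii : ∀ c, ivOf ivl (ivOf ivl c) = c := ivOf_ivOf (by decide +kernel)
theorem der : Derives (ivOf ivl) R0 R0 := Derives.refl _ _
noncomputable def nl : List Net := [Net.nil, n1, n2, n3, n4, n5, Net.nil, n7]
noncomputable def T : TCData := ⟨27, 27, 5, 4, nth Net.nil nl, ivOf ivl, cols, hcols, R0,
  nth [] [[], t1, t2, t3, t4, t5, [], t7], nth 0 [0, d1, d2, d3, d4, d5, 0, d7]⟩
theorem hn : NetsOK 27 (nth Net.nil nl) := netsOK_of_all (by decide +kernel)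
theorem hiv : IvOK (sg (nth Net.nil nl)) (ivOf ivl) :=
  ivOK_of_chk (k := 5) hn (by decide) (n := 8) (by decide) (by decide) (allN_true.1 (by decide +kernel))
theorem hb : T.Basic := TCData.basic_of_chk hn hiv (by decide +kernel)
theorem hG0 : ∀ r ∈ G0, ev (sg (nth Net.nil nl)) r = 1 :=
  rels_of_chk (k := 5) hn (by decide) hiv (allN_true.1 (by decide +kernel))
noncomputable def s1 : List TCData.Step := [.pts 0 0 0 5 [13],
 .pts 0 0 0 6 [14],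
 .all 1 0 0,
 .all 2 0 0,
 .pts 3 0 0 1 [1],
 .pts 3 0 0 7 [17],
 .all 4 0 0]
noncomputable def s2 : List TCData.Step := [.pts 0 1 0 4 [7],
 .pts 0 1 0 5 [8],
 .pts 0 1 0 12 [26],
 .pts 5 0 0 4 [9],
 .pts 5 0 0 7 [18],
 .all 6 0 0,
 .all 7 0 0,
 .pts 8 0 0 8 [20]]
noncomputable def s3 : List TCData.Step := [.all 1 1 0,
 .pts 5 1 0 3 [4],
 .pts 5 1 0 6 [13],
 .pts 5 1 0 11 [25],
 .pts 9 0 0 5 [11],
 .pts 9 0 0 6 [12],
 .pts 9 0 0 9 [22],
 .all 10 0 0,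
 .pts 11 0 0 3 [5],
 .pts 11 0 0 8 [20],
 .pts 11 0 0 9 [21]]
noncomputable def s4 : List TCData.Step := [.all 2 1 0,
 .all 6 1 0,
 .pts 9 1 0 2 [3],
 .pts 9 1 0 7 [18],
 .pts 9 1 0 10 [24],
 .pts 12 0 0 6 [15],
 .pts 12 0 0 7 [16],
 .all 13 0 0]
noncomputable def s5 : List TCData.Step := [.all 3 1 0,
 .all 7 1 0,
 .all 10 1 0,
 .pts 12 1 0 1 [2],
 .pts 12 1 0 8 [22],
 .pts 12 1 0 9 [23],
 .pts 14 0 0 3 [5]]
noncomputable def s7 : List TCData.Step := [.all 4 1 0,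
 .all 8 1 0,
 .pts 11 1 0 4 [9],
 .pts 11 1 0 10 [24],
 .pts 13 1 0 2 [2],
 .pts 13 1 0 5 [11],
 .pts 14 1 0 1 [1, 19],
 .pts 14 1 0 6 [15]]
theorem hR0 : ∀ r ∈ R0, ev (sg (nth Net.nil nl)) r = 1 := hG0
theorem col1 : T.ColOK 1 := TCData.colOK_of_chk (U := (T.stepsMask 1 s1 (T.mask0 1))) (V := (T.stepsMask 1 s1 (T.mask0 1))) hb (TCData.cov_stepsMask hb (by decide) s1 _ (T.cov_mask0 1)) (TCData.cov_stepsMask hb (by decide) s1 _ (T.cov_mask0 1)) (by decide +kernel)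
theorem col2 : T.ColOK 2 := TCData.colOK_of_chk (U := (T.stepsMask 2 s2 (T.mask0 2))) (V := (T.stepsMask 2 s2 (T.mask0 2))) hb (TCData.cov_stepsMask hb (by decide) s2 _ (T.cov_mask0 2)) (TCData.cov_stepsMask hb (by decide) s2 _ (T.cov_mask0 2)) (by decide +kernel)
theorem col3 : T.ColOK 3 := TCData.colOK_of_chk (U := (T.stepsMask 3 s3 (T.mask0 3))) (V := (T.stepsMask 3 s3 (T.mask0 3))) hb (TCData.cov_stepsMask hb (by decide) s3 _ (T.cov_mask0 3)) (TCData.cov_stepsMask hb (by decide) s3 _ (T.cov_mask0 3)) (by decide +kernel)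
theorem col4 : T.ColOK 4 := TCData.colOK_of_chk (U := (T.stepsMask 4 s4 (T.mask0 4))) (V := (T.stepsMask 4 s4 (T.mask0 4))) hb (TCData.cov_stepsMask hb (by decide) s4 _ (T.cov_mask0 4)) (TCData.cov_stepsMask hb (by decide) s4 _ (T.cov_mask0 4)) (by decide +kernel)
theorem col5 : T.ColOK 5 := TCData.colOK_of_chk (U := (T.stepsMask 5 s5 (T.mask0 5))) (V := (T.stepsMask 5 s5 (T.mask0 5))) hb (TCData.cov_stepsMask hb (by decide) s5 _ (T.cov_mask0 5)) (TCData.cov_stepsMask hb (by decide) s5 _ (T.cov_mask0 5)) (by decide +kernel)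
theorem col7 : T.ColOK 7 := TCData.colOK_of_chk (U := (T.stepsMask 7 s7 (T.mask0 7))) (V := (T.stepsMask 7 s7 (T.mask0 7))) hb (TCData.cov_stepsMask hb (by decide) s7 _ (T.cov_mask0 7)) (TCData.cov_stepsMask hb (by decide) s7 _ (T.cov_mask0 7)) (by decide +kernel)
theorem ok : T.OK := ⟨hb, TCData.treeOK_of_chk hn (by decide +kernel), (List.forall_mem_cons.2 ⟨col1, (List.forall_mem_cons.2 ⟨col2, (List.forall_mem_cons.2 ⟨col3, (List.forall_mem_cons.2 ⟨col4, (List.forall_mem_cons.2 ⟨col5, (List.forall_mem_cons.2 ⟨col7, (fun _ h => absurd h List.not_mem_nil)⟩)⟩)⟩)⟩)⟩)⟩), der _ _ hiv hR0⟩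
theorem bd {G : Type} [Group G] {e : ℕ → G} (h1 : IvOK e (ivOf ivl)) (h2 : ∀ r ∈ R0, ev e r = 1)
    {m : ℕ} (h : Bd (gen e hcols) m) : Bd (gen e cols) (27 * m) := ok.bd h1 (der G e h1 h2) h
theorem cm {G : Type} [Group G] {e : ℕ → G} (h1 : IvOK e (ivOf ivl)) (h2 : ∀ r ∈ R0, ev e r = 1)
    (h3 : gen e cols = ⊤) {ρ : G →* Equiv.Perm ℕ} (h4 : ∀ c, ρ (e c) = sg (nth Net.nil nl) c) :
    CosetModel ρ (gen e hcols) 27 := ok.cosetModel h1 (der G e h1 h2) h3 fun c _ => h4 c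

end H29.FiD
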