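import Mathlib
import Cfsg.Agent.H29.Ext

set_option autoImplicit false
set_option maxRecDepth 100000
set_option Elab.async false
set_option linter.all false

namespace H29.FiE

noncomputable def n1 : Net := ben 4 [(nat_lit 0x5f0),
 (nat_lit 0x10),
 (nat_lit 0x8),
 (nat_lit 0x0)]
noncomputable def t1 : List ℕ := [(nat_lit 0xa012),
 (nat_lit 0xc0b4),
 (nat_lit 0xf000)]
noncomputable def d1 : ℕ := (nat_lit 0xa40)
noncomputable def n2 : Net := ben 4 [(nat_lit 0x3c14),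
 (nat_lit 0x5000),
 (nat_lit 0x600),
 (nat_lit 0x0)]
noncomputable def t2 : List ℕ := [(nat_lit 0x8142),
 (nat_lit 0xe940),
 (nat_lit 0xc480)]
noncomputable def d2 : ℕ := (nat_lit 0x1028)
noncomputable def n3 : Net := ben 4 [(nat_lit 0xc3cc),
 (nat_lit 0x2502),
 (nat_lit 0x6600),
 (nat_lit 0x60)]
noncomputable def t3 : List ℕ := [(nat_lit 0x9ac0),
 (nat_lit 0x82d8),
 (nat_lit 0x9c00)]
noncomputable def d3 : ℕ := (nat_lit 0x4104)
noncomputable def n4 : Net := ben 4 [(nat_lit 0x4040),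
 (nat_lit 0xf0),
 (nat_lit 0xc),
 (nat_lit 0x0)]
noncomputable def t4 : List ℕ := [(nat_lit 0x192a),
 (nat_lit 0x2100),
 (nat_lit 0x3e00)]
noncomputable def d4 : ℕ := (nat_lit 0x8090)
noncomputable def n7 : Net := ben 4 [(nat_lit 0x1001),
 (nat_lit 0x300),
 (nat_lit 0x0),
 (nat_lit 0x0)]
noncomputable def t7 : List ℕ := [(nat_lit 0x8a64),
 (nat_lit 0xc078),
 (nat_lit 0xc080)]
noncomputable def d7 : ℕ := (nat_lit 0x2402)
def ivl : List ℕ := []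
def cols : List ℕ := [1, 2, 3, 4, 7]
def hcols : List ℕ := [1, 2, 3, 4]
def G0 : List (List ℕ) := [[1, 2, 1, 2, 1, 2],
 [1, 3, 1, 3],
 [1, 4, 1, 4],
 [1, 7, 1, 7],
 [2, 3, 2, 3, 2, 3],
 [2, 4, 2, 4],
 [2, 7, 2, 7],
 [3, 4, 3, 4, 3, 4],
 [3, 7, 3, 7, 3, 7],
 [4, 7, 4, 7]]
def R0 : List (List ℕ) := G0
theorem hii : ∀ c, ivOf ivl (ivOf ivl c) = c := ivOf_ivOf (by decide +kernel)
theorem der : Derives (ivOf ivl) R0 R0 := Derives.refl _ _
noncomputable def nl : List Net := [Net.nil, n1, n2, n3, n4, Net.nil, Net.nil, n7]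
noncomputable def T : TCData := ⟨16, 16, 4, 3, nth Net.nil nl, ivOf ivl, cols, hcols, R0,
  nth [] [[], t1, t2, t3, t4, [], [], t7], nth 0 [0, d1, d2, d3, d4, 0, 0, d7]⟩
theorem hn : NetsOK 16 (nth Net.nil nl) := netsOK_of_all (by decide +kernel)
theorem hiv : IvOK (sg (nth Net.nil nl)) (ivOf ivl) :=
  ivOK_of_chk (k := 4) hn (by decide) (n := 8) (by decide) (by decide) (allN_true.1 (by decide +kernel))
theorem hb : T.Basic := TCData.basic_of_chk hn hiv (by decide +kernel)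
theorem hG0 : ∀ r ∈ G0, ev (sg (nth Net.nil nl)) r = 1 :=
  rels_of_chk (k := 4) hn (by decide) hiv (allN_true.1 (by decide +kernel))
noncomputable def s1 : List TCData.Step := [.pts 0 0 0 4 [12],
 .pts 0 0 0 5 [13],
 .pts 1 0 0 2 [2],
 .pts 1 0 0 6 [14],
 .all 2 0 0,
 .pts 3 0 0 1 [1]]
noncomputable def s2 : List TCData.Step := [.pts 0 1 0 3 [6],
 .pts 0 1 0 4 [7],
 .pts 4 0 0 3 [8],
 .pts 4 0 0 6 [14],
 .pts 5 0 0 7 [15],
 .all 6 0 0]
noncomputable def s3 : List TCData.Step := [.pts 1 1 0 3 [6, 7],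
 .pts 4 1 0 2 [3],
 .pts 4 1 0 5 [12],
 .pts 7 0 0 2 [4],
 .pts 7 0 0 7 [15],
 .pts 8 0 0 4 [10],
 .pts 8 0 0 5 [11]]
noncomputable def s4 : List TCData.Step := [.all 5 1 0,
 .pts 7 1 0 3 [8],
 .pts 7 1 0 4 [9],
 .all 9 0 0]
noncomputable def s7 : List TCData.Step := [.all 3 1 0,
 .pts 6 1 0 2 [3],
 .pts 6 1 0 3 [5],
 .pts 8 1 0 1 [2],
 .pts 8 1 0 6 [14],
 .pts 9 1 0 2 [4],
 .pts 9 1 0 7 [15]]
theorem hR0 : ∀ r ∈ R0, ev (sg (nth Net.nil nl)) r = 1 := hG0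
theorem col1 : T.ColOK 1 := TCData.colOK_of_chk (U := (T.stepsMask 1 s1 (T.mask0 1))) (V := (T.stepsMask 1 s1 (T.mask0 1))) hb (TCData.cov_stepsMask hb (by decide) s1 _ (T.cov_mask0 1)) (TCData.cov_stepsMask hb (by decide) s1 _ (T.cov_mask0 1)) (by decide +kernel)
theorem col2 : T.ColOK 2 := TCData.colOK_of_chk (U := (T.stepsMask 2 s2 (T.mask0 2))) (V := (T.stepsMask 2 s2 (T.mask0 2))) hb (TCData.cov_stepsMask hb (by decide) s2 _ (T.cov_mask0 2)) (TCData.cov_stepsMask hb (by decide) s2 _ (T.cov_mask0 2)) (by decide +kernel)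
theorem col3 : T.ColOK 3 := TCData.colOK_of_chk (U := (T.stepsMask 3 s3 (T.mask0 3))) (V := (T.stepsMask 3 s3 (T.mask0 3))) hb (TCData.cov_stepsMask hb (by decide) s3 _ (T.cov_mask0 3)) (TCData.cov_stepsMask hb (by decide) s3 _ (T.cov_mask0 3)) (by decide +kernel)
theorem col4 : T.ColOK 4 := TCData.colOK_of_chk (U := (T.stepsMask 4 s4 (T.mask0 4))) (V := (T.stepsMask 4 s4 (T.mask0 4))) hb (TCData.cov_stepsMask hb (by decide) s4 _ (T.cov_mask0 4)) (TCData.cov_stepsMask hb (by decide) s4 _ (T.cov_mask0 4)) (by decide +kernel)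
theorem col7 : T.ColOK 7 := TCData.colOK_of_chk (U := (T.stepsMask 7 s7 (T.mask0 7))) (V := (T.stepsMask 7 s7 (T.mask0 7))) hb (TCData.cov_stepsMask hb (by decide) s7 _ (T.cov_mask0 7)) (TCData.cov_stepsMask hb (by decide) s7 _ (T.cov_mask0 7)) (by decide +kernel)
theorem ok : T.OK := ⟨hb, TCData.treeOK_of_chk hn (by decide +kernel), (List.forall_mem_cons.2 ⟨col1, (List.forall_mem_cons.2 ⟨col2, (List.forall_mem_cons.2 ⟨col3, (List.forall_mem_cons.2 ⟨col4, (List.forall_mem_cons.2 ⟨col7, (fun _ h => absurd h List.not_mem_nil)⟩)⟩)⟩)⟩)⟩), der _ _ hiv hR0⟩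
theorem bd {G : Type} [Group G] {e : ℕ → G} (h1 : IvOK e (ivOf ivl)) (h2 : ∀ r ∈ R0, ev e r = 1)
    {m : ℕ} (h : Bd (gen e hcols) m) : Bd (gen e cols) (16 * m) := ok.bd h1 (der G e h1 h2) h
theorem cm {G : Type} [Group G] {e : ℕ → G} (h1 : IvOK e (ivOf ivl)) (h2 : ∀ r ∈ R0, ev e r = 1)
    (h3 : gen e cols = ⊤) {ρ : G →* Equiv.Perm ℕ} (h4 : ∀ c, ρ (e c) = sg (nth Net.nil nl) c) :
    CosetModel ρ (gen e hcols) 16 := ok.cosetModel h1 (der G e h1 h2) h3 fun c _ => h4 c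

end H29.FiE
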