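import Mathlib
import Cfsg.Agent.H29.Cert2
import Cfsg.Agent.H29.Cover
import Cfsg.Agent.H29.Fi23X
import Cfsg.Agent.H29.FiA
import Cfsg.Agent.H29.FiB
import Cfsg.Agent.H29.FiC
import Cfsg.Agent.H29.FiD
import Cfsg.Agent.H29.FiE
import Cfsg.Agent.H29.FiF
import Cfsg.Prelude.Def_Spor_Fi23

set_option autoImplicit false
set_option maxRecDepth 100000
set_option Elab.async false
set_option linter.all false

namespace H29.Fi23

theorem ub : UB (ivOf []) FiA.R0 FiA.cols 129123503308800 := fun _ _ _ h1 h2 =>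
  FiA.bd h1 h2 (FiB.bd h1 (rels_sub h2 (by decide +kernel)) (FiC.bd h1 (rels_sub h2 (by decide +kernel)) (FiD.bd h1 (rels_sub h2 (by decide +kernel))
    (FiE.bd h1 (rels_sub h2 (by decide +kernel)) (FiF.bd h1 (rels_sub h2 (by decide +kernel)) (bd_nil _))))))
theorem ub23 : UB (ivOf []) Fi23T.R0 Fi23T.cols 4089470473293004800 := fun _ _ _ h1 h2 =>
  Fi23T.bd h1 h2 (ub _ _ h1 (rels_sub h2 (by decide +kernel)))
def idx : Cfsg.Spor.Fi23.Gen → ℕ
  | .a => 0
  | .b => 1
  | .c => 2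
  | .d => 3
  | .e => 4
  | .f => 5
  | .g => 6
  | .h => 7
  | .i => 8
  | .j => 9
def P : PData Cfsg.Spor.Fi23.Gen := ⟨Cfsg.Spor.Fi23.edges, Cfsg.Spor.Fi23.extra, [.a, .b, .c, .d, .e, .f, .g, .h, .i, .j],
  [(.a, true), (.b, true), (.c, true), (.d, true), (.e, true), (.f, true), (.g, true), (.h, true), (.i, true), (.j, true)], idx, []⟩
theorem coh : P.Coh := by decide +kernel
theorem hg : ∀ x, x ∈ P.gens := by intro x; cases x <;> decide
theorem hiv0 : IvOK P.e (ivOf []) := PData.ivOK coh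
theorem hR : ∀ r ∈ P.relL, ev P.e r = 1 := PData.rels coh hg
theorem top : gen P.e Fi23T.cols = ⊤ := PData.gen_top coh hg (by decide)
theorem bd : Finite P.G ∧ Nat.card P.G ≤ 4089470473293004800 :=
  (ub23 _ _ hiv0 (rels_sub hR (by decide +kernel))).of_top top
theorem exists_rho : ∃ ρ : P.G →* Equiv.Perm ℕ, ∀ c, ρ (P.e c) = sg (nth Net.nil Fi23T.nl) c :=
  PData.exists_rho coh hg Fi23T.hiv (rels_sub Fi23T.hR0 (by decide +kernel)) (by decide)
/-- The action on the 31671 cosets. -/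
noncomputable def ρ : P.G →* Equiv.Perm ℕ := exists_rho.choose
theorem hρ : ∀ c, ρ (P.e c) = sg (nth Net.nil Fi23T.nl) c := exists_rho.choose_spec
theorem cm : CosetModel ρ (gen P.e Fi23T.hcols) 31671 :=
  Fi23T.cm hiv0 (rels_sub hR (by decide +kernel)) top hρ
theorem card : Nat.card P.G = 4089470473293004800 ∧ ∀ g : P.G, (∀ i < 31671, ρ g i = i) → g = 1 :=
  card_eq_of_chain Fi23X.hn bd (fun c _ => Fi23X.map hρ c) Fi23X.ch (by decide +kernel)
theorem simple : IsSimpleGroup P.G :=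
  simple_of_cert (q := 23) (m := 177803064056217600) Fi23X.hn Fi23X.prim cm.toTrans (Fi23X.map hρ) card.2 card.1
    Fi23X.wit (ivOK_extE hiv0 Fi23X.hext) (rels_extE hR (by decide +kernel))
    ((gen_extE _ _ (by decide)).trans top) (l := [(0, 0), (9, 0), (17, 0), (24, 0), (27, 0), (30, 0), (35, 0), (41, 0), (42, 0)]) (by decide +kernel) (by norm_num)
theorem cardH : Nat.card (gen P.e FiA.cols) = 129123503308800 := cm.card_sub card.1

end H29.Fi23
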