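import Mathlib
import Cfsg.Agent.H29.Fi23Z.B
import Cfsg.Agent.H29.Fi23Z.C0

set_option autoImplicit false
set_option maxRecDepth 100000
set_option Elab.async false
set_option linter.all false

namespace H29.Fi23Z

theorem map {G : Type} [Group G] {e : ℕ → G} {ρ : G →* Equiv.Perm ℕ}
    (h : ∀ c, ρ (e c) = sg (nth Net.nil Fi23T.nl) c) : ∀ c, ρ (extE e 10 defs c) = sg nx c :=
  map_ext hext hiv hdef rfl rfl h
def RZ : List (List ℕ) := [[10, 10], [0, 10, 0, 10], [1, 10, 1, 10], [2, 10, 2, 10], [3, 10, 3, 10], [4, 10, 4, 10], [5, 10, 5, 10], [6, 10, 6, 10], [7, 10, 7, 10], [8, 10, 8, 10], [10, 9, 10, 9, 10, 9, 10, 9, 10, 9, 10, 9], [10, 13, 10, 12, 10, 13, 10, 12]]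
theorem hz : ∀ r ∈ RZ, ev (sg nx) r = 1 :=
  rels_of_chk (k := 15) hn (by decide) hiv (lt_step (lt_step (lt_step (lt_step (lt_step (lt_step (lt_step (lt_step (lt_step (lt_step (lt_step (lt_step (lt_step (lt_step (lt_step lt_base z0) z1) z2) z3) z4) z5) z6) z7) z8) z9) z10) z11) z12) z13) z14)

end H29.Fi23Z
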