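import Mathlib
import Cfsg.Agent.H29.Cover

/-!
# Conjugation read off a coset table, rank three simplicity, sign characters
-/

set_option autoImplicit false

namespace H29

/-- The word `w` sends the point `p` to `q`. -/
noncomputable def chkPt (nets : ℕ → Net) (w : List ℕ) (p q : ℕ) : Bool :=
  sub (bit p) (pullW nets w (bit q))

theorem pt_of_chk {K : ℕ} {nets : ℕ → Net} (hn : NetsOK K nets) {w : List ℕ} {p q : ℕ}
    (h : chkPt nets w p q = true) : ev (sg nets) w p = q := by
  have := sub_true h (i := p) (by simp [testBit_bit])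
  rw [testBit_pullW hn, testBit_bit] at this
  exact (of_decide_eq_true this).symm

section

variable {G : Type*} [Group G] {ρ : G →* Equiv.Perm ℕ} {e : ℕ → G}

/-- `y` is the conjugate of `t` attached to the point `p`. -/
def IsT (ρ : G →* Equiv.Perm ℕ) (t : G) (p : ℕ) (y : G) : Prop :=
  ∃ g, ρ g 0 = p ∧ y = g * t * g⁻¹

theorem IsT.base (t : G) : IsT ρ t 0 t := ⟨1, by simp, by simp⟩

theorem IsT.map {t y : G} {p : ℕ} (h : IsT ρ t p y) (x : G) : IsT ρ t (ρ x p) (x * y * x⁻¹) := by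
  obtain ⟨g, rfl, rfl⟩ := h
  exact ⟨x * g, by simp, by group⟩

theorem IsT.unique {H : Subgroup G} {N : ℕ} (cm : CosetModel ρ H N) {t : G}
    (ht : ∀ g ∈ H, g * t = t * g) {p : ℕ} {y z : G} (h1 : IsT ρ t p y) (h2 : IsT ρ t p z) : y = z := by
  obtain ⟨g, rfl, rfl⟩ := h1
  obtain ⟨g', h, rfl⟩ := h2
  have := ht (g'⁻¹ * g) ((cm.mem _).1 (by rw [map_mul, Equiv.Perm.mul_apply, ← h, map_inv]; simp))
  calc g * t * g⁻¹ = g' * (g'⁻¹ * g * t) * g⁻¹ := by group
    _ = g' * t * g'⁻¹ := by rw [this]; group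

theorem IsT.conj {H : Subgroup G} {N : ℕ} (cm : CosetModel ρ H N) {t : G}
    (ht : ∀ g ∈ H, g * t = t * g) {p q : ℕ} {y z x : G} (h1 : IsT ρ t p y) (h2 : IsT ρ t q z)
    (hx : ρ x p = q) : x * y * x⁻¹ = z := (h1.map x).unique cm ht (hx ▸ h2)

theorem braid_conj {a b : ℕ} (hiv : IvOK e (ivOf [])) (h : ev e [a, b, a, b, a, b] = 1) :
    ev e [a, b] * e a * (ev e [a, b])⁻¹ = e b ∧ ev e [b, a] * e b * (ev e [b, a])⁻¹ = e a := by
  have ha : (e a)⁻¹ = e a := (hiv a).symm
  have hb : (e b)⁻¹ = e b := (hiv b).symm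
  simp only [ev_cons, ev_nil, mul_one, mul_inv_rev, ha, hb] at h ⊢
  have h1 : e a * e b * e a = e b * e a * e b := by
    calc e a * e b * e a = e a * (e b * (e a * (e b * (e a * e b)))) * (e b)⁻¹ * (e a)⁻¹ * (e b)⁻¹ := by
          group
      _ = e b * e a * e b := by rw [h, ha, hb, one_mul]
  constructor
  · calc e a * e b * e a * (e b * e a) = e b * (e a * (e b * (e b)⁻¹) * (e a)⁻¹) := by
          rw [h1, ha, hb]; group
      _ = e b := by group
  · calc e b * e a * e b * (e a * e b) = e a * (e b * (e a * (e a)⁻¹) * (e b)⁻¹) := by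
          rw [← h1, ha, hb]; group
      _ = e a := by group

theorem conj_ev {x : G} {σ : ℕ → ℕ} : ∀ {w : List ℕ}, (∀ c ∈ w, x * e c * x⁻¹ = e (σ c)) →
    x * ev e w * x⁻¹ = ev e (w.map σ)
  | [], _ => by simp
  | c :: w, h => by
    rw [List.map_cons, ev_cons, ev_cons, ← h c (by simp), ← conj_ev fun y hy => h y (by simp [hy])]
    group

theorem comm_gen {L : List ℕ} {t : G} (h : ∀ c ∈ L, e c * t = t * e c) :
    ∀ g ∈ gen e L, g * t = t * g := fun _ hg =>
  Subgroup.mem_centralizer_singleton_iff.1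
    (gen_le.2 (fun c hc => Subgroup.mem_centralizer_singleton_iff.2 (h c hc)) hg)

theorem comm_of_rel {a b : ℕ} (hiv : IvOK e (ivOf [])) (h : ev e [a, b, a, b] = 1) :
    e a * e b = e b * e a := by
  have ha : (e a)⁻¹ = e a := (hiv a).symm
  have hb : (e b)⁻¹ = e b := (hiv b).symm
  simp only [ev_cons, ev_nil, mul_one] at h
  calc e a * e b = e a * (e b * (e a * e b)) * (e b)⁻¹ * (e a)⁻¹ := by group
    _ = e b * e a := by rw [h, ha, hb, one_mul]

theorem ev_mul_comm {t : G} {e' : ℕ → G} : ∀ {w : List ℕ},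
    (∀ c ∈ w, e' c = e c * t ∧ e c * t = t * e c) → ev e' w = ev e w * t ^ w.length
  | [], _ => by simp
  | c :: w, h => by
    have h1 : ∀ y ∈ w, e' y = e y * t ∧ e y * t = t * e y := fun y hy => h y (by simp [hy])
    have h2 : ev e w * t = t * ev e w :=
      comm_gen (L := w) (fun y hy => (h1 y hy).2) _ (ev_mem_gen fun _ h => h)
    rw [ev_cons, ev_cons, ev_mul_comm h1, (h c (by simp)).1, List.length_cons, pow_succ']
    calc e c * t * (ev e w * t ^ w.length) = e c * (t * ev e w) * t ^ w.length := by group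
      _ = _ := by rw [← h2]; group

/-- A dichotomy for a subgroup `K` and an element `t`, by induction on the generators. -/
theorem dichotomy {L : List ℕ} {K : Subgroup G} {t : G} (h2 : t * t = 1)
    (hn : ∀ k ∈ K, t * k * t ∈ K) (h : ∀ c ∈ L, e c ∈ K ∨ e c * t ∈ K) :
    ∀ g ∈ gen e L, g ∈ K ∨ g * t ∈ K := by
  have ht : t⁻¹ = t := inv_eq_of_mul_eq_one_left h2
  let M : Subgroup G :=
    { carrier := {g | g ∈ K ∨ g * t ∈ K}
      one_mem' := Or.inl K.one_mem
      mul_mem' := by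
        rintro a b (ha | ha) (hb | hb)
        · exact Or.inl (K.mul_mem ha hb)
        · exact Or.inr (mul_assoc a b t ▸ K.mul_mem ha hb)
        · right
          have := K.mul_mem ha (hn b hb)
          rwa [show a * t * (t * b * t) = a * (t * t) * b * t by group, h2, mul_one] at this
        · left
          have := K.mul_mem ha (hn _ hb)
          rwa [show a * t * (t * (b * t) * t) = a * (t * t) * b * (t * t) by group, h2, mul_one,
            mul_one] at this
      inv_mem' := by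
        rintro a (ha | ha)
        · exact Or.inl (K.inv_mem ha)
        · right
          have := hn _ (K.inv_mem ha)
          rwa [mul_inv_rev, show t * (t⁻¹ * a⁻¹) * t = a⁻¹ * t by group] at this }
  exact fun g hg => (gen_le (H := M)).2 h hg

theorem index_two_of_sign {H K : Subgroup G} {t : G} (ht : t ∈ H) (χ : G →* ℤˣ) (h1 : χ t = -1)
    (hK : ∀ k ∈ K, χ k = 1) (h : ∀ g ∈ H, g ∈ K ∨ g * t ∈ K) : (K.subgroupOf H).index = 2 := by
  refine Subgroup.index_eq_two_iff.2 ⟨⟨t, ht⟩, fun b => ?_⟩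
  simp only [Subgroup.mem_subgroupOf, Subgroup.coe_mul]
  have key : ¬ ((b : G) * t ∈ K ∧ (b : G) ∈ K) := fun h3 => by
    have := hK _ h3.1
    rw [map_mul, hK _ h3.2, h1] at this
    exact absurd this (by decide)
  rcases h b b.2 with h4 | h4
  · exact Or.inr ⟨h4, fun h5 => key ⟨h5, h4⟩⟩
  · exact Or.inl ⟨h4, fun h5 => key ⟨h4, h5⟩⟩

/-- A primitive group of rank at most three, of degree divisible by three primes, with a simple
point stabiliser, is simple. -/
theorem simple_of_rank3 [Finite G] {nets : ℕ → Net} {K N : ℕ} (hn : NetsOK K nets) {L : List ℕ}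
    {x y : ℕ} (hp : Prim nets N L [x, y]) (ht : Trans ρ N) (hρ : ∀ c, ρ (e c) = sg nets c)
    (hf : ∀ g : G, (∀ i < N, ρ g i = i) → g = 1) (hs : IsSimpleGroup (stab ρ 0)) (hN : 42 ∣ N) :
    IsSimpleGroup G := by
  have : Nontrivial G := (stab ρ 0).subtype_injective.nontrivial
  refine ⟨fun M hM => ?_⟩
  by_cases h0 : M = ⊥
  · exact Or.inl h0
  right
  have htr := hp.normal_transitive hn ht hρ M fun h => h0 (eq_bot_iff.2 fun g hg => hf g (h hg))
  rcases hs.eq_bot_or_eq_top_of_normal (M.subgroupOf (stab ρ 0)) inferInstance with h1 | h1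
  · exfalso
    have reg : ∀ m ∈ M, ∀ m' ∈ M, ρ m 0 = ρ m' 0 → m = m' := fun m hm m' hm' h => by
      have a1 : m'⁻¹ * m ∈ stab ρ 0 := by
        rw [mem_stab, map_mul, Equiv.Perm.mul_apply, h, map_inv]; simp
      have a2 : (⟨_, a1⟩ : stab ρ 0) ∈ M.subgroupOf (stab ρ 0) := M.mul_mem (M.inv_mem hm') hm
      rw [h1, Subgroup.mem_bot, Subtype.ext_iff] at a2
      exact (inv_mul_eq_one.1 a2).symm
    have key : ∀ p, p.Prime → p ∣ 42 → ∃ m ∈ M, orderOf m = p ∧
        (sg nets x (ρ m 0) = 0 ∨ sg nets y (ρ m 0) = 0) := fun p pp hp42 => by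
      have := Fact.mk pp
      obtain ⟨⟨m, hm⟩, ho⟩ := exists_prime_orderOf_dvd_card' (G := M) p
        (hp42.trans (hN.trans (dvd_card_of_transitive ht M htr)))
      rw [← Subgroup.orderOf_coe] at ho
      obtain ⟨h, hh, s, a1, a2⟩ := hp.cover.exists_mem (e := e) (fun c _ => hρ c) (i := ρ m 0)
        (by simp only [testBit_ones, decide_eq_true_eq]; exact ht.lt _ 0 ht.pos)
      have a3 : ρ h 0 = 0 := fix_of_mem_gen (fun c hc => by rw [hρ]; exact hp.fix c hc) hh
      have a4 : ρ (h⁻¹ * m * h⁻¹⁻¹) 0 = s := by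
        rw [inv_inv, map_mul, map_mul, Equiv.Perm.mul_apply, Equiv.Perm.mul_apply, a3, ← a2, map_inv]
        simp
      have a5 : orderOf (h⁻¹ * m * h⁻¹⁻¹) = p := by
        rw [← MulAut.conj_apply, MulEquiv.orderOf_eq, ho]
      refine ⟨_, hM.conj_mem m hm h⁻¹, a5, ?_⟩
      rw [a4]
      rcases testBit_primStart hn a1 with rfl | ⟨z, hz, h3⟩
      · have := reg _ (hM.conj_mem m hm h⁻¹) 1 M.one_mem (by rw [a4]; simp)
        rw [this, orderOf_one] at a5
        exact absurd a5.symm pp.one_lt.ne'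
      · simp only [List.mem_cons, List.not_mem_nil, or_false] at hz
        rcases hz with rfl | rfl
        · exact Or.inl h3
        · exact Or.inr h3
    have same : ∀ z, ∀ m ∈ M, ∀ m' ∈ M, sg nets z (ρ m 0) = 0 → sg nets z (ρ m' 0) = 0 →
        orderOf m = orderOf m' := fun z m hm m' hm' a b => by
      rw [reg m hm m' hm' ((sg nets z).injective (a.trans b.symm))]
    obtain ⟨m2, a2, b2, c2⟩ := key 2 (by norm_num) (by norm_num)
    obtain ⟨m3, a3, b3, c3⟩ := key 3 (by norm_num) (by norm_num)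
    obtain ⟨m7, a7, b7, c7⟩ := key 7 (by norm_num) (by norm_num)
    rcases c2 with c2 | c2 <;> rcases c3 with c3 | c3 <;> rcases c7 with c7 | c7 <;>
      first
        | (have := same _ _ a2 _ a3 c2 c3; omega)
        | (have := same _ _ a2 _ a7 c2 c7; omega)
        | (have := same _ _ a3 _ a7 c3 c7; omega)
  · rw [eq_top_iff]
    intro g _
    obtain ⟨m, hm, h2⟩ := htr _ (ht.lt g 0 ht.pos)
    have a1 : m⁻¹ * g ∈ stab ρ 0 := by
      rw [mem_stab, map_mul, Equiv.Perm.mul_apply, ← h2, map_inv]; simp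
    have a2 : (⟨_, a1⟩ : stab ρ 0) ∈ M.subgroupOf (stab ρ 0) := h1 ▸ Subgroup.mem_top _
    simpa using M.mul_mem hm a2

end

end H29
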