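import Mathlib
import Cfsg.Agent.H29.YB.M6

/-!
# The centraliser of `f₁` and the interchange of two arms in the presented Baby Monster
-/

set_option autoImplicit false
set_option maxRecDepth 100000
set_option linter.all false

namespace H29.YB
open H19 H29.BE H29.BP H29.BP.Dat H29.BM

def L3 : List ℕ := [0, 1, 2, 3, 5, 6, 7, 8, 9, 10]

theorem L3_dich : ∀ h ∈ LL, h ∈ gen sm L3 ∨ h * om ∈ gen sm L3 := by
  have oi : om⁻¹ = om := sm_inv 15
  rw [← gen_LL]
  refine dichotomy om_sq (fun k hk => ?_) fun c hc => ?_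
  · have : gen sm L3 ≤ (gen sm L3).comap (MulAut.conj om).toMonoidHom :=
      gen_le.2 fun c hc => by
        change om * sm c * om⁻¹ ∈ gen sm L3
        rw [om_sm (by revert c; decide)]; exact mem_gen (by revert c; decide)
    have h1 : om * k * om⁻¹ ∈ gen sm L3 := this hk
    rwa [oi] at h1
  · by_cases e : c ∈ L3
    · exact Or.inl (mem_gen e)
    · have : c = 11 ∨ c = 12 ∨ c = 15 := by revert c; decide
      rcases this with rfl | rfl | rfl
      · exact Or.inl (rel_f1 ▸ ev_mem_gen (by decide +kernel))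
      · exact Or.inl (sm12 ▸ Subgroup.mul_mem _ (Subgroup.mul_mem _ (ev_mem_gen (by decide))
          (mem_gen (by decide))) (Subgroup.inv_mem _ (ev_mem_gen (by decide))))
      · exact Or.inr (by rw [sm15, om_sq]; exact Subgroup.one_mem _)

theorem nom_BB : -om ∈ BB := (GP_PB (KK_GP om_mem)).resolve_left om_not

theorem cent_d {h : GG} (hh : h ∈ BB) (e : h * sm 11 = sm 11 * h) :
    h ∈ gen sm L3 ∨ h * -om ∈ gen sm L3 := by
  have hle : gen sm L3 ≤ BB := gen_le.2 fun c hc => sm_BB (by revert c; decide)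
  rw [sm_lt (by omega), xv11] at e
  rcases pm_of_comm (BB_le hh) u_XX e with a | a
  · refine Or.inl ((L3_dich h ⟨BB_le hh, a⟩).resolve_right fun b => om_not ?_)
    simpa using BB.mul_mem (BB.inv_mem hh) (hle b)
  · have : -h ∈ LL := ⟨by
      have := GP.mul_mem neg_GP (BB_le hh)
      rwa [← neg_mul', one_mul] at this, by
      change (-h) • u = u
      rw [neg_smul'', a, neg_neg]⟩
    rcases L3_dich _ this with b | b
    · have := BB.mul_mem (hle b) (BB.inv_mem hh)
      rw [← neg_mul', mul_inv_cancel] at this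
      exact absurd this neg_BB
    · exact Or.inr (by rwa [← mul_neg', neg_mul'])

theorem tb_main (hB : Cfsg.IsB Cfsg.Spor.BabyMonster) : ∃ ω : PY.G,
    (∀ c < 11, ω * PY.e c * ω⁻¹ = PY.e (ta c)) ∧
    ∀ b : PY.G, b * ev PY.e [6, 5, 0, 1, 2, 3, 8] ^ 9 = ev PY.e [6, 5, 0, 1, 2, 3, 8] ^ 9 * b →
      b ∈ gen PY.e L3 ∨ b * ω ∈ gen PY.e L3 := by
  obtain ⟨π, hπ⟩ := sm_yr.hom
  have h : π.range = BB := by
    rw [MonoidHom.range_eq_map, ← PY_top, map_gen, ← gen_BB]
    exact gen_congr fun c hc => hπ c (by revert c; decide)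
  have hs : IsSimpleGroup PY.G := hB.1
  have hi : Function.Injective π := by
    refine (MonoidHom.ker_eq_bot_iff π).1 (π.normal_ker.eq_bot_or_eq_top.resolve_right fun e => ?_)
    obtain ⟨a, b, hab⟩ := BB_nonab
    obtain ⟨x, hx⟩ : a.1 ∈ π.range := by rw [h]; exact a.2
    have : a = 1 := Subtype.ext (hx ▸ (e ▸ Subgroup.mem_top x : x ∈ π.ker))
    exact absurd (by rw [this, one_mul, mul_one]) hab
  obtain ⟨ω, hω⟩ : -om ∈ π.range := h ▸ nom_BB
  have hm : (gen PY.e L3).map π = gen sm L3 := by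
    rw [map_gen]; exact gen_congr fun c hc => hπ c (by revert c; decide)
  have k : ∀ x, π x ∈ gen sm L3 → x ∈ gen PY.e L3 := fun x hx => by
    rw [← hm] at hx
    obtain ⟨y, hy, e⟩ := hx
    exact hi e ▸ hy
  refine ⟨ω, fun c hc => hi ?_, fun b hb => ?_⟩
  · rw [map_mul, map_mul, map_inv, hω, hπ c hc, hπ _ (by interval_cases c <;> decide),
      ← om_sm (by omega), neg_inv', ← mul_neg', ← neg_mul', ← neg_mul', neg_neg']
  · have e : π (ev PY.e [6, 5, 0, 1, 2, 3, 8] ^ 9) = sm 11 := by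
      rw [← rel_f1, ← ev_powW, map_ev]
      exact ev_congr fun c hc => hπ c (by revert c; decide +kernel)
    have := congrArg π hb
    rw [map_mul, map_mul, e] at this
    exact (cent_d (h ▸ ⟨b, rfl⟩) this).imp (k _) fun a => k _ (by rwa [map_mul, hω])

end H29.YB
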