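import Mathlib
import Cfsg.Agent.H29.Ext

set_option autoImplicit false
set_option maxRecDepth 100000
set_option Elab.async false
set_option linter.all false

namespace H29.FiC2

noncomputable def n1 : Net := ben 5 [(nat_lit 0xc117c0),
 (nat_lit 0x200500),
 (nat_lit 0x6600),
 (nat_lit 0x60),
 (nat_lit 0x0)]
noncomputable def t1 : List ℕ := [(nat_lit 0xa90804a),
 (nat_lit 0xd00c28c),
 (nat_lit 0xc050),
 (nat_lit 0xf9c0000)]
noncomputable def d1 : ℕ := (nat_lit 0x422900)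
noncomputable def n2 : Net := ben 5 [(nat_lit 0x4cf050),
 (nat_lit 0x21000),
 (nat_lit 0x800),
 (nat_lit 0x0),
 (nat_lit 0x0)]
noncomputable def t2 : List ℕ := [(nat_lit 0xa17050a),
 (nat_lit 0xd07b20c),
 (nat_lit 0xc11700),
 (nat_lit 0xf380000)]
noncomputable def d2 : ℕ := (nat_lit 0x40a0)
noncomputable def n3 : Net := ben 5 [(nat_lit 0x3000f30),
 (nat_lit 0xa500ba0),
 (nat_lit 0x8c2208),
 (nat_lit 0x880a0),
 (nat_lit 0x80)]
noncomputable def t3 : List ℕ := [(nat_lit 0xa556b02),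
 (nat_lit 0xc017a04),
 (nat_lit 0x17160),
 (nat_lit 0xe620000)]
noncomputable def d3 : ℕ := (nat_lit 0x1080410)
noncomputable def n4 : Net := ben 5 [(nat_lit 0xf004004),
 (nat_lit 0x700f000),
 (nat_lit 0x110c00),
 (nat_lit 0x10000),
 (nat_lit 0x0)]
noncomputable def t4 : List ℕ := [(nat_lit 0xf552992),
 (nat_lit 0x810210),
 (nat_lit 0xd1103e0),
 (nat_lit 0xffe0000)]
noncomputable def d4 : ℕ := (nat_lit 0x9008)
noncomputable def n5 : Net := ben 5 [(nat_lit 0xc0c000c),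
 (nat_lit 0x2500002),
 (nat_lit 0xbf0000),
 (nat_lit 0xb0b0),
 (nat_lit 0xb0)]
noncomputable def t5 : List ℕ := [(nat_lit 0x1422990),
 (nat_lit 0x1800e18),
 (nat_lit 0x8000fe0),
 (nat_lit 0x9e04000)]
noncomputable def d5 : ℕ := (nat_lit 0x4150004)
noncomputable def n6 : Net := ben 5 [(nat_lit 0x7f00001),
 (nat_lit 0xaa00000),
 (nat_lit 0x8f0000),
 (nat_lit 0x80000),
 (nat_lit 0x0)]
noncomputable def t6 : List ℕ := [(nat_lit 0xe429994),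
 (nat_lit 0xf181e18),
 (nat_lit 0x1fe0),
 (nat_lit 0x208e000)]
noncomputable def d6 : ℕ := (nat_lit 0xa00002)
noncomputable def n7 : Net := ben 5 [(nat_lit 0xc300100),
 (nat_lit 0xb000030),
 (nat_lit 0x220000),
 (nat_lit 0xa0000),
 (nat_lit 0x0)]
noncomputable def t7 : List ℕ := [(nat_lit 0x45564aa),
 (nat_lit 0x81780c),
 (nat_lit 0x17c00),
 (nat_lit 0xe68000)]
noncomputable def d7 : ℕ := (nat_lit 0xa000240)
def ivl : List ℕ := []
def cols : List ℕ := [1, 2, 3, 4, 5, 6, 7]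
def hcols : List ℕ := [1, 2, 3, 4, 5, 7]
def G0 : List (List ℕ) := [[1, 2, 1, 2, 1, 2],
 [1, 3, 1, 3],
 [1, 4, 1, 4],
 [1, 5, 1, 5],
 [1, 6, 1, 6],
 [1, 7, 1, 7],
 [2, 3, 2, 3, 2, 3],
 [2, 4, 2, 4],
 [2, 5, 2, 5],
 [2, 6, 2, 6],
 [2, 7, 2, 7],
 [3, 4, 3, 4, 3, 4],
 [3, 5, 3, 5],
 [3, 6, 3, 6],
 [3, 7, 3, 7, 3, 7],
 [4, 5, 4, 5, 4, 5],
 [4, 6, 4, 6],
 [4, 7, 4, 7],
 [5, 6, 5, 6, 5, 6],
 [5, 7, 5, 7],
 [6, 7, 6, 7],
 [1, 2, 3, 4, 5, 6, 7, 1, 2, 3, 4, 5, 6, 7, 1, 2, 3, 4, 5, 6, 7, 1, 2, 3, 4, 5, 6, 7, 1, 2, 3, 4, 5, 6, 7, 1, 2, 3, 4, 5, 6, 7, 1, 2, 3, 4, 5, 6, 7, 1, 2, 3, 4, 5, 6, 7, 1, 2, 3, 4, 5, 6, 7]]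
def R0 : List (List ℕ) := G0
theorem hii : ∀ c, ivOf ivl (ivOf ivl c) = c := ivOf_ivOf (by decide +kernel)
theorem der : Derives (ivOf ivl) R0 R0 := Derives.refl _ _
noncomputable def nl : List Net := [Net.nil, n1, n2, n3, n4, n5, n6, n7]
noncomputable def T : TCData := ⟨28, 28, 5, 4, nth Net.nil nl, ivOf ivl, cols, hcols, R0,
  nth [] [[], t1, t2, t3, t4, t5, t6, t7], nth 0 [0, d1, d2, d3, d4, d5, d6, d7]⟩
theorem hn : NetsOK 28 (nth Net.nil nl) := netsOK_of_all (by decide +kernel)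
theorem hiv : IvOK (sg (nth Net.nil nl)) (ivOf ivl) :=
  ivOK_of_chk (k := 5) hn (by decide) (n := 8) (by decide) (by decide) (allN_true.1 (by decide +kernel))
theorem hb : T.Basic := TCData.basic_of_chk hn hiv (by decide +kernel)
theorem hG0 : ∀ r ∈ G0, ev (sg (nth Net.nil nl)) r = 1 :=
  rels_of_chk (k := 5) hn (by decide) hiv (allN_true.1 (by decide +kernel))
noncomputable def s1 : List TCData.Step := [.pts 0 0 0 6 [14],
 .pts 0 0 0 7 [15],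
 .all 1 0 0,
 .pts 2 0 0 3 [3],
 .pts 3 0 0 2 [2],
 .pts 3 0 0 8 [18],
 .all 4 0 0,
 .all 5 0 0]
noncomputable def s2 : List TCData.Step := [.pts 0 1 0 5 [8],
 .pts 0 1 0 6 [9],
 .pts 6 0 0 5 [10],
 .pts 6 0 0 8 [19],
 .all 7 0 0,
 .all 8 0 0,
 .all 9 0 0,
 .pts 10 0 0 9 [25]]
noncomputable def s3 : List TCData.Step := [.pts 1 1 0 3 [9],
 .pts 1 1 0 5 [8],
 .pts 6 1 0 4 [5],
 .pts 6 1 0 7 [14],
 .pts 11 0 0 6 [12],
 .pts 11 0 0 7 [13],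
 .all 12 0 0,
 .all 13 0 0,
 .all 14 0 0]
noncomputable def s4 : List TCData.Step := [.all 2 1 0,
 .all 7 1 0,
 .pts 11 1 0 3 [4],
 .pts 11 1 0 8 [19],
 .pts 15 0 0 7 [16],
 .pts 15 0 0 8 [17],
 .all 16 0 0,
 .pts 17 0 0 4 [6],
 .pts 17 0 0 9 [25],
 .pts 21 3 0 13 [20, 24]]
noncomputable def s5 : List TCData.Step := [.all 3 1 0,
 .all 8 1 0,
 .all 12 1 0,
 .pts 15 1 0 2 [3],
 .pts 18 0 0 8 [21],
 .pts 18 0 0 9 [22],
 .pts 18 0 0 10 [23],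
 .pts 19 0 0 4 [6],
 .pts 19 0 0 12 [27]]
noncomputable def s6 : List TCData.Step := [.all 4 1 0,
 .all 9 1 0,
 .all 13 1 0,
 .all 16 1 0,
 .pts 18 1 0 1 [2],
 .all 20 0 0]
noncomputable def s7 : List TCData.Step := [.all 5 1 0,
 .all 10 1 0,
 .pts 14 1 0 5 [10],
 .pts 17 1 0 3 [3],
 .pts 17 1 0 6 [12],
 .all 19 1 0,
 .pts 20 1 0 1 [1],
 .pts 20 1 0 8 [21]]
theorem hR0 : ∀ r ∈ R0, ev (sg (nth Net.nil nl)) r = 1 := hG0
theorem col1 : T.ColOK 1 := TCData.colOK_of_chk (U := (T.stepsMask 1 s1 (T.mask0 1))) (V := (T.stepsMask 1 s1 (T.mask0 1))) hb (TCData.cov_stepsMask hb (by decide) s1 _ (T.cov_mask0 1)) (TCData.cov_stepsMask hb (by decide) s1 _ (T.cov_mask0 1)) (by decide +kernel)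
theorem col2 : T.ColOK 2 := TCData.colOK_of_chk (U := (T.stepsMask 2 s2 (T.mask0 2))) (V := (T.stepsMask 2 s2 (T.mask0 2))) hb (TCData.cov_stepsMask hb (by decide) s2 _ (T.cov_mask0 2)) (TCData.cov_stepsMask hb (by decide) s2 _ (T.cov_mask0 2)) (by decide +kernel)
theorem col3 : T.ColOK 3 := TCData.colOK_of_chk (U := (T.stepsMask 3 s3 (T.mask0 3))) (V := (T.stepsMask 3 s3 (T.mask0 3))) hb (TCData.cov_stepsMask hb (by decide) s3 _ (T.cov_mask0 3)) (TCData.cov_stepsMask hb (by decide) s3 _ (T.cov_mask0 3)) (by decide +kernel)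
theorem col4 : T.ColOK 4 := TCData.colOK_of_chk (U := (T.stepsMask 4 s4 (T.mask0 4))) (V := (T.stepsMask 4 s4 (T.mask0 4))) hb (TCData.cov_stepsMask hb (by decide) s4 _ (T.cov_mask0 4)) (TCData.cov_stepsMask hb (by decide) s4 _ (T.cov_mask0 4)) (by decide +kernel)
theorem col5 : T.ColOK 5 := TCData.colOK_of_chk (U := (T.stepsMask 5 s5 (T.mask0 5))) (V := (T.stepsMask 5 s5 (T.mask0 5))) hb (TCData.cov_stepsMask hb (by decide) s5 _ (T.cov_mask0 5)) (TCData.cov_stepsMask hb (by decide) s5 _ (T.cov_mask0 5)) (by decide +kernel)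
theorem col6 : T.ColOK 6 := TCData.colOK_of_chk (U := (T.stepsMask 6 s6 (T.mask0 6))) (V := (T.stepsMask 6 s6 (T.mask0 6))) hb (TCData.cov_stepsMask hb (by decide) s6 _ (T.cov_mask0 6)) (TCData.cov_stepsMask hb (by decide) s6 _ (T.cov_mask0 6)) (by decide +kernel)
theorem col7 : T.ColOK 7 := TCData.colOK_of_chk (U := (T.stepsMask 7 s7 (T.mask0 7))) (V := (T.stepsMask 7 s7 (T.mask0 7))) hb (TCData.cov_stepsMask hb (by decide) s7 _ (T.cov_mask0 7)) (TCData.cov_stepsMask hb (by decide) s7 _ (T.cov_mask0 7)) (by decide +kernel)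
theorem ok : T.OK := ⟨hb, TCData.treeOK_of_chk hn (by decide +kernel), (List.forall_mem_cons.2 ⟨col1, (List.forall_mem_cons.2 ⟨col2, (List.forall_mem_cons.2 ⟨col3, (List.forall_mem_cons.2 ⟨col4, (List.forall_mem_cons.2 ⟨col5, (List.forall_mem_cons.2 ⟨col6, (List.forall_mem_cons.2 ⟨col7, (fun _ h => absurd h List.not_mem_nil)⟩)⟩)⟩)⟩)⟩)⟩)⟩), der _ _ hiv hR0⟩
theorem bd {G : Type} [Group G] {e : ℕ → G} (h1 : IvOK e (ivOf ivl)) (h2 : ∀ r ∈ R0, ev e r = 1)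
    {m : ℕ} (h : Bd (gen e hcols) m) : Bd (gen e cols) (28 * m) := ok.bd h1 (der G e h1 h2) h
theorem cm {G : Type} [Group G] {e : ℕ → G} (h1 : IvOK e (ivOf ivl)) (h2 : ∀ r ∈ R0, ev e r = 1)
    (h3 : gen e cols = ⊤) {ρ : G →* Equiv.Perm ℕ} (h4 : ∀ c, ρ (e c) = sg (nth Net.nil nl) c) :
    CosetModel ρ (gen e hcols) 28 := ok.cosetModel h1 (der G e h1 h2) h3 fun c _ => h4 c

end H29.FiC2
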