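import Mathlib
import Cfsg.Agent.H29.Cert2
import Cfsg.Agent.H29.Cover
import Cfsg.Agent.H29.Fi22X
import Cfsg.Agent.H29.FiA
import Cfsg.Agent.H29.FiB
import Cfsg.Agent.H29.FiC2
import Cfsg.Agent.H29.FiD
import Cfsg.Agent.H29.FiE
import Cfsg.Agent.H29.FiF
import Cfsg.Prelude.Def_Spor_Fi22

set_option autoImplicit false
set_option maxRecDepth 100000
set_option Elab.async false
set_option linter.all false

namespace H29.Fi22

def idx : Cfsg.Spor.Fi22.Gen → ℕ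
  | .a => 0
  | .b => 1
  | .c => 2
  | .d => 3
  | .e => 4
  | .f => 5
  | .g => 6
  | .h => 7
  | .i => 8
def P : PData Cfsg.Spor.Fi22.Gen := ⟨Cfsg.Spor.Fi22.edges, Cfsg.Spor.Fi22.extra, [.a, .b, .c, .d, .e, .f, .g, .h, .i],
  [(.a, true), (.b, true), (.c, true), (.d, true), (.e, true), (.f, true), (.g, true), (.h, true), (.i, true)], idx, []⟩
theorem coh : P.Coh := by decide +kernel
theorem hg : ∀ x, x ∈ P.gens := by intro x; cases x <;> decide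
theorem hiv0 : IvOK P.e (ivOf []) := PData.ivOK coh
theorem hR : ∀ r ∈ P.relL, ev P.e r = 1 := PData.rels coh hg
theorem top : gen P.e FiA.cols = ⊤ := PData.gen_top coh hg (by decide)
theorem bdO : Bd (gen P.e FiA.hcols) 4585351680 :=
  FiB.bd hiv0 (rels_sub hR (by decide +kernel)) (FiC2.bd hiv0 (rels_sub hR (by decide +kernel)) (FiD.bd hiv0 (rels_sub hR (by decide +kernel))
    (FiE.bd hiv0 (rels_sub hR (by decide +kernel)) (FiF.bd hiv0 (rels_sub hR (by decide +kernel)) (bd_nil _)))))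
theorem bd : Finite P.G ∧ Nat.card P.G ≤ 64561751654400 :=
  (FiA.bd hiv0 (rels_sub hR (by decide +kernel)) bdO).of_top top
def defs : List (List ℕ) := [[0, 1, 2, 3, 4, 7, 0, 1, 2, 3, 4, 7, 0, 1, 2, 3, 4, 7, 0, 1, 2, 3, 4, 7, 0, 1, 2, 3, 4, 7]]
theorem hext : chkExt 9 defs [] Fi22U.ivl = true := by decide +kernel
/-- The letters with the extra subgroup generator. -/
noncomputable def e1 : ℕ → P.G := extE P.e 9 defs
theorem hiv1 : IvOK e1 (ivOf Fi22U.ivl) := ivOK_extE hiv0 hext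
theorem hRe : ∀ r ∈ P.relL ++ defRels defs 9, ev e1 r = 1 :=
  rels_append (rels_extE hR (by decide +kernel)) (isExt_extE _ (chkExt_wf hext)).rels
theorem exists_rho : ∃ ρ : P.G →* Equiv.Perm ℕ, ∀ c, ρ (e1 c) = sg (nth Net.nil Fi22U.nl) c :=
  PData.exists_rho_ext coh hg rfl hext Fi22U.hiv (rels_sub Fi22U.hR0 (by decide +kernel))
    (by decide +kernel) (rels_sub Fi22U.hR0 (by decide +kernel)) (by decide)
/-- The action on the 3510 cosets. -/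
noncomputable def ρ : P.G →* Equiv.Perm ℕ := exists_rho.choose
theorem hρ : ∀ c, ρ (e1 c) = sg (nth Net.nil Fi22U.nl) c := exists_rho.choose_spec
theorem top1 : gen e1 FiA.cols = ⊤ := (gen_extE _ _ (by decide)).trans top
theorem cm : CosetModel ρ (gen e1 Fi22U.hcols) 3510 :=
  Fi22U.cm hiv1 (rels_sub hRe (by decide +kernel)) (eq_top_iff.2 (top1.ge.trans (gen_sub (by decide)))) hρ
theorem card : Nat.card P.G = 64561751654400 ∧ ∀ g : P.G, (∀ i < 3510, ρ g i = i) → g = 1 :=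
  card_eq_of_chain Fi22X.hn bd (fun c _ => Fi22X.map hρ c) Fi22X.ch (by decide +kernel)
theorem simple : IsSimpleGroup P.G :=
  simple_of_cert (q := 13) (m := 4966288588800) Fi22X.hn Fi22X.prim cm.toTrans (Fi22X.map hρ) card.2 card.1
    Fi22X.wit (ivOK_extE hiv1 Fi22X.hext) (rels_extE hRe (by decide +kernel))
    ((gen_extE _ _ (by decide)).trans top1) (l := [(0, 0), (8, 0), (15, 0), (21, 0), (24, 0), (26, 0), (30, 0), (35, 0)]) (by decide +kernel) (by norm_num)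
theorem sub_eq : (Subgroup.closure ({Cfsg.Spor.Fi22.a, Cfsg.Spor.Fi22.c, Cfsg.Spor.Fi22.d, Cfsg.Spor.Fi22.e, Cfsg.Spor.Fi22.f, Cfsg.Spor.Fi22.g, Cfsg.Spor.Fi22.h, Cfsg.Spor.Fi22.i, (Cfsg.Spor.Fi22.a * Cfsg.Spor.Fi22.b * Cfsg.Spor.Fi22.c * Cfsg.Spor.Fi22.d * Cfsg.Spor.Fi22.e * Cfsg.Spor.Fi22.h) ^ 5} : Set (FreeGroup Cfsg.Spor.Fi22.Gen))).map (PresentedGroup.mk (Cfsg.Spor.coxRelators Cfsg.Spor.Fi22.edges ∪ {r | r ∈ Cfsg.Spor.Fi22.extra})) = gen e1 Fi22U.hcols :=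
  PData.map_closure (P := P) coh hg (ws := [Cfsg.Spor.Fi22.a, Cfsg.Spor.Fi22.c, Cfsg.Spor.Fi22.d, Cfsg.Spor.Fi22.e, Cfsg.Spor.Fi22.f, Cfsg.Spor.Fi22.g, Cfsg.Spor.Fi22.h, Cfsg.Spor.Fi22.i, (Cfsg.Spor.Fi22.a * Cfsg.Spor.Fi22.b * Cfsg.Spor.Fi22.c * Cfsg.Spor.Fi22.d * Cfsg.Spor.Fi22.e * Cfsg.Spor.Fi22.h) ^ 5]) (by simp)
    (W := fun c => if c < 9 then [c] else nth [] defs ((c - 9) / 2)) (by
      simp only [Fi22U.hcols, List.forall_mem_cons]
      refine ⟨?_, ?_, ?_, ?_, ?_, ?_, ?_, ?_, extE_def _ hext 0 (by decide), by simp⟩ <;>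
        simp [e1, extE_lt]) (by decide +kernel)
theorem exists_rhoA : ∃ ρ : P.G →* Equiv.Perm ℕ, ∀ c, ρ (P.e c) = sg (nth Net.nil FiA.nl) c :=
  PData.exists_rho coh hg FiA.hiv (rels_sub (rels_append FiA.hR0
    (rels_of_chk (k := 14) (ws := [[1, 2, 3, 4, 5, 6, 7, 1, 2, 3, 4, 5, 6, 7, 1, 2, 3, 4, 5, 6, 7, 1, 2, 3, 4, 5, 6, 7, 1, 2, 3, 4, 5, 6, 7, 1, 2, 3, 4, 5, 6, 7, 1, 2, 3, 4, 5, 6, 7, 1, 2, 3, 4, 5, 6, 7, 1, 2, 3, 4, 5, 6, 7]]) FiA.hn (by decide) FiA.hiv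
      (allN_true.1 (by decide +kernel)))) (by decide +kernel)) (by decide)
theorem cmA : CosetModel exists_rhoA.choose (gen P.e FiA.hcols) 14080 :=
  FiA.cm hiv0 (rels_sub hR (by decide +kernel)) top exists_rhoA.choose_spec
theorem cardO : Nat.card (gen P.e FiA.hcols) = 4585351680 := cmA.card_sub card.1

end H29.Fi22
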