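import Mathlib
import Cfsg.Agent.H29.Tau
import Cfsg.Agent.H29.Cert2
import Cfsg.Prelude.Def_Spor_Fi24

set_option autoImplicit false
set_option maxRecDepth 100000
set_option Elab.async false
set_option linter.all false

namespace H29.Fi24

def idx : Cfsg.Spor.Fi24.Gen → ℕ
  | .a => 0
  | .b => 1
  | .c => 2
  | .d => 3
  | .e => 4
  | .f => 5
  | .g => 6
  | .h => 7
  | .i => 8
  | .j => 9
  | .k => 10
  | .l => 11
def P : PData Cfsg.Spor.Fi24.Gen := ⟨Cfsg.Spor.Fi24.edges, Cfsg.Spor.Fi24.extra, [.a, .b, .c, .d, .e, .f, .g, .h, .i, .j, .k, .l],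
  [(.a, true), (.b, true), (.c, true), (.d, true), (.e, true), (.f, true), (.g, true), (.h, true), (.i, true), (.j, true), (.k, true), (.l, true)], idx, []⟩
theorem coh : P.Coh := by decide +kernel
theorem hg : ∀ x, x ∈ P.gens := by intro x; cases x <;> decide
theorem hiv0 : IvOK P.e (ivOf []) := PData.ivOK coh
theorem hR : ∀ r ∈ P.relL, ev P.e r = 1 := PData.rels coh hg
def cols : List ℕ := [0, 1, 2, 3, 4, 5, 6, 7, 8, 9, 10, 11]
theorem top : gen P.e cols = ⊤ := PData.gen_top coh hg (by decide)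
def U : List (List ℕ) := [[10, 0, 11, 10], [0, 1, 10, 0, 11, 10], [1, 2, 0, 1, 10, 0, 11, 10], [2, 3, 1, 2, 0, 1, 10, 0, 11, 10], [3, 4, 2, 3, 1, 2, 0, 1, 10, 0, 11, 10], [4, 5, 3, 4, 2, 3, 1, 2, 0, 1, 10, 0, 11, 10], [5, 6, 4, 5, 3, 4, 2, 3, 1, 2, 0, 1, 10, 0, 11, 10], [3, 7, 2, 3, 1, 2, 0, 1, 10, 0, 11, 10], [7, 8, 3, 7, 2, 3, 1, 2, 0, 1, 10, 0, 11, 10], [6, 9, 5, 6, 4, 5, 3, 4, 2, 3, 1, 2, 0, 1, 10, 0, 11, 10], [11, 10], []]
theorem step {w : List ℕ} {s t : ℕ} (h : ev P.e w * P.e 11 * (ev P.e w)⁻¹ = P.e s)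
    (h' : ev P.e [s, t] * P.e s * (ev P.e [s, t])⁻¹ = P.e t) :
    ev P.e (s :: t :: w) * P.e 11 * (ev P.e (s :: t :: w))⁻¹ = P.e t := by
  rw [← h', ← h]
  simp only [ev_cons, ev_nil]
  group
theorem u11 : ev P.e [] * P.e 11 * (ev P.e [])⁻¹ = P.e 11 := by simp
theorem u10 : ev P.e [11, 10] * P.e 11 * (ev P.e [11, 10])⁻¹ = P.e 10 :=
  step u11 (braid_conj hiv0 (hR _ (memLL_true (by decide +kernel)))).2
theorem u0 : ev P.e [10, 0, 11, 10] * P.e 11 * (ev P.e [10, 0, 11, 10])⁻¹ = P.e 0 :=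
  step u10 (braid_conj hiv0 (hR _ (memLL_true (by decide +kernel)))).2
theorem u1 : ev P.e [0, 1, 10, 0, 11, 10] * P.e 11 * (ev P.e [0, 1, 10, 0, 11, 10])⁻¹ = P.e 1 :=
  step u0 (braid_conj hiv0 (hR _ (memLL_true (by decide +kernel)))).1
theorem u2 : ev P.e [1, 2, 0, 1, 10, 0, 11, 10] * P.e 11 * (ev P.e [1, 2, 0, 1, 10, 0, 11, 10])⁻¹ = P.e 2 :=
  step u1 (braid_conj hiv0 (hR _ (memLL_true (by decide +kernel)))).1
theorem u3 : ev P.e [2, 3, 1, 2, 0, 1, 10, 0, 11, 10] * P.e 11 * (ev P.e [2, 3, 1, 2, 0, 1, 10, 0, 11, 10])⁻¹ = P.e 3 :=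
  step u2 (braid_conj hiv0 (hR _ (memLL_true (by decide +kernel)))).1
theorem u4 : ev P.e [3, 4, 2, 3, 1, 2, 0, 1, 10, 0, 11, 10] * P.e 11 * (ev P.e [3, 4, 2, 3, 1, 2, 0, 1, 10, 0, 11, 10])⁻¹ = P.e 4 :=
  step u3 (braid_conj hiv0 (hR _ (memLL_true (by decide +kernel)))).1
theorem u7 : ev P.e [3, 7, 2, 3, 1, 2, 0, 1, 10, 0, 11, 10] * P.e 11 * (ev P.e [3, 7, 2, 3, 1, 2, 0, 1, 10, 0, 11, 10])⁻¹ = P.e 7 :=
  step u3 (braid_conj hiv0 (hR _ (memLL_true (by decide +kernel)))).1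
theorem u5 : ev P.e [4, 5, 3, 4, 2, 3, 1, 2, 0, 1, 10, 0, 11, 10] * P.e 11 * (ev P.e [4, 5, 3, 4, 2, 3, 1, 2, 0, 1, 10, 0, 11, 10])⁻¹ = P.e 5 :=
  step u4 (braid_conj hiv0 (hR _ (memLL_true (by decide +kernel)))).1
theorem u8 : ev P.e [7, 8, 3, 7, 2, 3, 1, 2, 0, 1, 10, 0, 11, 10] * P.e 11 * (ev P.e [7, 8, 3, 7, 2, 3, 1, 2, 0, 1, 10, 0, 11, 10])⁻¹ = P.e 8 :=
  step u7 (braid_conj hiv0 (hR _ (memLL_true (by decide +kernel)))).1
theorem u6 : ev P.e [5, 6, 4, 5, 3, 4, 2, 3, 1, 2, 0, 1, 10, 0, 11, 10] * P.e 11 * (ev P.e [5, 6, 4, 5, 3, 4, 2, 3, 1, 2, 0, 1, 10, 0, 11, 10])⁻¹ = P.e 6 :=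
  step u5 (braid_conj hiv0 (hR _ (memLL_true (by decide +kernel)))).1
theorem u9 : ev P.e [6, 9, 5, 6, 4, 5, 3, 4, 2, 3, 1, 2, 0, 1, 10, 0, 11, 10] * P.e 11 * (ev P.e [6, 9, 5, 6, 4, 5, 3, 4, 2, 3, 1, 2, 0, 1, 10, 0, 11, 10])⁻¹ = P.e 9 :=
  step u6 (braid_conj hiv0 (hR _ (memLL_true (by decide +kernel)))).1
theorem conjU : ∀ c ∈ cols, ev P.e (nth [] U c) * P.e 11 * (ev P.e (nth [] U c))⁻¹ = P.e c := by
  simp only [cols, List.forall_mem_cons]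
  exact ⟨u0, u1, u2, u3, u4, u5, u6, u7, u8, u9, u10, u11, by simp⟩
theorem sq (c : ℕ) : P.e c * P.e c = 1 := by
  nth_rewrite 1 [show P.e c = (P.e c)⁻¹ from hiv0 c]
  exact inv_mul_cancel _
theorem exists_sign : ∃ χ : P.G →* ℤˣ, ∀ c < 12, χ (P.e c) = -1 :=
  PData.exists_hom coh hg (σ := fun _ => -1) (fun _ => rfl) fun r hr => by
    have h1 : ∀ r ∈ P.relL, Even r.length := by decide +kernel
    rw [ev, List.map_const', List.prod_replicate, (h1 r hr).neg_one_pow]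
/-- The sign character. -/
noncomputable def χ : P.G →* ℤˣ := exists_sign.choose
theorem hχ : ∀ c < 12, χ (P.e c) = -1 := exists_sign.choose_spec
theorem χ_comm : ∀ g ∈ commutator P.G, χ g = 1 := fun _ hg => Abelianization.commutator_subset_ker χ hg
theorem dich : ∀ g, g ∈ commutator P.G ∨ g * P.e 11 ∈ commutator P.G := fun g =>
  dichotomy (L := cols) (e := P.e) (sq 11)
    (fun k hk => by
      have := (inferInstance : (commutator P.G).Normal).conj_mem k hk (P.e 11)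
      rwa [← hiv0 11] at this)
    (fun c hc => Or.inr (by
      rw [← conjU c hc]
      have := Subgroup.commutator_mem_commutator (Subgroup.mem_top (ev P.e (nth [] U c)))
        (Subgroup.mem_top (P.e 11))
      rwa [commutatorElement_def, ← hiv0 11] at this)) g (top ▸ Subgroup.mem_top g)
theorem mem_comm {g : P.G} (h : χ g = 1) : g ∈ commutator P.G := (dich g).resolve_right fun h1 => by
  have := χ_comm _ h1
  rw [map_mul, h, hχ 11 (by decide)] at this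
  exact absurd this (by decide)
theorem index_comm : (commutator P.G).index = 2 := by
  have := index_two_of_sign (H := ⊤) (Subgroup.mem_top (P.e 11)) χ (hχ 11 (by decide)) χ_comm
    fun g _ => dich g
  rwa [← Subgroup.relIndex, Subgroup.relIndex_top_right] at this

end H29.Fi24
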