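import Mathlib
import Cfsg.Agent.H29.Fi24T.B
import Cfsg.Agent.H29.Fi24T.C0
import Cfsg.Agent.H29.Fi24T.C1
import Cfsg.Agent.H29.Fi24T.C2
import Cfsg.Agent.H29.Fi24T.C3
import Cfsg.Agent.H29.Fi24T.C4
import Cfsg.Agent.H29.Fi24T.C5
import Cfsg.Agent.H29.Fi24T.C6
import Cfsg.Agent.H29.Fi24T.C7
import Cfsg.Agent.H29.Fi24T.C8
import Cfsg.Agent.H29.Fi24T.C9
import Cfsg.Agent.H29.Fi24T.C10
import Cfsg.Agent.H29.Fi24T.C11
import Cfsg.Agent.H29.Fi24T.C12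
import Cfsg.Agent.H29.Fi24T.C13
import Cfsg.Agent.H29.Fi24T.C14
import Cfsg.Agent.H29.Fi24T.C15
import Cfsg.Agent.H29.Fi24T.C16
import Cfsg.Agent.H29.Fi24T.C17
import Cfsg.Agent.H29.Fi24T.C18
import Cfsg.Agent.H29.Fi24T.P0

set_option autoImplicit false
set_option maxRecDepth 100000
set_option Elab.async false
set_option linter.all false

namespace H29.Fi24T

theorem der : Derives (ivOf ivl) R0 R1 := (Derives.refl _ _).prog hii p0
theorem hG0 : ∀ r ∈ G0, ev (sg (nth Net.nil nl)) r = 1 :=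
  rels_of_chk (k := 19) hn (by decide) hiv (lt_step (lt_step (lt_step (lt_step (lt_step (lt_step (lt_step (lt_step (lt_step (lt_step (lt_step (lt_step (lt_step (lt_step (lt_step (lt_step (lt_step (lt_step (lt_step lt_base r0_0) r0_1) r0_2) r0_3) r0_4) r0_5) r0_6) r0_7) r0_8) r0_9) r0_10) r0_11) r0_12) r0_13) r0_14) r0_15) r0_16) r0_17) r0_18)
theorem hG1 : ∀ r ∈ G1, ev (sg (nth Net.nil nl)) r = 1 :=
  rels_of_chk (k := 19) hn (by decide) hiv (lt_step (lt_step (lt_step (lt_step (lt_step (lt_step (lt_step (lt_step (lt_step (lt_step (lt_step (lt_step (lt_step (lt_step (lt_step (lt_step (lt_step (lt_step (lt_step lt_base r1_0) r1_1) r1_2) r1_3) r1_4) r1_5) r1_6) r1_7) r1_8) r1_9) r1_10) r1_11) r1_12) r1_13) r1_14) r1_15) r1_16) r1_17) r1_18)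
theorem hG2 : ∀ r ∈ G2, ev (sg (nth Net.nil nl)) r = 1 :=
  rels_of_chk (k := 19) hn (by decide) hiv (lt_step (lt_step (lt_step (lt_step (lt_step (lt_step (lt_step (lt_step (lt_step (lt_step (lt_step (lt_step (lt_step (lt_step (lt_step (lt_step (lt_step (lt_step (lt_step lt_base r2_0) r2_1) r2_2) r2_3) r2_4) r2_5) r2_6) r2_7) r2_8) r2_9) r2_10) r2_11) r2_12) r2_13) r2_14) r2_15) r2_16) r2_17) r2_18)
theorem hG3 : ∀ r ∈ G3, ev (sg (nth Net.nil nl)) r = 1 :=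
  rels_of_chk (k := 19) hn (by decide) hiv (lt_step (lt_step (lt_step (lt_step (lt_step (lt_step (lt_step (lt_step (lt_step (lt_step (lt_step (lt_step (lt_step (lt_step (lt_step (lt_step (lt_step (lt_step (lt_step lt_base r3_0) r3_1) r3_2) r3_3) r3_4) r3_5) r3_6) r3_7) r3_8) r3_9) r3_10) r3_11) r3_12) r3_13) r3_14) r3_15) r3_16) r3_17) r3_18)
theorem hR0 : ∀ r ∈ R0, ev (sg (nth Net.nil nl)) r = 1 := (rels_append (rels_append (rels_append hG0 hG1) hG2) hG3)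
theorem col0 : T.ColOK 0 := TCData.colOK_of_chk (U := (Nat.lor (Nat.lor (T.mask0 0) v0_0) v0_1)) (V := (Nat.lor (Nat.lor (T.mask0 0) v0_0) v0_1)) hb (((T.cov_mask0 0).or cv0_0).or cv0_1) (((T.cov_mask0 0).or cv0_0).or cv0_1) (by decide +kernel)
theorem col1 : T.ColOK 1 := TCData.colOK_of_chk (U := (Nat.lor (Nat.lor (T.mask0 1) v1_0) v1_1)) (V := (Nat.lor (Nat.lor (T.mask0 1) v1_0) v1_1)) hb (((T.cov_mask0 1).or cv1_0).or cv1_1) (((T.cov_mask0 1).or cv1_0).or cv1_1) (by decide +kernel)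
theorem col2 : T.ColOK 2 := TCData.colOK_of_chk (U := (Nat.lor (Nat.lor (Nat.lor (T.mask0 2) v2_0) v2_1) v2_2)) (V := (Nat.lor (Nat.lor (Nat.lor (T.mask0 2) v2_0) v2_1) v2_2)) hb ((((T.cov_mask0 2).or cv2_0).or cv2_1).or cv2_2) ((((T.cov_mask0 2).or cv2_0).or cv2_1).or cv2_2) (by decide +kernel)
theorem col3 : T.ColOK 3 := TCData.colOK_of_chk (U := (Nat.lor (Nat.lor (T.mask0 3) v3_0) v3_1)) (V := (Nat.lor (Nat.lor (T.mask0 3) v3_0) v3_1)) hb (((T.cov_mask0 3).or cv3_0).or cv3_1) (((T.cov_mask0 3).or cv3_0).or cv3_1) (by decide +kernel)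
theorem col4 : T.ColOK 4 := TCData.colOK_of_chk (U := (Nat.lor (Nat.lor (Nat.lor (T.mask0 4) v4_0) v4_1) v4_2)) (V := (Nat.lor (Nat.lor (Nat.lor (T.mask0 4) v4_0) v4_1) v4_2)) hb ((((T.cov_mask0 4).or cv4_0).or cv4_1).or cv4_2) ((((T.cov_mask0 4).or cv4_0).or cv4_1).or cv4_2) (by decide +kernel)
theorem col5 : T.ColOK 5 := TCData.colOK_of_chk (U := (Nat.lor (Nat.lor (T.mask0 5) v5_0) v5_1)) (V := (Nat.lor (Nat.lor (T.mask0 5) v5_0) v5_1)) hb (((T.cov_mask0 5).or cv5_0).or cv5_1) (((T.cov_mask0 5).or cv5_0).or cv5_1) (by decide +kernel)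
theorem col6 : T.ColOK 6 := TCData.colOK_of_chk (U := (Nat.lor (Nat.lor (T.mask0 6) v6_0) v6_1)) (V := (Nat.lor (Nat.lor (T.mask0 6) v6_0) v6_1)) hb (((T.cov_mask0 6).or cv6_0).or cv6_1) (((T.cov_mask0 6).or cv6_0).or cv6_1) (by decide +kernel)
theorem col7 : T.ColOK 7 := TCData.colOK_of_chk (U := (Nat.lor (Nat.lor (Nat.lor (Nat.lor (T.mask0 7) v7_0) v7_1) v7_2) v7_3)) (V := (Nat.lor (Nat.lor (Nat.lor (Nat.lor (T.mask0 7) v7_0) v7_1) v7_2) v7_3)) hb (((((T.cov_mask0 7).or cv7_0).or cv7_1).or cv7_2).or cv7_3) (((((T.cov_mask0 7).or cv7_0).or cv7_1).or cv7_2).or cv7_3) (by decide +kernel)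
theorem col8 : T.ColOK 8 := TCData.colOK_of_chk (U := (Nat.lor (Nat.lor (T.mask0 8) v8_0) v8_1)) (V := (Nat.lor (Nat.lor (T.mask0 8) v8_0) v8_1)) hb (((T.cov_mask0 8).or cv8_0).or cv8_1) (((T.cov_mask0 8).or cv8_0).or cv8_1) (by decide +kernel)
theorem col9 : T.ColOK 9 := TCData.colOK_of_chk (U := (Nat.lor (Nat.lor (T.mask0 9) v9_0) v9_1)) (V := (Nat.lor (Nat.lor (T.mask0 9) v9_0) v9_1)) hb (((T.cov_mask0 9).or cv9_0).or cv9_1) (((T.cov_mask0 9).or cv9_0).or cv9_1) (by decide +kernel)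
theorem col10 : T.ColOK 10 := TCData.colOK_of_chk (U := (Nat.lor (Nat.lor (T.mask0 10) v10_0) v10_1)) (V := (Nat.lor (Nat.lor (T.mask0 10) v10_0) v10_1)) hb (((T.cov_mask0 10).or cv10_0).or cv10_1) (((T.cov_mask0 10).or cv10_0).or cv10_1) (by decide +kernel)
theorem col11 : T.ColOK 11 := TCData.colOK_of_chk (U := (Nat.lor (Nat.lor (T.mask0 11) v11_0) v11_1)) (V := (Nat.lor (Nat.lor (T.mask0 11) v11_0) v11_1)) hb (((T.cov_mask0 11).or cv11_0).or cv11_1) (((T.cov_mask0 11).or cv11_0).or cv11_1) (by decide +kernel)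
theorem ok : T.OK := ⟨hb, TCData.treeOK_of_chk hn (by decide +kernel), (List.forall_mem_cons.2 ⟨col0, (List.forall_mem_cons.2 ⟨col1, (List.forall_mem_cons.2 ⟨col2, (List.forall_mem_cons.2 ⟨col3, (List.forall_mem_cons.2 ⟨col4, (List.forall_mem_cons.2 ⟨col5, (List.forall_mem_cons.2 ⟨col6, (List.forall_mem_cons.2 ⟨col7, (List.forall_mem_cons.2 ⟨col8, (List.forall_mem_cons.2 ⟨col9, (List.forall_mem_cons.2 ⟨col10, (List.forall_mem_cons.2 ⟨col11, (fun _ h => absurd h List.not_mem_nil)⟩)⟩)⟩)⟩)⟩)⟩)⟩)⟩)⟩)⟩)⟩)⟩), der _ _ hiv hR0⟩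
theorem bd {G : Type} [Group G] {e : ℕ → G} (h1 : IvOK e (ivOf ivl)) (h2 : ∀ r ∈ R0, ev e r = 1)
    {m : ℕ} (h : Bd (gen e hcols) m) : Bd (gen e cols) (306936 * m) := ok.bd h1 (der G e h1 h2) h
theorem cm {G : Type} [Group G] {e : ℕ → G} (h1 : IvOK e (ivOf ivl)) (h2 : ∀ r ∈ R0, ev e r = 1)
    (h3 : gen e cols = ⊤) {ρ : G →* Equiv.Perm ℕ} (h4 : ∀ c, ρ (e c) = sg (nth Net.nil nl) c) :
    CosetModel ρ (gen e hcols) 306936 := ok.cosetModel h1 (der G e h1 h2) h3 fun c _ => h4 c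

end H29.Fi24T
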