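import Mathlib
import Cfsg.Agent.H29.Fi24T
import Cfsg.Agent.H29.Fi24Q.C0
import Cfsg.Agent.H29.Fi24Q.C1
import Cfsg.Agent.H29.Fi24Q.C2
import Cfsg.Agent.H29.F24KX
import Cfsg.Agent.H29.Fi23

set_option autoImplicit false
set_option maxRecDepth 100000
set_option Elab.async false
set_option linter.all false

namespace H29.Fi24

theorem exists_rho : ∃ ρ : P.G →* Equiv.Perm ℕ, ∀ c, ρ (P.e c) = sg (nth Net.nil Fi24T.nl) c :=
  PData.exists_rho coh hg Fi24T.hiv (rels_sub Fi24T.hR0 (by decide +kernel)) (by decide)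
/-- The action on the 306936 cosets. -/
noncomputable def ρ : P.G →* Equiv.Perm ℕ := exists_rho.choose
theorem hρ : ∀ c, ρ (P.e c) = sg (nth Net.nil Fi24T.nl) c := exists_rho.choose_spec
/-- The centraliser of `l`. -/
abbrev H : Subgroup P.G := gen P.e Fi24T.hcols
theorem cm : CosetModel ρ H 306936 := Fi24T.cm hiv0 (rels_sub hR (by decide +kernel)) top hρ
theorem pt {w : List ℕ} {p q : ℕ} (h : chkPt (nth Net.nil Fi24T.nl) w p q = true) : ρ (ev P.e w) p = q := by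
  rw [map_ev_sg fun c _ => hρ c]; exact pt_of_chk Fi24T.hn h
theorem hl0 : ∀ c < 10, P.e c * P.e 11 = P.e 11 * P.e c := fun c hc =>
  comm_of_rel hiv0 (hR _ (by revert c; decide +kernel))
theorem hl : ∀ g ∈ H, g * P.e 11 = P.e 11 * g := comm_gen fun c hc => by
  have : ∀ c ∈ Fi24T.hcols, c < 10 ∨ c = 11 := by decide
  rcases this c hc with h | rfl
  · exact hl0 c h
  · rfl
theorem isT : ∀ c ∈ cols, IsT ρ (P.e 11) (nth 0 Fi24Q.PT c) (P.e c) := fun c hc =>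
  ⟨_, pt (allL_true.1 Fi24Q.pU c hc), (conjU c hc).symm⟩
theorem cen {x : P.G} (h : ∀ c ∈ cols, ρ x (nth 0 Fi24Q.PT c) = nth 0 Fi24Q.PT c) (g : P.G) :
    g * x = x * g :=
  comm_gen (L := cols) (fun c hc => by
    have := (isT c hc).conj cm hl (isT c hc) (h c hc)
    rw [← this, inv_mul_cancel_right, this]) g (top ▸ Subgroup.mem_top g)
theorem s_cen : ∀ g, g * ev P.e Fi24Q.ws = ev P.e Fi24Q.ws * g := cen (by
  simp only [cols, List.forall_mem_cons]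
  exact ⟨pt Fi24Q.s0, pt Fi24Q.s1, pt Fi24Q.s2, pt Fi24Q.s3, pt Fi24Q.s4, pt Fi24Q.s5, pt Fi24Q.s6, pt Fi24Q.s7, pt Fi24Q.s8, pt Fi24Q.s9, pt Fi24Q.s10, pt Fi24Q.s11, by simp⟩)
theorem s_mirror : ev P.e Fi24Q.ws = ev P.e [3, 4, 5, 3, 2, 1, 3, 7, 8, 3, 4, 5, 3, 2, 1, 3, 7, 8, 3, 4, 5, 3, 2, 1, 3, 7, 8, 3, 4, 5, 3, 2, 1, 3, 7, 8, 3, 4, 5, 3, 2, 1, 3, 7, 8, 3, 4, 5, 3, 2, 1, 3, 7, 8, 3, 4, 5, 3, 2, 1, 3, 7, 8, 3, 4, 5, 3, 2, 1, 3, 7, 8, 3, 4, 5, 3, 2, 1, 3, 7, 8, 3, 4, 5, 3, 2, 1, 3, 7, 8] := by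
  have h : ∀ c ∈ [1, 2, 3, 4, 5, 7, 8], ev P.e Fi24Q.wx * P.e c * (ev P.e Fi24Q.wx)⁻¹ = P.e (nth 0 [0, 5, 4, 3, 2, 1, 6, 7, 8] c) := by
    simp only [List.forall_mem_cons]
    exact ⟨(isT 1 (by decide)).conj cm hl (isT 5 (by decide)) (pt Fi24Q.x1), (isT 2 (by decide)).conj cm hl (isT 4 (by decide)) (pt Fi24Q.x2), (isT 3 (by decide)).conj cm hl (isT 3 (by decide)) (pt Fi24Q.x3), (isT 4 (by decide)).conj cm hl (isT 2 (by decide)) (pt Fi24Q.x4), (isT 5 (by decide)).conj cm hl (isT 1 (by decide)) (pt Fi24Q.x5), (isT 7 (by decide)).conj cm hl (isT 7 (by decide)) (pt Fi24Q.x7), (isT 8 (by decide)).conj cm hl (isT 8 (by decide)) (pt Fi24Q.x8), by simp⟩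
  have h1 : ∀ c ∈ Fi24Q.ws, c ∈ [1, 2, 3, 4, 5, 7, 8] := by decide +kernel
  have := conj_ev fun c hc => h c (h1 c hc)
  rwa [s_cen, mul_inv_cancel_right] at this
theorem s_one : ev P.e Fi24Q.ws = 1 := by
  have hext : chkExt 12 [Fi24Q.ws] [] F24K.ivl = true := by decide +kernel
  have h1 := ivOK_extE hiv0 hext
  have h2 : extE P.e 12 [Fi24Q.ws] 12 = ev P.e Fi24Q.ws := extE_def _ hext 0 (by decide +kernel)
  have h3 : extE P.e 12 [Fi24Q.ws] 13 = (ev P.e Fi24Q.ws)⁻¹ := h2 ▸ h1 12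
  have h4 : ∀ r ∈ (List.range 12).map fun y => [12, y, 13, y], ev (extE P.e 12 [Fi24Q.ws]) r = 1 := by
    intro r hr
    obtain ⟨y, hy, rfl⟩ := List.mem_map.1 hr
    simp only [ev_cons, ev_nil, h2, h3, extE_lt _ _ _ (List.mem_range.1 hy), mul_one]
    rw [← mul_assoc, ← s_cen, ← mul_assoc, mul_inv_cancel_right, sq]
  have h5 : ∀ r ∈ [13 :: [3, 4, 5, 3, 2, 1, 3, 7, 8, 3, 4, 5, 3, 2, 1, 3, 7, 8, 3, 4, 5, 3, 2, 1, 3, 7, 8, 3, 4, 5, 3, 2, 1, 3, 7, 8, 3, 4, 5, 3, 2, 1, 3, 7, 8, 3, 4, 5, 3, 2, 1, 3, 7, 8, 3, 4, 5, 3, 2, 1, 3, 7, 8, 3, 4, 5, 3, 2, 1, 3, 7, 8, 3, 4, 5, 3, 2, 1, 3, 7, 8, 3, 4, 5, 3, 2, 1, 3, 7, 8]], ev (extE P.e 12 [Fi24Q.ws]) r = 1 := by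
    intro r hr
    rw [List.mem_singleton.1 hr, ev_cons, h3, ev_congr (e' := P.e) fun c hc =>
      extE_lt _ _ _ (by revert c; decide +kernel), ← s_mirror, inv_mul_cancel]
  rw [← h2]
  exact F24KX.s_one h1 (rels_sub (rels_append (rels_append (rels_append (rels_extE hR (by decide +kernel))
    (isExt_extE _ (chkExt_wf hext)).rels) h4) h5) (by decide +kernel))
/-- The generators of the subgroup `Fi23`. -/
noncomputable def σ (c : ℕ) : P.G := if c < 10 then P.e c * P.e 11 else 1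
theorem exists_phi : ∃ φ : Fi23.P.G →* P.G, ∀ c < 10, φ (Fi23.P.e c) = σ c := by
  refine PData.exists_hom Fi23.coh Fi23.hg (fun c => ?_) fun r hr => ?_
  · change σ c = (σ c)⁻¹
    unfold σ
    split_ifs with h
    · rw [mul_inv_rev, ← hiv0 11, ← hiv0 c]; exact hl0 c h
    · simp
  · have h1 : ∀ r ∈ Fi23.P.relL, (∀ c ∈ r, c < 10) ∧
        ((Even r.length ∧ memLL r (P.relL ++ [Fi24Q.ws]) = true) ∨ r = [0, 1, 2, 3, 4, 5, 7, 0, 1, 2, 3, 4, 5, 7, 0, 1, 2, 3, 4, 5, 7, 0, 1, 2, 3, 4, 5, 7, 0, 1, 2, 3, 4, 5, 7, 0, 1, 2, 3, 4, 5, 7, 0, 1, 2, 3, 4, 5, 7, 0, 1, 2, 3, 4, 5, 7, 0, 1, 2, 3, 4, 5, 7]) := by decide +kernel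
    rw [ev_mul_comm (e := P.e) (e' := σ) (t := P.e 11) fun c hc =>
      ⟨if_pos ((h1 r hr).1 c hc), hl0 c ((h1 r hr).1 c hc)⟩]
    have h2 : P.e 11 ^ 2 = 1 := by rw [pow_two, sq]
    rcases (h1 r hr).2 with ⟨⟨k, hk⟩, h3⟩ | rfl
    · rw [rels_append hR (fun r hr => List.mem_singleton.1 hr ▸ s_one) r (memLL_true h3), hk,
        ← two_mul, pow_mul, h2, one_pow, one_mul]
    · have h4 := hR (11 :: invW (ivOf []) [0, 1, 2, 3, 4, 5, 7, 0, 1, 2, 3, 4, 5, 7, 0, 1, 2, 3, 4, 5, 7, 0, 1, 2, 3, 4, 5, 7, 0, 1, 2, 3, 4, 5, 7, 0, 1, 2, 3, 4, 5, 7, 0, 1, 2, 3, 4, 5, 7, 0, 1, 2, 3, 4, 5, 7, 0, 1, 2, 3, 4, 5, 7]) (memLL_true (by decide +kernel))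
      rw [ev_cons, ev_invW hiv0, mul_inv_eq_one] at h4
      rw [← h4, ← pow_succ']
      exact (pow_mul (P.e 11) 2 32).trans (by rw [h2, one_pow])
/-- The embedding of `Fi23`. -/
noncomputable def φ : Fi23.P.G →* P.G := exists_phi.choose
theorem hφ : ∀ c < 10, φ (Fi23.P.e c) = P.e c * P.e 11 := fun c hc =>
  (exists_phi.choose_spec c hc).trans (if_pos hc)
theorem φ_inj : Function.Injective φ := by
  rw [← MonoidHom.ker_eq_bot_iff]
  refine (Fi23.simple.eq_bot_or_eq_top_of_normal _ inferInstance).resolve_right fun h => ?_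
  have h1 : φ (Fi23.P.e 0) = 1 := by rw [← MonoidHom.mem_ker, h]; exact Subgroup.mem_top _
  have h2 := pt Fi24Q.pa
  simp only [ev_cons, ev_nil, mul_one] at h2
  rw [← hφ 0 (by decide), h1] at h2
  simp at h2
theorem range_le {M : Subgroup P.G} (h : ∀ c < 10, P.e c * P.e 11 ∈ M) : φ.range ≤ M := by
  rw [MonoidHom.range_eq_map, ← Fi23.top, map_gen, gen_le]
  intro c hc
  have : c < 10 := by revert c; decide
  rw [hφ c this]; exact h c this
theorem K_le : φ.range ≤ H := range_le fun c hc =>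
  H.mul_mem (mem_gen (by revert c; decide)) (mem_gen (by decide))
theorem K_χ : φ.range ≤ χ.ker := range_le fun c hc => by
  rw [MonoidHom.mem_ker, map_mul, hχ c (by omega), hχ 11 (by decide)]; rfl
theorem dichH : ∀ g ∈ H, g ∈ φ.range ∨ g * P.e 11 ∈ φ.range :=
  dichotomy (sq 11) (fun k hk => by rwa [← hl k (K_le hk), mul_assoc, sq, mul_one]) fun c hc => by
    have : ∀ c ∈ Fi24T.hcols, c < 10 ∨ c = 11 := by decide
    rcases this c hc with h | rfl
    · exact Or.inr ⟨_, hφ c h⟩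
    · exact Or.inr (by rw [sq]; exact Subgroup.one_mem _)
theorem cardK : Nat.card φ.range = 4089470473293004800 :=
  (Nat.card_congr (MonoidHom.ofInjective φ_inj).toEquiv).symm.trans Fi23.card.1
theorem simpleK : IsSimpleGroup φ.range :=
  have := Fi23.simple
  (MonoidHom.ofInjective φ_inj).symm.isSimpleGroup
theorem cardH : Nat.card H = 2 * 4089470473293004800 := by
  rw [← (φ.range.subgroupOf H).index_mul_card, index_two_of_sign (mem_gen (by decide)) χ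
    (hχ 11 (by decide)) K_χ dichH, Nat.card_congr (Subgroup.subgroupOfEquivOfLe K_le).toEquiv, cardK]
theorem card : Nat.card P.G = 2 * 1255205709190661721292800 := by
  rw [← H.index_mul_card, cm.index_eq, cardH]
instance : Finite P.G := Nat.finite_of_card_ne_zero (by rw [card]; norm_num)
theorem K_cen {k : P.G} (hk : k ∈ φ.range) (h : ∀ g ∈ φ.range, g * k = k * g) : k = 1 := by
  obtain ⟨y, rfl⟩ := hk
  have := Fi23.simple
  have h1 : y ∈ Subgroup.center Fi23.P.G := Subgroup.mem_center_iff.2 fun g =>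
    φ_inj (by rw [map_mul, map_mul]; exact h _ ⟨g, rfl⟩)
  rw [center_eq_bot_of_simple (by rw [Fi23.card.1]; norm_num), Subgroup.mem_bot] at h1
  rw [h1, map_one]
theorem faithful (g : P.G) (h : ∀ i < 306936, ρ g i = i) : g = 1 := by
  have h1 := cen fun c hc => h _ (by revert c; decide)
  rcases dichH g ((cm.mem g).1 (h 0 (by decide))) with h2 | h2
  · exact K_cen h2 fun x _ => h1 x
  · have h3 := K_cen h2 fun x hx => by
      rw [← mul_assoc, h1 x, mul_assoc, hl x (K_le hx), mul_assoc]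
    have h4 := pt Fi24Q.pl
    rw [ev_cons, ev_nil, mul_one, ← sq 11, mul_left_inj] at *
    rw [← h3, h 3 (by decide)] at h4
    simp at h4
theorem cardE : Nat.card (commutator P.G) = 1255205709190661721292800 := by
  have := (commutator P.G).index_mul_card
  rw [index_comm, card] at this
  omega
theorem χ_ev : ∀ {w : List ℕ}, (∀ c ∈ w, c < 12) → χ (ev P.e w) = (-1) ^ w.length
  | [], _ => by simp
  | c :: w, h => by
    rw [ev_cons, map_mul, hχ c (h c (by simp)), χ_ev fun y hy => h y (by simp [hy]), List.length_cons,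
      pow_succ']
theorem ev_comm {w : List ℕ} (h : (∀ c ∈ w, c < 12) ∧ Even w.length) : ev P.e w ∈ commutator P.G :=
  mem_comm (by rw [χ_ev h.1, h.2.neg_one_pow])
theorem K_leE : φ.range ≤ commutator P.G := fun _ hk => mem_comm (K_χ hk)
theorem stabE : stab (ρ.comp (commutator P.G).subtype) 0 = φ.range.subgroupOf (commutator P.G) := by
  ext g
  rw [mem_stab, Subgroup.mem_subgroupOf]
  refine ⟨fun h => (dichH g ((cm.mem _).1 h)).resolve_right fun h1 => ?_, fun h => (cm.mem _).2 (K_le h)⟩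
  have := K_χ h1
  rw [MonoidHom.mem_ker, map_mul, χ_comm _ g.2, hχ 11 (by decide)] at this
  exact absurd this (by decide)
theorem simpleE : IsSimpleGroup (commutator P.G) := by
  refine simple_of_rank3 (ρ := ρ.comp (commutator P.G).subtype)
    (e := fun c => ⟨wE P.e Fi24Q.wl c, ev_comm (nth_forall
      (p := fun w : List ℕ => (∀ c ∈ w, c < 12) ∧ Even w.length) (by simp) (by decide) c)⟩)
    Fi24Q.hn Fi24Q.prim ⟨cm.pos, fun g => cm.lt g, fun i hi => ?_⟩ (fun c => map_wE hρ _ c)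
    (fun g h => Subtype.ext (faithful g h)) ?_ (by norm_num)
  · obtain ⟨g, rfl⟩ := cm.trans i hi
    rcases dich g with h | h
    · exact ⟨⟨g, h⟩, rfl⟩
    · refine ⟨⟨_, h⟩, ?_⟩
      change ρ (g * P.e 11) 0 = ρ g 0
      rw [map_mul, Equiv.Perm.mul_apply, (cm.mem _).2 (mem_gen (by decide))]
  · rw [stabE]
    have := simpleK
    exact (Subgroup.subgroupOfEquivOfLe K_leE).isSimpleGroup

end H29.Fi24
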