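import Mathlib
import Cfsg.Agent.H29.Fi22
import Cfsg.Agent.H29.Fi23

set_option autoImplicit false
set_option maxRecDepth 100000
set_option Elab.async false
set_option linter.all false

namespace H29.Fi23C

theorem cover : Cfsg.IsNonsplitDoubleCover (gen Fi23.P.e FiA.cols) Fi22.P.G := by
  have hL : ∀ c ∈ FiA.cols, ivOf [] c ∈ FiA.cols := fun _ h => h
  have h1 := rels_sub (R' := FiA.R0) Fi23.hR (by decide +kernel)
  obtain ⟨f, hf, -⟩ := (Fi23.ub.tr hL Fi23.hiv0 h1 Fi23.cardH.ge Fi22.hiv0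
    (rels_sub Fi22.hR (by decide +kernel))).exists_surj Fi23.hiv0 Fi22.hiv0 hL
  have := Fi22.bd.1
  have := Fi22.simple
  refine nonsplit_of_surj ((gen Fi22.P.e FiA.cols).subtype.comp f) ?_
    (center_eq_bot_of_simple (by rw [Fi22.card.1]; norm_num)) (by rw [Fi23.cardH, Fi22.card.1])
    (no_index_two h1 (by decide +kernel) (cert := nth [] [[8, 24, 26, 37], [0, 8, 24, 26, 37], [0, 24, 26, 37], [0, 15, 24, 26, 37], [0, 15, 21, 24, 26, 37], [0, 15, 21, 24, 37], [0, 15, 21, 24, 30, 37], [0, 15, 26, 37], [0, 15, 26, 35, 37]]) (by decide +kernel))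
  intro g
  obtain ⟨x, hx⟩ := hf ⟨g, Fi22.top ▸ Subgroup.mem_top g⟩
  exact ⟨x, congrArg Subtype.val hx⟩

end H29.Fi23C
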