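import Mathlib
import Cfsg.Agent.H29.Ext

set_option autoImplicit false
set_option maxRecDepth 100000
set_option Elab.async false
set_option linter.all false

namespace H29.Al3

noncomputable def n0 : Net := ben 7 [(nat_lit 0x155540072220015000000000000),
 (nat_lit 0xf0f5005b4bc0002000000000000),
 (nat_lit 0x12993388b34c8800000000000000),
 (nat_lit 0x808000790b00008000000000000),
 (nat_lit 0x30ff30ff0000000000000000),
 (nat_lit 0x30f800bf000000bf0000),
 (nat_lit 0xbf0000)]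
noncomputable def t0 : List ℕ := [(nat_lit 0x8883ab9110552baa5565a959a6),
 (nat_lit 0x119121003221910cf9986ce11f8),
 (nat_lit 0x880250110061d00c19c7ffee00),
 (nat_lit 0x820400107e44f3e638000000),
 (nat_lit 0x800000000000000000000000000)]
noncomputable def d0 : ℕ := (nat_lit 0x36666c004ccd8000000000000000)
noncomputable def n1 : Net := n0.rev
noncomputable def t1 : List ℕ := mapPull n1 t0
noncomputable def d1 : ℕ := (nat_lit 0x80000000000000000000)
noncomputable def n2 : Net := ben 7 [(nat_lit 0x105554801555407f030000000000),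
 (nat_lit 0x3000540a33310aa000000000000),
 (nat_lit 0x661009090177000000000000),
 (nat_lit 0xfefe60e10101000000000000),
 (nat_lit 0x18060000001f800000000),
 (nat_lit 0xfe010000fe010000),
 (nat_lit 0xfe010000)]
noncomputable def t2 : List ℕ := [(nat_lit 0x303330aa3999aa0aa85565a959a6),
 (nat_lit 0x35c3c20081e18020cf0186ce11f8),
 (nat_lit 0x30fc02009e0180000c01c7ffee00),
 (nat_lit 0x30fffe009ffe0000f10638000000),
 (nat_lit 0x0)]
noncomputable def d2 : ℕ := (nat_lit 0x800015500000095000000000000)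
noncomputable def n3 : Net := ben 7 [(nat_lit 0x141555400333000001fc30000000),
 (nat_lit 0xf00000011b1fff0005500000000),
 (nat_lit 0xcc00002a08333300ee00000000),
 (nat_lit 0xc000000221c1f1f1f00000000),
 (nat_lit 0x200021f00ff1c00000000),
 (nat_lit 0x20000000200000200001f020000),
 (nat_lit 0x20000020000)]
noncomputable def t3 : List ℕ := [(nat_lit 0xeb33315d999aa2aa8554aa959a6),
 (nat_lit 0xc03c31901e18033000180ce11f8),
 (nat_lit 0xebc0321560180030001c0ffee00),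
 (nat_lit 0xc3fff3e07fe003c000610000000),
 (nat_lit 0x3000000000000000000000000000)]
noncomputable def d3 : ℕ := (nat_lit 0x10000802000550002a800000000)
noncomputable def n4 : Net := ben 7 [(nat_lit 0x150555c040ccc00003001f0c0000),
 (nat_lit 0x30002007272070a00a0a000000),
 (nat_lit 0x1450000578888000000),
 (nat_lit 0x40441010008500070000),
 (nat_lit 0x4800580000008000),
 (nat_lit 0x400048004000),
 (nat_lit 0x4000)]
noncomputable def t4 : List ℕ := [(nat_lit 0xc0330f5c1998aaaa9aa82a159a6),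
 (nat_lit 0x3f03c07901e1f3b3003008cc11f8),
 (nat_lit 0xf5c0081ea018303003800f46e00),
 (nat_lit 0xf0ffc9ee1fe1c1c00c000000000),
 (nat_lit 0x0)]
noncomputable def d4 : ℕ := (nat_lit 0x80020010000040540025000000)
noncomputable def n5 : Net := ben 7 [(nat_lit 0x154155107033101043c00007cc00),
 (nat_lit 0xf000000b1b00000f0bb0155000),
 (nat_lit 0xc0000028a000088dd00000100),
 (nat_lit 0x80880000101406760000),
 (nat_lit 0x90c090c000000600),
 (nat_lit 0x800090c08000),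
 (nat_lit 0x8000)]
noncomputable def t5 : List ℕ := [(nat_lit 0xceb3385c519ca8a16aa8aa152a6),
 (nat_lit 0xf2bc3090561c3c318300c0010f8),
 (nat_lit 0xfe803c1fd0183031c380f006400),
 (nat_lit 0xfc3ffcef87e4ccc204000000000),
 (nat_lit 0x3000000000000000000000000000)]
noncomputable def d5 : ℕ := (nat_lit 0x100020020020208105400a8000)
noncomputable def n6 : Net := ben 7 [(nat_lit 0x1550553073f33030c04c000c0730),
 (nat_lit 0x300a0a1b1a0a02002f0000a00),
 (nat_lit 0x8082a080800004c191100),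
 (nat_lit 0x20220000000061650018),
 (nat_lit 0x200020000000000000006100),
 (nat_lit 0x2000000020000000),
 (nat_lit 0x20000000)]
noncomputable def t6 : List ℕ := [(nat_lit 0xcc033bdc619c29af628aaa6a086),
 (nat_lit 0xf05c32106a1e3e378372c0082f0),
 (nat_lit 0xff503d9f8a19b1b1cf9c7030000),
 (nat_lit 0xff0ffe6fe1e64e4830000000000),
 (nat_lit 0x3000000000000000000000000000)]
noncomputable def d6 : ℕ := (nat_lit 0x8000001000000000010500900)
noncomputable def n7 : Net := ben 7 [(nat_lit 0x155415047303040410c1044f0010),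
 (nat_lit 0xf00000b1b000000200001f502),
 (nat_lit 0xcc0000028a0000000000000100),
 (nat_lit 0xc0c0808800000000080800c0),
 (nat_lit 0x80c080c00000000000000800),
 (nat_lit 0xc08000000080000000),
 (nat_lit 0x80000000)]
noncomputable def t7 : List ℕ := [(nat_lit 0xcceb3a1c651d292860ca21aa284),
 (nat_lit 0xf0c03310781e3e3081430108300),
 (nat_lit 0xff003c1f80183030c1cf3210000),
 (nat_lit 0xffebff2ffd670f0c38000000000),
 (nat_lit 0x3000000000000000000000000000)]
noncomputable def d7 : ℕ := (nat_lit 0x1000800200808204208845028)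
noncomputable def n8 : Net := ben 7 [(nat_lit 0x1555050c733f0c0c30130cc1c031),
 (nat_lit 0x30020b1b0202a00a02202720),
 (nat_lit 0x28a0000088800001104),
 (nat_lit 0x80880000808000000010),
 (nat_lit 0x8000800000000000),
 (nat_lit 0x800080008000),
 (nat_lit 0x8000)]
noncomputable def t8 : List ℕ := [(nat_lit 0xccc03afc661d096be4c26f88a98),
 (nat_lit 0xf0f03370781e7e720763870fb00),
 (nat_lit 0xff003c7f80187073c7fff8f0000),
 (nat_lit 0xfff5ff8ffea78f8c38000000000),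
 (nat_lit 0x3000000000000000000000000000)]
noncomputable def d8 : ℕ := (nat_lit 0x800000100000000000000442)
noncomputable def n9 : Net := ben 7 [(nat_lit 0x1555410173300101043041131159),
 (nat_lit 0xf0000b1b000000a0000a0053),
 (nat_lit 0xc00028a0000000800880006),
 (nat_lit 0x80880000000080800000),
 (nat_lit 0x800080000000000000008000),
 (nat_lit 0x8000000080000000),
 (nat_lit 0x80000000)]
noncomputable def t9 : List ℕ := [(nat_lit 0xcccc3a8c6785494a24524884828),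
 (nat_lit 0xf0f2b30078564e4306638004c00),
 (nat_lit 0xff003c0f800040430673cce0000),
 (nat_lit 0xfffc3fcfff878f8c38000000000),
 (nat_lit 0x3000000000000000000000000000)]
noncomputable def d9 : ℕ := (nat_lit 0x100200020202081082212294)
def ivl : List ℕ := [1, 0]
def cols : List ℕ := [0, 1, 2, 3, 4, 5, 6, 7, 8, 9]
def hcols : List ℕ := [0, 1, 2, 3, 4, 5, 6, 7]
def G0 : List (List ℕ) := [[0, 0, 0],
 [0, 2, 0, 2, 0, 2],
 [0, 3, 0, 3],
 [0, 4, 0, 4],
 [0, 5, 0, 5],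
 [0, 6, 0, 6],
 [0, 7, 0, 7],
 [0, 8, 0, 8],
 [0, 9, 0, 9],
 [2, 3, 2, 3, 2, 3],
 [2, 4, 2, 4],
 [2, 5, 2, 5],
 [2, 6, 2, 6],
 [2, 7, 2, 7],
 [2, 8, 2, 8],
 [2, 9, 2, 9],
 [3, 4, 3, 4, 3, 4],
 [3, 5, 3, 5],
 [3, 6, 3, 6],
 [3, 7, 3, 7],
 [3, 8, 3, 8],
 [3, 9, 3, 9],
 [4, 5, 4, 5, 4, 5],
 [4, 6, 4, 6],
 [4, 7, 4, 7],
 [4, 8, 4, 8],
 [4, 9, 4, 9],
 [5, 6, 5, 6, 5, 6],
 [5, 7, 5, 7],
 [5, 8, 5, 8],
 [5, 9, 5, 9],
 [6, 7, 6, 7, 6, 7],
 [6, 8, 6, 8],
 [6, 9, 6, 9],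
 [7, 8, 7, 8, 7, 8],
 [7, 9, 7, 9],
 [8, 9, 8, 9, 8, 9]]
def R0 : List (List ℕ) := G0
theorem hii : ∀ c, ivOf ivl (ivOf ivl c) = c := ivOf_ivOf (by decide +kernel)
theorem der : Derives (ivOf ivl) R0 R0 := Derives.refl _ _
noncomputable def nl : List Net := [n0, n1, n2, n3, n4, n5, n6, n7, n8, n9]
noncomputable def T : TCData := ⟨110, 110, 7, 5, nth Net.nil nl, ivOf ivl, cols, hcols, R0,
  nth [] [t0, t1, t2, t3, t4, t5, t6, t7, t8, t9], nth 0 [d0, d1, d2, d3, d4, d5, d6, d7, d8, d9]⟩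
theorem hn : NetsOK 110 (nth Net.nil nl) := netsOK_of_all (by decide +kernel)
theorem hiv : IvOK (sg (nth Net.nil nl)) (ivOf ivl) :=
  ivOK_of_chk (k := 7) hn (by decide) (n := 10) (by decide) (by decide) (allN_true.1 (by decide +kernel))
theorem hb : T.Basic := TCData.basic_of_chk hn hiv (by decide +kernel)
theorem hG0 : ∀ r ∈ G0, ev (sg (nth Net.nil nl)) r = 1 :=
  rels_of_chk (k := 7) hn (by decide) hiv (allN_true.1 (by decide +kernel))
noncomputable def s0 : List TCData.Step := []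
noncomputable def s1 : List TCData.Step := [.all 0 0 0,
 .pts 1 0 0 15 [107],
 .all 2 0 0,
 .all 3 0 0,
 .all 4 0 0,
 .all 5 0 0,
 .all 6 0 0,
 .all 7 0 0,
 .pts 8 0 0 1 [2, 65, 92],
 .pts 8 0 0 2 [4]]
noncomputable def s2 : List TCData.Step := [.all 1 1 0,
 .pts 9 0 0 1 [77],
 .all 10 0 0,
 .all 11 0 0,
 .all 12 0 0,
 .all 13 0 0,
 .all 14 0 0,
 .pts 15 0 0 1 [2, 36, 57],
 .pts 15 0 0 2 [4]]
noncomputable def s3 : List TCData.Step := [.all 2 1 0,
 .all 9 1 0,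
 .all 17 0 0,
 .all 18 0 0,
 .all 19 0 0,
 .all 20 0 0,
 .pts 21 0 0 1 [2, 25, 43],
 .pts 21 0 0 2 [4]]
noncomputable def s4 : List TCData.Step := [.all 3 1 0,
 .all 10 1 0,
 .all 16 1 0,
 .pts 22 0 0 1 [40],
 .all 23 0 0,
 .all 24 0 0,
 .all 25 0 0,
 .pts 26 0 0 1 [2, 16, 31],
 .pts 26 0 0 2 [4]]
noncomputable def s5 : List TCData.Step := [.all 4 1 0,
 .all 11 1 0,
 .all 17 1 0,
 .all 22 1 0,
 .all 28 0 0,
 .all 29 0 0,
 .pts 30 0 0 1 [2, 9, 21],
 .pts 30 0 0 2 [4]]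
noncomputable def s6 : List TCData.Step := [.all 5 1 0,
 .all 12 1 0,
 .all 18 1 0,
 .all 23 1 0,
 .all 27 1 0,
 .pts 31 0 0 1 [18],
 .pts 32 0 0 1 [1],
 .pts 32 0 0 2 [6],
 .pts 32 0 0 3 [7],
 .pts 33 0 0 1 [2, 13],
 .pts 33 0 0 2 [4, 5]]
noncomputable def s7 : List TCData.Step := [.all 6 1 0,
 .all 13 1 0,
 .all 19 1 0,
 .all 24 1 0,
 .all 28 1 0,
 .all 31 1 0,
 .pts 35 0 0 1 [2, 7],
 .pts 35 0 0 3 [9]]
noncomputable def s8 : List TCData.Step := [.all 7 1 0,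
 .all 14 1 0,
 .all 20 1 0,
 .all 25 1 0,
 .all 29 1 0,
 .all 32 1 0,
 .all 34 1 0,
 .pts 36 0 0 1 [4]]
noncomputable def s9 : List TCData.Step := [.all 8 1 0,
 .all 15 1 0,
 .all 21 1 0,
 .all 26 1 0,
 .all 30 1 0,
 .all 33 1 0,
 .all 35 1 0,
 .all 36 1 0]
theorem hR0 : ∀ r ∈ R0, ev (sg (nth Net.nil nl)) r = 1 := hG0
theorem col0 : T.ColOK 0 := TCData.colOK_of_chk (U := (T.stepsMask 0 s0 (T.mask0 0))) (V := (T.stepsMask 1 s1 (T.mask0 1))) hb (TCData.cov_stepsMask hb (by decide) s0 _ (T.cov_mask0 0)) (TCData.cov_stepsMask hb (by decide) s1 _ (T.cov_mask0 1)) (by decide +kernel)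
theorem col1 : T.ColOK 1 := TCData.colOK_of_chk (U := (T.stepsMask 1 s1 (T.mask0 1))) (V := (T.stepsMask 0 s0 (T.mask0 0))) hb (TCData.cov_stepsMask hb (by decide) s1 _ (T.cov_mask0 1)) (TCData.cov_stepsMask hb (by decide) s0 _ (T.cov_mask0 0)) (by decide +kernel)
theorem col2 : T.ColOK 2 := TCData.colOK_of_chk (U := (T.stepsMask 2 s2 (T.mask0 2))) (V := (T.stepsMask 2 s2 (T.mask0 2))) hb (TCData.cov_stepsMask hb (by decide) s2 _ (T.cov_mask0 2)) (TCData.cov_stepsMask hb (by decide) s2 _ (T.cov_mask0 2)) (by decide +kernel)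
theorem col3 : T.ColOK 3 := TCData.colOK_of_chk (U := (T.stepsMask 3 s3 (T.mask0 3))) (V := (T.stepsMask 3 s3 (T.mask0 3))) hb (TCData.cov_stepsMask hb (by decide) s3 _ (T.cov_mask0 3)) (TCData.cov_stepsMask hb (by decide) s3 _ (T.cov_mask0 3)) (by decide +kernel)
theorem col4 : T.ColOK 4 := TCData.colOK_of_chk (U := (T.stepsMask 4 s4 (T.mask0 4))) (V := (T.stepsMask 4 s4 (T.mask0 4))) hb (TCData.cov_stepsMask hb (by decide) s4 _ (T.cov_mask0 4)) (TCData.cov_stepsMask hb (by decide) s4 _ (T.cov_mask0 4)) (by decide +kernel)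
theorem col5 : T.ColOK 5 := TCData.colOK_of_chk (U := (T.stepsMask 5 s5 (T.mask0 5))) (V := (T.stepsMask 5 s5 (T.mask0 5))) hb (TCData.cov_stepsMask hb (by decide) s5 _ (T.cov_mask0 5)) (TCData.cov_stepsMask hb (by decide) s5 _ (T.cov_mask0 5)) (by decide +kernel)
theorem col6 : T.ColOK 6 := TCData.colOK_of_chk (U := (T.stepsMask 6 s6 (T.mask0 6))) (V := (T.stepsMask 6 s6 (T.mask0 6))) hb (TCData.cov_stepsMask hb (by decide) s6 _ (T.cov_mask0 6)) (TCData.cov_stepsMask hb (by decide) s6 _ (T.cov_mask0 6)) (by decide +kernel)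
theorem col7 : T.ColOK 7 := TCData.colOK_of_chk (U := (T.stepsMask 7 s7 (T.mask0 7))) (V := (T.stepsMask 7 s7 (T.mask0 7))) hb (TCData.cov_stepsMask hb (by decide) s7 _ (T.cov_mask0 7)) (TCData.cov_stepsMask hb (by decide) s7 _ (T.cov_mask0 7)) (by decide +kernel)
theorem col8 : T.ColOK 8 := TCData.colOK_of_chk (U := (T.stepsMask 8 s8 (T.mask0 8))) (V := (T.stepsMask 8 s8 (T.mask0 8))) hb (TCData.cov_stepsMask hb (by decide) s8 _ (T.cov_mask0 8)) (TCData.cov_stepsMask hb (by decide) s8 _ (T.cov_mask0 8)) (by decide +kernel)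
theorem col9 : T.ColOK 9 := TCData.colOK_of_chk (U := (T.stepsMask 9 s9 (T.mask0 9))) (V := (T.stepsMask 9 s9 (T.mask0 9))) hb (TCData.cov_stepsMask hb (by decide) s9 _ (T.cov_mask0 9)) (TCData.cov_stepsMask hb (by decide) s9 _ (T.cov_mask0 9)) (by decide +kernel)
theorem ok : T.OK := ⟨hb, TCData.treeOK_of_chk hn (by decide +kernel), (List.forall_mem_cons.2 ⟨col0, (List.forall_mem_cons.2 ⟨col1, (List.forall_mem_cons.2 ⟨col2, (List.forall_mem_cons.2 ⟨col3, (List.forall_mem_cons.2 ⟨col4, (List.forall_mem_cons.2 ⟨col5, (List.forall_mem_cons.2 ⟨col6, (List.forall_mem_cons.2 ⟨col7, (List.forall_mem_cons.2 ⟨col8, (List.forall_mem_cons.2 ⟨col9, (fun _ h => absurd h List.not_mem_nil)⟩)⟩)⟩)⟩)⟩)⟩)⟩)⟩)⟩)⟩), der _ _ hiv hR0⟩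
theorem bd {G : Type} [Group G] {e : ℕ → G} (h1 : IvOK e (ivOf ivl)) (h2 : ∀ r ∈ R0, ev e r = 1)
    {m : ℕ} (h : Bd (gen e hcols) m) : Bd (gen e cols) (110 * m) := ok.bd h1 (der G e h1 h2) h
theorem cm {G : Type} [Group G] {e : ℕ → G} (h1 : IvOK e (ivOf ivl)) (h2 : ∀ r ∈ R0, ev e r = 1)
    (h3 : gen e cols = ⊤) {ρ : G →* Equiv.Perm ℕ} (h4 : ∀ c, ρ (e c) = sg (nth Net.nil nl) c) :
    CosetModel ρ (gen e hcols) 110 := ok.cosetModel h1 (der G e h1 h2) h3 fun c _ => h4 c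

end H29.Al3
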