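import Mathlib
import Cfsg.Agent.H29.Tau

/-! Relabelling of letters. -/

set_option autoImplicit false

namespace H29

variable {G : Type*} [Group G]

theorem ivOK_relabel {e : ℕ → G} {ivx ivl ml : List ℕ} {d : ℕ} (h : IvOK e (ivOf ivx))
    (h0 : ivOf ivx d = d) (hl : ivl.length ≤ ml.length)
    (hc : (allN ml.length fun c => Nat.beq (nth d ml (ivOf ivl c)) (ivOf ivx (nth d ml c))) = true) :
    IvOK (fun c => e (nth d ml c)) (ivOf ivl) := fun c => by
  by_cases h1 : c < ml.length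
  · simp only [beq_true.1 (allN_true.1 hc c h1), h _]
  · have h2 : ivOf ivl c = c := nth_default c (by omega)
    simp only [h2, nth_default d (not_lt.1 h1)]
    have := h d
    rwa [h0] at this

theorem ev_relabel (e : ℕ → G) (m : ℕ → ℕ) (w : List ℕ) :
    ev (fun c => e (m c)) w = ev e (w.map m) := by
  rw [ev, ev, List.map_map]; rfl

theorem rels_relabel {e : ℕ → G} {R R' : List (List ℕ)} {m : ℕ → ℕ} (h : ∀ r ∈ R, ev e r = 1)
    (hc : (allL R' fun r => memLL (r.map m) R) = true) : ∀ r ∈ R', ev (fun c => e (m c)) r = 1 :=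
  fun r hr => (ev_relabel e m r).trans (h _ (memLL_true (allL_true.1 hc r hr)))

theorem ne_one_of_pt {e : ℕ → G} {ρ : G →* Equiv.Perm ℕ} {nets : ℕ → Net} {K : ℕ}
    (hn : NetsOK K nets) (hρ : ∀ c, ρ (e c) = sg nets c) {w : List ℕ} {p q : ℕ}
    (h : chkPt nets w p q = true) (hpq : q ≠ p) : ev e w ≠ 1 := fun h1 => by
  have := pt_of_chk hn h
  rw [← map_ev_sg fun c _ => hρ c, h1, map_one] at this
  exact hpq this.symm

theorem simple_sub_map {H : Type*} [Group H] (f : G ≃* H) {n : ℕ} {K : Subgroup G}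
    (h : IsSimpleGroup K ∧ Nat.card K = n) :
    ∃ K : Subgroup H, IsSimpleGroup K ∧ Nat.card K = n :=
  have := h.1
  ⟨_, (f.subgroupMap K).symm.isSimpleGroup, by rw [← Nat.card_congr (f.subgroupMap K).toEquiv, h.2]⟩

end H29
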