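import Mathlib
import Cfsg.Agent.H29.Cover
import Cfsg.Agent.H29.Relabel

/-!
# Letters defined by relators, quotients by a central involution, bounds with a known kernel
-/

set_option autoImplicit false

namespace H29

/-- Add the letters that relators number `l` express by the letters found so far. -/
noncomputable def addDefs (iv : ℕ → ℕ) (R : List (List ℕ)) (l : List ℕ) : List ℕ → List ℕ :=
  List.rec (motive := fun _ => List ℕ → List ℕ) (fun L => L) (fun r _ ih L =>
    List.rec (motive := fun _ => List ℕ) (ih L) (fun c w _ =>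
      Bool.rec (motive := fun _ => List ℕ) (ih L) (ih (c :: iv c :: L)) (allL w fun y => memL y L))
      (nth [] R r)) l

section

variable {G H : Type*} [Group G] [Group H]

theorem addDefs_spec {e : ℕ → G} {iv : ℕ → ℕ} (h : IvOK e iv) {R : List (List ℕ)}
    (hR : ∀ r ∈ R, ev e r = 1) {M : Subgroup G} : ∀ (l L : List ℕ), (∀ c ∈ L, e c ∈ M) →
    ∀ c ∈ addDefs iv R l L, e c ∈ M
  | [], _, hL => hL
  | r :: l, L, hL => by
    rw [show addDefs iv R (r :: l) L = List.rec (motive := fun _ => List ℕ) (addDefs iv R l L)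
      (fun c w _ => Bool.rec (motive := fun _ => List ℕ) (addDefs iv R l L)
        (addDefs iv R l (c :: iv c :: L)) (allL w fun y => memL y L)) (nth [] R r) from rfl]
    have h1 : ev e (nth [] R r) = 1 := nth_forall (p := fun w => ev e w = 1) rfl hR r
    generalize nth [] R r = u at h1
    cases u with
    | nil => exact addDefs_spec h hR l L hL
    | cons c w =>
      change ∀ y ∈ Bool.rec (motive := fun _ => List ℕ) (addDefs iv R l L)
        (addDefs iv R l (c :: iv c :: L)) (allL w fun y => memL y L), _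
      cases h2 : allL w fun y => memL y L with
      | false => exact addDefs_spec h hR l L hL
      | true =>
        have h3 : e c ∈ M := by
          rw [ev_cons, mul_eq_one_iff_eq_inv] at h1
          rw [h1]
          exact inv_mem (ev_mem fun y hy => hL y (memL_true.1 (allL_true.1 h2 y hy)))
        refine addDefs_spec h hR l _ fun y hy => ?_
        simp only [List.mem_cons] at hy
        rcases hy with rfl | rfl | hy
        · exact h3
        · rw [h]; exact inv_mem h3
        · exact hL y hy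

theorem gen_le_addDefs {e : ℕ → G} {iv : ℕ → ℕ} (h : IvOK e iv) {R : List (List ℕ)}
    (hR : ∀ r ∈ R, ev e r = 1) {l L L' : List ℕ}
    (hc : (allL L' fun c => memL c (addDefs iv R l L)) = true) : gen e L' ≤ gen e L :=
  gen_le.2 fun c hc' => addDefs_spec h hR l L (fun _ => mem_gen) c (memL_true.1 (allL_true.1 hc c hc'))

theorem Tr.addDefs {e : ℕ → G} {e' : ℕ → H} {iv : ℕ → ℕ} {L : List ℕ} (h : Tr e e' L)
    (h1 : IvOK e iv) (h2 : IvOK e' iv) (hL : ∀ c ∈ L, iv c ∈ L) {R : List (List ℕ)}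
    (r1 : ∀ r ∈ R, ev e r = 1) (r2 : ∀ r ∈ R, ev e' r = 1) {l L' : List ℕ}
    (hc : (allL L' fun c => memL c (addDefs iv R l L)) = true) : Tr e e' L' := by
  have a1 : IvOK (fun c => (e c, e' c)) iv := fun c => by simp [h1 c, h2 c]
  have a2 : ∀ r ∈ R, ev (fun c => (e c, e' c)) r = 1 := fun r hr => Prod.ext
    ((map_ev (MonoidHom.fst G H) _ r).trans (r1 r hr)) ((map_ev (MonoidHom.snd G H) _ r).trans (r2 r hr))
  intro w hw h3
  obtain ⟨u, hu, h4⟩ := exists_word a1 hL (gen_le_addDefs a1 a2 hc (ev_mem_gen hw))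
  have b1 := congrArg (MonoidHom.fst G H) h4
  have b2 := congrArg (MonoidHom.snd G H) h4
  rw [map_ev, map_ev] at b1 b2
  exact b2.symm.trans (h u hu (b1.trans h3))

theorem Tr.rels {e : ℕ → G} {e' : ℕ → H} {L : List ℕ} (h : Tr e e' L) {R : List (List ℕ)}
    (hR : ∀ r ∈ R, ev e r = 1) (hc : (allL R fun w => allL w fun c => memL c L) = true) :
    ∀ r ∈ R, ev e' r = 1 := fun r hr =>
  h r (fun c hc' => memL_true.1 (allL_true.1 (allL_true.1 hc r hr) c hc')) (hR r hr)

/-- An element of prime order in the kernel improves the bound. -/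
theorem Tr.bd_div {e : ℕ → G} {e' : ℕ → H} {L : List ℕ} {iv : ℕ → ℕ} (h : Tr e e' L)
    (h1 : IvOK e iv) (h2 : IvOK e' iv) (hL : ∀ c ∈ L, iv c ∈ L) {p m : ℕ} (hp : p.Prime)
    (hb : Bd (gen e L) (p * m)) {g : G} {g' : H} (hg : (g, g') ∈ gen (fun c => (e c, e' c)) L)
    (a1 : g ≠ 1) (a2 : g ^ p = 1) (a3 : g' = 1) : Bd (gen e' L) m := by
  obtain ⟨f, hf, hf2⟩ := h.exists_surj h1 h2 hL
  have := hb.1
  obtain ⟨u, hu, h4⟩ := exists_word (e := fun c => (e c, e' c)) (iv := iv)
    (fun c => by simp [h1 c, h2 c]) hL hg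
  have b1 := congrArg (MonoidHom.fst G H) h4
  have b2 := congrArg (MonoidHom.snd G H) h4
  rw [map_ev] at b1 b2
  have := Fact.mk hp
  have c1 : (⟨ev e u, ev_mem_gen hu⟩ : gen e L) ∈ f.ker :=
    Subtype.ext ((hf2 u hu).trans (b2.trans a3))
  have c2 : p ∣ Nat.card f.ker := by
    rw [← orderOf_eq_prime (x := (⟨ev e u, ev_mem_gen hu⟩ : gen e L)) (p := p)
      (Subtype.ext ((congrArg (· ^ p) b1).trans a2))
      (fun h5 => a1 (b1.symm.trans (congrArg Subtype.val h5)))]
    exact Subgroup.orderOf_dvd_natCard _ c1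
  have c3 := f.ker.index_mul_card
  rw [Subgroup.index_ker, MonoidHom.range_eq_top.2 hf, Subgroup.card_top] at c3
  refine ⟨Finite.of_surjective f hf, Nat.le_of_mul_le_mul_left ?_ hp.pos⟩
  refine le_trans ?_ hb.2
  rw [← c3, mul_comm]
  exact Nat.mul_le_mul_left _ (Nat.le_of_dvd Nat.card_pos c2)

theorem Tr.bd_div' {e : ℕ → G} {e' : ℕ → H} {L : List ℕ} {iv : ℕ → ℕ} (h : Tr e e' L)
    (h1 : IvOK e iv) (h2 : IvOK e' iv) (hL : ∀ c ∈ L, iv c ∈ L) {p m : ℕ} (hp : p.Prime)
    (hb : Bd (gen e L) (p * m)) {R : List (List ℕ)} (r1 : ∀ r ∈ R, ev e r = 1)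
    (r2 : ∀ r ∈ R, ev e' r = 1) {l : List ℕ} {c : ℕ} (hc : memL c (H29.addDefs iv R l L) = true)
    (a1 : ev e [c] ≠ 1) (a2 : ev e (powW p [c]) = 1) (a3 : ev e' [c] = 1) : Bd (gen e' L) m := by
  rw [ev_powW] at a2
  simp only [ev_cons, ev_nil, mul_one] at a1 a2 a3
  exact h.bd_div h1 h2 hL hp hb (addDefs_spec (e := fun c => (e c, e' c))
    (fun c => by simp [h1 c, h2 c]) (fun r hr => Prod.ext
      ((map_ev (MonoidHom.fst G H) _ r).trans (r1 r hr))
      ((map_ev (MonoidHom.snd G H) _ r).trans (r2 r hr))) l L (fun _ => mem_gen) c (memL_true.1 hc))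
    a1 a2 a3

/-- Relators up to free reduction. -/
theorem rels_red {e : ℕ → G} {iv : ℕ → ℕ} (h : IvOK e iv) {R R' : List (List ℕ)}
    (hR : ∀ r ∈ R, ev e r = 1)
    (hc : (allL R' fun w => memLL (killAux iv [] w []).reverse ([] :: R)) = true) :
    ∀ r ∈ R', ev e r = 1 := fun r hr => by
  have h1 := ev_killAux h (S := []) (by simp) r []
  rw [(List.forall_mem_cons (p := fun w => ev e w = 1)).2 ⟨ev_nil e, hR⟩ _ (memLL_true (allL_true.1 hc r hr))] at h1
  simpa using h1.symm

theorem comm_of_rels {e : ℕ → G} {iv : ℕ → ℕ} (h : IvOK e iv) {R : List (List ℕ)}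
    (hR : ∀ r ∈ R, ev e r = 1) {L u : List ℕ}
    (hc : (allL (L.map fun c => c :: u ++ iv c :: invW iv u) fun w =>
      memLL (killAux iv [] w []).reverse ([] :: R)) = true) :
    ∀ c ∈ L, e c * ev e u = ev e u * e c := fun c hc' => by
  have := rels_red h hR hc _ (List.mem_map_of_mem hc')
  rw [List.cons_append, ev_cons, ev_append, ev_cons, ev_invW h, h] at this
  calc _ = e c * (ev e u * ((e c)⁻¹ * (ev e u)⁻¹)) * (ev e u * e c) := by group
    _ = _ := by rw [this, one_mul]

theorem gen_relabel (e : ℕ → G) (m : ℕ → ℕ) (l : List ℕ) :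
    gen (fun c => e (m c)) l = gen e (l.map m) :=
  le_antisymm (gen_le.2 fun _ hc => mem_gen (List.mem_map_of_mem hc)) (gen_le.2 fun _ hc => by
    obtain ⟨a, ha, rfl⟩ := List.mem_map.1 hc
    exact mem_gen (e := fun c => e (m c)) ha)

theorem rels_app {l l' : List Net} {R : List (List ℕ)}
    (hR : ∀ r ∈ R, ev (sg (nth Net.nil l)) r = 1) (h : chkLt l.length R = true) :
    ∀ r ∈ R, ev (sg (nth Net.nil (l ++ l'))) r = 1 := fun r hr => by
  rw [ev_congr (e' := sg (nth Net.nil l)) fun c hc => by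
    rw [sg, sg, nth_append_left _ _ _ (ble_true.1 (allL_true.1 (allL_true.1 h r hr) c hc))], hR r hr]

end

/-- Change of the table of inverses outside the letters that matter. -/
theorem UB.ext {ivl0 ivl : List ℕ} {R : List (List ℕ)} {L : List ℕ} {n m : ℕ}
    (h : UB (ivOf ivl0) R L n)
    (hc : and2 (and2 (Nat.ble ivl0.length m) (allN m fun c =>
      and2 (Nat.beq (ivOf ivl c) (ivOf ivl0 c)) (Nat.ble (Nat.succ (ivOf ivl0 c)) m)))
      (and2 (chkLt m R) (allL L fun c => Nat.ble (Nat.succ c) m)) = true) :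
    UB (ivOf ivl) R L n := by
  simp only [and2_true, allN_true, allL_true, ble_true, beq_true, chkLt] at hc
  obtain ⟨⟨h1, h2⟩, h3, h4⟩ := hc
  intro G _ e hiv hR
  rw [gen_congr (e' := fun c => if c < m then e c else 1) fun c hc => (if_pos (h4 c hc)).symm]
  refine h G _ (fun c => ?_) fun r hr => ?_
  · by_cases hc : c < m
    · have h5 : ivOf ivl0 c < m := (h2 c hc).2
      simp only [hc, h5, if_true]
      rw [← (h2 c hc).1, hiv]
    · rw [ivOf, nth_default _ (by omega)]; simp [hc]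
  · rw [ev_congr (e' := e) fun c hc => if_pos (show c < m from h3 r hr c hc), hR r hr]

/-- A bound modulo a central element of order at most two. -/
theorem bd_of_central {G : Type} [Group G] {e : ℕ → G} {iv : ℕ → ℕ} (hiv : IvOK e iv)
    {R : List (List ℕ)} (hR : ∀ r ∈ R, ev e r = 1) {L u : List ℕ} {n : ℕ}
    (hL : ∀ c ∈ L, iv c ∈ L) (hii : ∀ c, iv (iv c) = c)
    (hRL : ∀ r ∈ u :: R, ∀ c ∈ r, c ∈ L) (h1 : ev e u * ev e u = 1)
    (h2 : ∀ c ∈ L, e c * ev e u = ev e u * e c) (hb : UB iv (u :: R) L n) :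
    Bd (gen e L) (2 * n) := by
  classical
  let e' : ℕ → gen e L := fun c => if h : c ∈ L then ⟨e c, mem_gen h⟩ else 1
  have he' : ∀ w : List ℕ, (∀ c ∈ w, c ∈ L) → ((ev e' w : gen e L) : G) = ev e w := fun w hw => by
    rw [show ((ev e' w : gen e L) : G) = (gen e L).subtype (ev e' w) from rfl, map_ev]
    exact ev_congr fun c hc => by simp [e', hw c hc]
  let Z : Subgroup (gen e L) := Subgroup.zpowers (ev e' u)
  have hz : ev e' u ∈ Subgroup.center (gen e L) := by
    rw [Subgroup.mem_center_iff]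
    rintro ⟨g, hg⟩
    refine Subtype.ext ?_
    have : gen e L ≤ Subgroup.centralizer {ev e u} := gen_le.2 fun c hc =>
      Subgroup.mem_centralizer_singleton_iff.2 (h2 c hc)
    simpa [he' u (hRL u (by simp))] using Subgroup.mem_centralizer_singleton_iff.1 (this hg)
  have hZ : Z.Normal := ⟨fun x hx g => by
    rw [Subgroup.mem_center_iff.1 (Subgroup.zpowers_le.2 hz hx) g, mul_inv_cancel_right]; exact hx⟩
  have b1 : IvOK e' iv := fun c => by
    by_cases hc : c ∈ L
    · exact Subtype.ext (by simp [e', hc, hL c hc, hiv c])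
    · have : iv c ∉ L := fun h => hc (hii c ▸ hL _ h)
      simp [e', hc, this]
  have b2 := hb _ (fun c => QuotientGroup.mk' Z (e' c)) (fun c => by simp only [b1 c, map_inv])
    (fun r hr => by
      rw [← map_ev]
      rcases List.mem_cons.1 hr with rfl | hr'
      · exact (QuotientGroup.eq_one_iff _).2 (Subgroup.mem_zpowers _)
      · rw [show ev e' r = 1 from Subtype.ext ((he' r (hRL r hr)).trans (hR r hr')), map_one])
  have b3 : gen e' L = ⊤ := by
    rw [eq_top_iff]
    rintro ⟨g, hg⟩ -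
    obtain ⟨w, hw, rfl⟩ := exists_word hiv hL hg
    rw [show (⟨ev e w, hg⟩ : gen e L) = ev e' w from Subtype.ext (he' w hw).symm]
    exact ev_mem_gen hw
  rw [← map_gen, b3, ← MonoidHom.range_eq_map,
    MonoidHom.range_eq_top.2 (QuotientGroup.mk'_surjective Z)] at b2
  obtain ⟨c1, c2⟩ := b2.of_top rfl
  have c3 : ev e' u ^ 2 = 1 := Subtype.ext (by
    rw [sq, Subgroup.coe_mul, he' u (hRL u (by simp)), h1]; rfl)
  have c4 : IsOfFinOrder (ev e' u) := isOfFinOrder_iff_pow_eq_one.2 ⟨2, two_pos, c3⟩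
  have c5 : Finite Z := Set.finite_coe_iff.2 (finite_zpowers.2 c4)
  refine ⟨Finite.of_equiv _ (Subgroup.groupEquivQuotientProdSubgroup (s := Z)).symm, ?_⟩
  rw [← Z.index_mul_card, mul_comm]
  exact Nat.mul_le_mul ((Nat.card_zpowers _).trans_le (orderOf_le_of_pow_eq_one two_pos c3)) c2

/-- The core of the point stabiliser of a faithful transitive action is trivial. -/
theorem CosetModel.normalCore_eq_bot {G : Type*} [Group G] {ρ : G →* Equiv.Perm ℕ}
    {H : Subgroup G} {N : ℕ} (h : CosetModel ρ H N)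
    (hf : ∀ g : G, (∀ i < N, ρ g i = i) → g = 1) : H.normalCore = ⊥ := by
  rw [Subgroup.eq_bot_iff_forall]
  intro g hg
  refine hf g fun i hi => ?_
  obtain ⟨a, rfl⟩ := h.trans i hi
  have := (h.mem _).2 (hg a⁻¹)
  rwa [map_mul, map_mul, inv_inv, map_inv, Equiv.Perm.mul_apply, Equiv.Perm.mul_apply,
    Equiv.Perm.inv_eq_iff_eq] at this

end H29
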