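import Mathlib
import Cfsg.Agent.H29.Quo
import Cfsg.Agent.H19.DCE5
import Cfsg.Agent.H9.CG

/-!
# Permutation models: finiteness and lower bounds
-/

set_option autoImplicit false

namespace H29

open H9.MX

theorem finite_of_fix {Γ : Subgroup (Equiv.Perm ℕ)} {K : ℕ} (h : ∀ g ∈ Γ, ∀ i, K ≤ i → g i = i) :
    Finite Γ := by
  refine Finite.of_injective (fun (g : Γ) (i : Fin K) => (⟨g.1 i, lt_of_fix (h g g.2) i.2⟩ : Fin K))
    fun a b hab => Subtype.ext (Equiv.ext fun i => ?_)
  by_cases hi : i < K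
  · exact congrArg Fin.val (congrFun hab ⟨i, hi⟩)
  · rw [h a a.2 i (not_lt.1 hi), h b b.2 i (not_lt.1 hi)]

theorem PG_finite {nl : List Net} {K : ℕ} (hn : NetsOK K (nth Net.nil nl)) : Finite (PG nl) :=
  finite_of_fix fun g hg => PG_lt hn ⟨g, hg⟩

theorem le_card_sg {nets : ℕ → Net} {K N k : ℕ} (hn : NetsOK K nets)
    {ch : List (ℕ × ℕ × ℕ × List ℕ)} {L : List ℕ} (hc : chkChain N k nets ch L = true) :
    (ch.map fun a => a.2.2.1).prod ≤ Nat.card (gen (sg nets) L) := by
  let Γ := Subgroup.closure (Set.range (sg nets))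
  have hm : ∀ c, sg nets c ∈ Γ := fun c => Subgroup.subset_closure ⟨c, rfl⟩
  have : Finite Γ := finite_of_fix (K := K) fun g hg i hi => by
    have : Γ ≤ MulAction.stabilizer (Equiv.Perm ℕ) i := (Subgroup.closure_le _).2 (by
      rintro _ ⟨c, rfl⟩
      exact Net.perm_fix (hn c) hi)
    exact this hg
  refine (H19.le_card_of_chain (σ := H19.subL hm) (ρ := Γ.subtype) hn ch L (fun _ _ => rfl) hc).trans ?_
  rw [Nat.card_congr (Subgroup.equivMapOfInjective _ _ Γ.subtype_injective).toEquiv, map_gen]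
  exact le_rfl

theorem finite_gen_sg {nets : ℕ → Net} {K : ℕ} (hn : NetsOK K nets) (L : List ℕ) :
    Finite (gen (sg nets) L) := finite_of_fix (K := K) fun g hg i hi => by
  have : gen (sg nets) L ≤ MulAction.stabilizer (Equiv.Perm ℕ) i :=
    gen_le.2 fun c _ => Net.perm_fix (hn c) hi
  exact this hg

theorem le_card_ext {l l' : List Net} {K N k : ℕ} {iv : ℕ → ℕ} {R : List (List ℕ)}
    (hn : NetsOK K (nth Net.nil (l ++ l'))) (hiv : IvOK (sg (nth Net.nil (l ++ l'))) iv)
    (hR : ∀ r ∈ R, ev (sg (nth Net.nil (l ++ l'))) r = 1)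
    {ch : List (ℕ × ℕ × ℕ × List ℕ)} {L L0 dl : List ℕ}
    (hc : chkChain N k (nth Net.nil (l ++ l')) ch L = true)
    (h1 : and2 (allL L fun c => memL c (addDefs iv R dl L0))
      (allL L0 fun c => Nat.ble (Nat.succ c) l.length) = true) :
    (ch.map fun a => a.2.2.1).prod ≤ Nat.card (gen (sg (nth Net.nil l)) L0) := by
  rw [and2_true] at h1
  have := finite_gen_sg hn L0
  rw [gen_congr (e' := sg (nth Net.nil (l ++ l'))) fun c hc => by
    rw [sg, sg, nth_append_left _ _ _ (ble_true.1 (allL_true.1 h1.2 c hc))]]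
  exact (le_card_sg hn hc).trans (Subgroup.card_le_of_le (gen_le_addDefs hiv hR h1.1))

theorem sg_ne_one {nets : ℕ → Net} {K : ℕ} (hn : NetsOK K nets) {w : List ℕ} {p q : ℕ}
    (h : chkPt nets w p q = true) (hpq : q ≠ p) : ev (sg nets) w ≠ 1 :=
  ne_one_of_pt (ρ := MonoidHom.id _) hn (fun _ => rfl) h hpq

theorem nth_snoc_nil (l : List Net) : nth Net.nil (l ++ [Net.nil]) = nth Net.nil l := by
  funext c
  by_cases hc : c < l.length
  · exact nth_append_left _ _ _ hc
  · obtain ⟨j, rfl⟩ : ∃ j, c = l.length + j := ⟨c - l.length, by omega⟩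
    rw [nth_append_right, nth_default (l := l) _ (by omega)]
    cases j <;> rfl

end H29
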