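import Mathlib
import Cfsg.Agent.H29.Al1
import Cfsg.Agent.H29.Al2
import Cfsg.Agent.H29.Al3
import Cfsg.Agent.H29.Al4
import Cfsg.Agent.H29.Quo2

set_option autoImplicit false
set_option maxRecDepth 100000
set_option Elab.async false
set_option linter.all false

namespace H29.Al

open H19 H9.MX

/-- The relators of Moore's presentation of the alternating group of degree 12. -/
def R : List (List ℕ) := [[0, 0, 0], [0, 2, 0, 2, 0, 2], [0, 3, 0, 3], [0, 4, 0, 4], [0, 5, 0, 5], [0, 6, 0, 6], [0, 7, 0, 7], [0, 8, 0, 8], [0, 9, 0, 9], [0, 10, 0, 10], [2, 3, 2, 3, 2, 3], [2, 4, 2, 4], [2, 5, 2, 5], [2, 6, 2, 6], [2, 7, 2, 7], [2, 8, 2, 8], [2, 9, 2, 9], [2, 10, 2, 10], [3, 4, 3, 4, 3, 4], [3, 5, 3, 5], [3, 6, 3, 6], [3, 7, 3, 7], [3, 8, 3, 8], [3, 9, 3, 9], [3, 10, 3, 10], [4, 5, 4, 5, 4, 5], [4, 6, 4, 6], [4, 7, 4, 7], [4, 8, 4, 8], [4, 9, 4, 9], [4, 10, 4, 10], [5, 6, 5, 6, 5, 6], [5, 7, 5,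 7], [5, 8, 5, 8], [5, 9, 5, 9], [5, 10, 5, 10], [6, 7, 6, 7, 6, 7], [6, 8, 6, 8], [6, 9, 6, 9], [6, 10, 6, 10], [7, 8, 7, 8, 7, 8], [7, 9, 7, 9], [7, 10, 7, 10], [8, 9, 8, 9, 8, 9], [8, 10, 8, 10], [9, 10, 9, 10, 9, 10]]
def L : List ℕ := [0, 1, 2, 3, 4, 5, 6, 7, 8, 9, 10]
theorem ub : UB (ivOf [1, 0]) R L 239500800 := fun _ _ _ hi h =>
  Al4.bd hi (rels_sub h (by decide +kernel)) (Al3.bd hi (rels_sub h (by decide +kernel))
    (Al2.bd hi (rels_sub h (by decide +kernel)) (Al1.bd hi (rels_sub h (by decide +kernel)) (bd_nil _))))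
/-- The permutation group. -/
abbrev M : Type := PG Al4.nl
theorem hiv : IvOK (pe Al4.nl) (ivOf [1, 0]) := ivOK_sub _ Al4.hiv
theorem hR : ∀ r ∈ R, ev (pe Al4.nl) r = 1 := rels_sub (rels_subE _ Al4.hR0) (by decide +kernel)
theorem top : gen (pe Al4.nl) L = ⊤ := pe_top (by decide +kernel)
theorem card : Nat.card M = 239500800 :=
  (card_eq_of_chain (N := 12) (k := 4) (L := L) (ch := [(0, 10, 12, [0, 1, 2, 3, 4, 5, 6, 7, 8, 9]), (1, 9, 11, [0, 1, 2, 3, 4, 5, 6, 7, 8]), (2, 8, 10, [0, 1, 2, 3, 4, 5, 6, 7]), (3, 7, 9, [0, 1, 2, 3, 4, 5, 6]), (4, 6, 8, [0, 1, 2, 3, 4, 5]), (5, 5, 7, [0, 1, 2, 3, 4]), (6, 4, 6, [0, 1, 2, 3]), (7, 3, 5, [0, 1, 2]), (8, 2, 4, [0, 1]), (9, 1, 3, [])]) Al4.hn ((ub _ _ hiv hR).of_top top)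
    (fun c _ => pe_rho _ c) (by decide +kernel) (by decide +kernel)).1
theorem iso : Nonempty (M ≃* alternatingGroup (Fin 12)) := by
  have ht : Trans (PG Al4.nl).subtype 12 := trans_of_reach (by decide) (PG_lt Al4.hn) (L := L)
    (fun c _ => pe_rho _ c) (reach_of_chk (r := 10) Al4.hn (by decide +kernel))
  obtain ⟨H, f, -⟩ := ht.exists_fin (PG_faithful Al4.hn)
  have h1 := H.index_mul_card
  rw [← Nat.card_congr f.toEquiv, card, Nat.card_perm, Nat.card_eq_fintype_card, Fintype.card_fin,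
    show Nat.factorial 12 = 479001600 by decide] at h1
  exact ⟨f.trans (MulEquiv.subgroupCongr (Equiv.Perm.eq_alternatingGroup_of_index_eq_two (by omega)))⟩
/-- Letters satisfying the relators generate a copy of the alternating group. -/
theorem exists_sub {G : Type} [Group G] {e : ℕ → G} (hi : IvOK e (ivOf [1, 0]))
    (h : ∀ r ∈ R, ev e r = 1) (h0 : e 0 ≠ 1) :
    Nonempty (gen e L ≃* alternatingGroup (Fin 12)) := by
  obtain ⟨φ, hφ⟩ := hom_of_tr (ub.tr (by decide +kernel) hiv hR (by rw [top, Subgroup.card_top, card]) hi h)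
    hiv hi (by decide +kernel) top
  obtain ⟨f⟩ := iso
  have := alternatingGroup.isSimpleGroup (α := Fin 12) (by simp)
  have := f.isSimpleGroup
  have h1 : φ.ker = ⊥ := (inferInstance : φ.ker.Normal).eq_bot_or_eq_top.resolve_right fun h2 =>
    h0 ((hφ 0 (by decide)).symm.trans (h2 ▸ Subgroup.mem_top _ : pe Al4.nl 0 ∈ φ.ker))
  exact ⟨(MulEquiv.subgroupCongr (range_eq_gen hφ top).symm).trans
    ((MonoidHom.ofInjective ((MonoidHom.ker_eq_bot_iff _).1 h1)).symm.trans f)⟩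

end H29.Al
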