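import Mathlib
import Cfsg.Agent.H29.HM133.B
import Cfsg.Agent.H29.HM133.C0
import Cfsg.Agent.H29.HM133.C1

set_option autoImplicit false
set_option maxRecDepth 100000
set_option Elab.async false
set_option linter.all false

namespace H29.HM133

open H19
/-- The matrices. -/
noncomputable def σ (c : ℕ) : GL (Fin 133) (ZMod 5) := P.gl (Equiv.refl _) (lc c)
/-- The codes. -/
noncomputable def C : Codes (GL (Fin 133) (ZMod 5)) := Pok.codes (Equiv.refl _) 3
theorem hl : (∀ c, C.Rep (σ c) (lc c)) ∧ IvOK σ (ivOf ivl) :=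
  Pok.letters (w := 3) hii (by decide) (lt_step (lt_step (lt_step (lt_step (lt_step (lt_step (lt_step lt_base l0) l1) l2) l3) l4) l5) l6)
def R0 : List (List ℕ) := ((((((G0 ++ G1) ++ G2) ++ G3) ++ G4) ++ G5) ++ G6)
theorem hR0 : ∀ r ∈ R0, ev σ r = 1 := (rels_append (rels_append (rels_append (rels_append (rels_append (rels_append (C.rels hl.1 hl.2 r0) (C.rels hl.1 hl.2 r1)) (C.rels hl.1 hl.2 r2)) (C.rels hl.1 hl.2 r3)) (C.rels hl.1 hl.2 r4)) (C.rels hl.1 hl.2 r5)) (C.rels hl.1 hl.2 r6))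

end H29.HM133
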