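import Mathlib
import Cfsg.Agent.H29.HB1.B
import Cfsg.Agent.H29.HB1.C0
import Cfsg.Agent.H29.HB1.C1
import Cfsg.Agent.H29.HB1.C2
import Cfsg.Agent.H29.HB1.C3
import Cfsg.Agent.H29.HB1.C4
import Cfsg.Agent.H29.HB1.P0

set_option autoImplicit false
set_option maxRecDepth 100000
set_option Elab.async false
set_option linter.all false

namespace H29.HB1

theorem der : Derives (ivOf ivl) R0 R25 := (((((((((((((((((((((((((Derives.refl _ _).prog hii p0).prog hii p1).prog hii p2).prog hii p3).prog hii p4).prog hii p5).prog hii p6).prog hii p7).prog hii p8).prog hii p9).prog hii p10).prog hii p11).prog hii p12).prog hii p13).prog hii p14).prog hii p15).prog hii p16).prog hii p17).prog hii p18).prog hii p19).prog hii p20).prog hii p21).prog hii p22).prog hii p23).prog hii p24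
theorem hG0 : ∀ r ∈ G0, ev (sg (nth Net.nil nl)) r = 1 :=
  rels_of_chk (k := 17) hn (by decide) hiv (lt_step (lt_step (lt_step (lt_step (lt_step (lt_step (lt_step (lt_step (lt_step (lt_step (lt_step (lt_step (lt_step (lt_step (lt_step (lt_step (lt_step lt_base r0_0) r0_1) r0_2) r0_3) r0_4) r0_5) r0_6) r0_7) r0_8) r0_9) r0_10) r0_11) r0_12) r0_13) r0_14) r0_15) r0_16)
theorem hR0 : ∀ r ∈ R0, ev (sg (nth Net.nil nl)) r = 1 := hG0
theorem col0 : T.ColOK 0 := TCData.colOK_of_chk (U := (Nat.lor (Nat.lor (Nat.lor (Nat.lor (Nat.lor (Nat.lor (Nat.lor (Nat.lor (Nat.lor (Nat.lor (Nat.lor (Nat.lor (Nat.lor (Nat.lor (Nat.lor (Nat.lor (Nat.lor (Nat.lor (Nat.lor (Nat.lor (Nat.lor (Nat.lor (Nat.lor (Nat.lor (Nat.lor (Nat.lor (Nat.lor (Nat.lor (Nat.lor (Nat.lor (Nat.lor (Nat.lor (Nat.lor (Nat.lor (Nat.lor (T.mask0 0) v0_0) v0_1) v0_2) v0_3) v0_4) v0_5) v0_6) v0_7) v0_8) v0_9)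 v0_10) v0_11) v0_12) v0_13) v0_14) v0_15) v0_16) v0_17) v0_18) v0_19) v0_20) v0_21) v0_22) v0_23) v0_24) v0_25) v0_26) v0_27) v0_28) v0_29) v0_30) v0_31) v0_32) v0_33) v0_34)) (V := (Nat.lor (Nat.lor (Nat.lor (Nat.lor (Nat.lor (Nat.lor (Nat.lor (Nat.lor (Nat.lor (Nat.lor (Nat.lor (Nat.lor (Nat.lor (Nat.lor (Nat.lor (Nat.lor (Nat.lor (Nat.lor (Nat.lor (Nat.lor (Nat.lor (Nat.lor (Nat.lor (Nat.lor (Nat.lor (Nat.lor (Nat.lor (Nat.lor (Nat.lor (Nat.lor (Nat.lor (Nat.lor (Nat.lor (Nat.lor (Nat.lor (T.mask0 0) v0_0) v0_1) v0_2) v0_3) v0_4) v0_5) v0_6) v0_7) v0_8) v0_9) v0_10) v0_11) v0_12) v0_13) v0_14) v0_15) v0_16) v0_17) v0_18) v0_19) v0_20) v0_21) v0_22) v0_23) v0_24) v0_25) v0_26) v0_27) v0_28) v0_29) v0_30) v0_31) v0_32) v0_33) v0_34)) hb ((((((((((((((((((((((((((((((((((((T.cov_mask0 0).or cv0_0).or cv0_1).or cv0_2).or cv0_3).or cv0_4).or cv0_5).or cv0_6).or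 cv0_7).or cv0_8).or cv0_9).or cv0_10).or cv0_11).or cv0_12).or cv0_13).or cv0_14).or cv0_15).or cv0_16).or cv0_17).or cv0_18).or cv0_19).or cv0_20).or cv0_21).or cv0_22).or cv0_23).or cv0_24).or cv0_25).or cv0_26).or cv0_27).or cv0_28).or cv0_29).or cv0_30).or cv0_31).or cv0_32).or cv0_33).or cv0_34) ((((((((((((((((((((((((((((((((((((T.cov_mask0 0).or cv0_0).or cv0_1).or cv0_2).or cv0_3).or cv0_4).or cv0_5).or cv0_6).or cv0_7).or cv0_8).or cv0_9).or cv0_10).or cv0_11).or cv0_12).or cv0_13).or cv0_14).or cv0_15).or cv0_16).or cv0_17).or cv0_18).or cv0_19).or cv0_20).or cv0_21).or cv0_22).or cv0_23).or cv0_24).or cv0_25).or cv0_26).or cv0_27).or cv0_28).or cv0_29).or cv0_30).or cv0_31).or cv0_32).or cv0_33).or cv0_34) (by decide +kernel)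
theorem col1 : T.ColOK 1 := TCData.colOK_of_chk (U := (Nat.lor (Nat.lor (Nat.lor (Nat.lor (Nat.lor (Nat.lor (Nat.lor (Nat.lor (Nat.lor (Nat.lor (Nat.lor (Nat.lor (Nat.lor (Nat.lor (Nat.lor (Nat.lor (Nat.lor (Nat.lor (Nat.lor (Nat.lor (Nat.lor (Nat.lor (Nat.lor (Nat.lor (Nat.lor (Nat.lor (Nat.lor (Nat.lor (Nat.lor (Nat.lor (Nat.lor (Nat.lor (Nat.lor (Nat.lor (Nat.lor (T.mask0 1) v1_0) v1_1) v1_2) v1_3) v1_4) v1_5) v1_6) v1_7) v1_8) v1_9) v1_10) v1_11) v1_12) v1_13) v1_14) v1_15) v1_16) v1_17) v1_18) v1_19) v1_20) v1_21) v1_22) v1_23) v1_24) v1_25) v1_26) v1_27) v1_28) v1_29) v1_30) v1_31) v1_32) v1_33) v1_34)) (V := (Nat.lor (Nat.lor (Nat.lor (Nat.lor (Nat.lor (Nat.lor (Nat.lor (Nat.lor (Nat.lor (Nat.lor (Nat.lor (Nat.lor (Nat.lor (Nat.lor (Nat.lor (Nat.lor (Nat.lor (Nat.lor (Nat.lor (Nat.lor (Nat.lor (Nat.lor (Nat.lor (Nat.lor (Nat.lor (Nat.lor (Nat.lor (Nat.lor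 (Nat.lor (Nat.lor (Nat.lor (Nat.lor (T.mask0 2) v2_0) v2_1) v2_2) v2_3) v2_4) v2_5) v2_6) v2_7) v2_8) v2_9) v2_10) v2_11) v2_12) v2_13) v2_14) v2_15) v2_16) v2_17) v2_18) v2_19) v2_20) v2_21) v2_22) v2_23) v2_24) v2_25) v2_26) v2_27) v2_28) v2_29) v2_30) v2_31)) hb ((((((((((((((((((((((((((((((((((((T.cov_mask0 1).or cv1_0).or cv1_1).or cv1_2).or cv1_3).or cv1_4).or cv1_5).or cv1_6).or cv1_7).or cv1_8).or cv1_9).or cv1_10).or cv1_11).or cv1_12).or cv1_13).or cv1_14).or cv1_15).or cv1_16).or cv1_17).or cv1_18).or cv1_19).or cv1_20).or cv1_21).or cv1_22).or cv1_23).or cv1_24).or cv1_25).or cv1_26).or cv1_27).or cv1_28).or cv1_29).or cv1_30).or cv1_31).or cv1_32).or cv1_33).or cv1_34) (((((((((((((((((((((((((((((((((T.cov_mask0 2).or cv2_0).or cv2_1).or cv2_2).or cv2_3).or cv2_4).or cv2_5).or cv2_6).or cv2_7).or cv2_8).or cv2_9).or cv2_10).or cv2_11).or cv2_12).or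 cv2_13).or cv2_14).or cv2_15).or cv2_16).or cv2_17).or cv2_18).or cv2_19).or cv2_20).or cv2_21).or cv2_22).or cv2_23).or cv2_24).or cv2_25).or cv2_26).or cv2_27).or cv2_28).or cv2_29).or cv2_30).or cv2_31) (by decide +kernel)
theorem col2 : T.ColOK 2 := TCData.colOK_of_chk (U := (Nat.lor (Nat.lor (Nat.lor (Nat.lor (Nat.lor (Nat.lor (Nat.lor (Nat.lor (Nat.lor (Nat.lor (Nat.lor (Nat.lor (Nat.lor (Nat.lor (Nat.lor (Nat.lor (Nat.lor (Nat.lor (Nat.lor (Nat.lor (Nat.lor (Nat.lor (Nat.lor (Nat.lor (Nat.lor (Nat.lor (Nat.lor (Nat.lor (Nat.lor (Nat.lor (Nat.lor (Nat.lor (T.mask0 2) v2_0) v2_1) v2_2) v2_3) v2_4) v2_5) v2_6) v2_7) v2_8) v2_9) v2_10) v2_11) v2_12) v2_13) v2_14) v2_15) v2_16) v2_17) v2_18) v2_19) v2_20) v2_21) v2_22) v2_23) v2_24) v2_25) v2_26) v2_27) v2_28) v2_29) v2_30) v2_31)) (V := (Nat.lor (Nat.lor (Nat.lor (Nat.lor (Nat.lor (Nat.lor (Nat.lor (Nat.lor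 (Nat.lor (Nat.lor (Nat.lor (Nat.lor (Nat.lor (Nat.lor (Nat.lor (Nat.lor (Nat.lor (Nat.lor (Nat.lor (Nat.lor (Nat.lor (Nat.lor (Nat.lor (Nat.lor (Nat.lor (Nat.lor (Nat.lor (Nat.lor (Nat.lor (Nat.lor (Nat.lor (Nat.lor (Nat.lor (Nat.lor (Nat.lor (T.mask0 1) v1_0) v1_1) v1_2) v1_3) v1_4) v1_5) v1_6) v1_7) v1_8) v1_9) v1_10) v1_11) v1_12) v1_13) v1_14) v1_15) v1_16) v1_17) v1_18) v1_19) v1_20) v1_21) v1_22) v1_23) v1_24) v1_25) v1_26) v1_27) v1_28) v1_29) v1_30) v1_31) v1_32) v1_33) v1_34)) hb (((((((((((((((((((((((((((((((((T.cov_mask0 2).or cv2_0).or cv2_1).or cv2_2).or cv2_3).or cv2_4).or cv2_5).or cv2_6).or cv2_7).or cv2_8).or cv2_9).or cv2_10).or cv2_11).or cv2_12).or cv2_13).or cv2_14).or cv2_15).or cv2_16).or cv2_17).or cv2_18).or cv2_19).or cv2_20).or cv2_21).or cv2_22).or cv2_23).or cv2_24).or cv2_25).or cv2_26).or cv2_27).or cv2_28).or cv2_29).or cv2_30).or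 cv2_31) ((((((((((((((((((((((((((((((((((((T.cov_mask0 1).or cv1_0).or cv1_1).or cv1_2).or cv1_3).or cv1_4).or cv1_5).or cv1_6).or cv1_7).or cv1_8).or cv1_9).or cv1_10).or cv1_11).or cv1_12).or cv1_13).or cv1_14).or cv1_15).or cv1_16).or cv1_17).or cv1_18).or cv1_19).or cv1_20).or cv1_21).or cv1_22).or cv1_23).or cv1_24).or cv1_25).or cv1_26).or cv1_27).or cv1_28).or cv1_29).or cv1_30).or cv1_31).or cv1_32).or cv1_33).or cv1_34) (by decide +kernel)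
theorem ok : T.OK := ⟨hb, TCData.treeOK_of_chk hn (by decide +kernel), (List.forall_mem_cons.2 ⟨col0, (List.forall_mem_cons.2 ⟨col1, (List.forall_mem_cons.2 ⟨col2, (fun _ h => absurd h List.not_mem_nil)⟩)⟩)⟩), der _ _ hiv hR0⟩
theorem bd {G : Type} [Group G] {e : ℕ → G} (h1 : IvOK e (ivOf ivl)) (h2 : ∀ r ∈ R0, ev e r = 1)
    {m : ℕ} (h : Bd (gen e hcols) m) : Bd (gen e cols) (126000 * m) := ok.bd h1 (der G e h1 h2) h
theorem cm {G : Type} [Group G] {e : ℕ → G} (h1 : IvOK e (ivOf ivl)) (h2 : ∀ r ∈ R0, ev e r = 1)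
    (h3 : gen e cols = ⊤) {ρ : G →* Equiv.Perm ℕ} (h4 : ∀ c, ρ (e c) = sg (nth Net.nil nl) c) :
    CosetModel ρ (gen e hcols) 126000 := ok.cosetModel h1 (der G e h1 h2) h3 fun c _ => h4 c

end H29.HB1
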