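import Mathlib
import Cfsg.Agent.H29.HB1X.B
import Cfsg.Agent.H29.HB1X.C0

set_option autoImplicit false
set_option maxRecDepth 100000
set_option Elab.async false
set_option linter.all false

namespace H29.HB1X

def RhS0 : List (List ℕ) := [[5, 1, 0, 1, 0, 1, 1, 0, 2], [9, 4, 0, 4, 0, 4, 0, 4, 0, 4, 0, 4, 0, 4, 0], [8, 8, 8], [0, 8, 0, 8], [8, 1, 9, 2]]
theorem hS0 : ∀ r ∈ RhS0, ev (sg nx) r = 1 :=
  rels_of_chk (k := 17) hn (by decide) hiv (lt_step (lt_step (lt_step (lt_step (lt_step (lt_step (lt_step (lt_step (lt_step (lt_step (lt_step (lt_step (lt_step (lt_step (lt_step (lt_step (lt_step lt_base hS0_0) hS0_1) hS0_2) hS0_3) hS0_4) hS0_5) hS0_6) hS0_7) hS0_8) hS0_9) hS0_10) hS0_11) hS0_12) hS0_13) hS0_14) hS0_15) hS0_16)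
def RhS : List (List ℕ) := RhS0
theorem hS : ∀ r ∈ RhS, ev (sg nx) r = 1 := hS0
theorem ne : ev (sg nx) [8] ≠ 1 := sg_ne_one (p := 0) (q := 28509) hn (by decide +kernel) (by decide)

end H29.HB1X
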