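import Mathlib
import Cfsg.Agent.H29.Ext

set_option autoImplicit false
set_option maxRecDepth 100000
set_option Elab.async false
set_option linter.all false

namespace H29.HNq

def ivl : List ℕ := [1, 0, 3, 2, 4]
def R0 : List (List ℕ) := [[0, 0],
 [2, 2, 2, 2, 2, 2],
 [0, 0, 2, 0, 0, 3],
 [1, 3, 0, 2, 1, 3, 0, 2, 1, 3, 0, 2],
 [1, 2, 2, 0, 2, 2, 2, 1, 2, 2, 0, 2, 2, 2, 1, 2, 2, 0, 2, 2, 2],
 [0, 2, 0, 2, 0, 2, 0, 2, 0, 2, 0, 2, 0, 2, 0, 2],
 [0, 2, 0, 2, 2, 2, 0, 2, 0, 2, 2, 2, 0, 2, 0, 2, 2, 2, 0, 2, 0, 2, 2, 2],
 [4, 0, 4, 0],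
 [4, 2, 1, 3, 3, 1, 3, 1, 3, 4, 2, 0, 2, 0, 2, 2, 0, 3, 1, 1],
 [4, 3, 1, 3, 1, 3, 3, 3, 4, 2, 2, 2, 0, 2, 0, 2, 0, 3, 1, 3, 1, 3, 3, 3, 4, 2, 2, 2, 0, 2, 0, 2, 0, 3, 1, 3, 1, 3, 3, 3, 4, 2, 2, 2, 0, 2, 0, 2, 0]]
def w0 : List ℕ := [0, 3, 0, 2, 0, 3, 0, 2, 0, 3, 0, 2]
def R1 : List (List ℕ) := R0 ++ [w0]
def w1 : List ℕ := [0, 2, 2, 0, 2, 2, 2, 0, 2, 2, 0, 2, 2, 2, 0, 2, 2, 0, 2, 2, 2]
def R2 : List (List ℕ) := R1 ++ [w1]
def w2 : List ℕ := [4, 2, 0, 3, 3, 0, 3, 0, 3, 4, 2, 0, 2, 0, 2, 2, 0, 3]
def R3 : List (List ℕ) := R2 ++ [w2]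
def w3 : List ℕ := [4, 3, 0, 3, 0, 3, 3, 3, 4, 2, 2, 2, 0, 2, 0, 2, 0, 3, 0, 3, 0, 3, 3, 3, 4, 2, 2, 2, 0, 2, 0, 2, 0, 3, 0, 3, 0, 3, 3, 3, 4, 2, 2, 2, 0, 2, 0, 2, 0]
def R4 : List (List ℕ) := R3 ++ [w3]
theorem hii : ∀ c, ivOf ivl (ivOf ivl c) = c := ivOf_ivOf (by decide +kernel)
noncomputable def pr0 : List (ℕ × ℕ) := [(45, (nat_lit 0x700000200000700000200002a00003100004a00004200004900000700000200003100000100000700001000000100000700000000000100000700001800000100000700000000000700000900000700001a00000200001900000700000500000700001d000007000008000001000007000010000001000007000008000001000007000018))]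
theorem p0 : chkProg 3 (ivOf ivl) R0 pr0 [(0, w0)] = true := by decide +kernel
noncomputable def pr1 : List (ℕ × ℕ) := [(63, (nat_lit 0x700000200000700000200004200004900006200005a00006100000700000200004900000100000700001000000100000700001000000100000700001000000100000700000000000100000700001000000100000700001000000100000700000000000700000900000700001a000002000019000007000005000007000025000007000008000001000007000018000001000007000018000001000007000008000001000007000018000001000007000018000001000007000018))]
theorem p1 : chkProg 3 (ivOf ivl) R1 pr1 [(0, w1)] = true := by decide +kernel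
noncomputable def pr2 : List (ℕ × ℕ) := [(48, (nat_lit 0x700000100000700000200000700000200001a00003a00005200005a000007000002000059000001000007000018000001000007000000000009000007000002000041000001000007000018000001000007000018000001000007000000000009000007000002000021000001000007000010000001000007000020000007000045000007000001000007000005))]
theorem p2 : chkProg 3 (ivOf ivl) R2 pr2 [(0, w2)] = true := by decide +kernel
noncomputable def pr3 : List (ℕ × ℕ) := [(138, (nat_lit 0x700000200000700000200001a0000920000aa0000c20000c90000d10000070000020000d10000010000070000180000010000070000000000090000070000020000b900000100000700001800000100000700000000000100000700001000000100000700000000000100000700001000000100000700000000000100000700001000000100000700001000000100000700001000000100000700002000000100000700001800000100000700001800000100000700001800000100000700000000000900000700000200004100000100000700001800000100000700000000000900000700000200002900000100000700001800000100000700002000000700004d00000700002200000a00002100000700000a000002000009000007000005000007000010000001000007000008000001000007000010000001000007000010000001000007000010000001000007000020000001000007000018000001000007000018000001000007000018000001000007000008000001000007000018000001000007000008000001000007000018000001000007000008))]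
theorem p3 : chkProg 3 (ivOf ivl) R3 pr3 [(0, w3)] = true := by decide +kernel
theorem der : Derives (ivOf ivl) R0 R4 := ((((Derives.refl _ _).prog hii p0).prog hii p1).prog hii p2).prog hii p3

end H29.HNq
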