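import Mathlib
import Cfsg.Agent.H29.HB0
import Cfsg.Agent.H29.HB1X
import Cfsg.Agent.H29.HB2X
import Cfsg.Agent.H29.HBd
import Cfsg.Agent.H29.HNq
import Cfsg.Agent.H29.HNc

set_option autoImplicit false
set_option maxRecDepth 100000
set_option Elab.async false
set_option linter.all false

namespace H29.HB

def RB : List (List ℕ) := [[1, 1, 1, 1, 1, 1], [0, 2, 0, 1, 0, 2, 0, 1, 0, 2, 0, 1], [0, 1, 1, 0, 1, 1, 1, 0, 1, 1, 0, 1, 1, 1, 0, 1, 1, 0, 1, 1, 1], [0, 1, 0, 1, 0, 1, 0, 1, 0, 1, 0, 1, 0, 1, 0, 1], [0, 1, 0, 1, 1, 1, 0, 1, 0, 1, 1, 1, 0, 1, 0, 1, 1, 1, 0, 1, 0, 1, 1, 1], [3, 0, 3, 0], [3, 1, 0, 2, 2, 0, 2, 0, 2, 3, 1, 0, 1, 0, 1, 1, 0, 2], [3, 2, 0, 2, 0, 2, 2, 2, 3, 1, 1, 1, 0, 1, 0, 1, 0, 2, 0, 2, 0, 2, 2, 2, 3, 1, 1, 1, 0, 1, 0, 1, 0, 2, 0, 2, 0, 2, 2, 2, 3, 1, 1, 1, 0, 1, 0, 1, 0]]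
def DR : List (List ℕ) := [[5, 1, 0, 1, 0, 1, 1, 0, 2], [7, 1, 1, 1, 0, 1, 0, 1], [9, 4, 0, 4, 0, 4, 0, 4, 0, 4, 0, 4, 0, 4, 0]]
def RS : List (List ℕ) := [[8, 8, 8], [0, 8, 0, 8], [8, 1, 9, 2]]
def fr : List (List ℕ) := [[0, 4, 0, 4, 0, 5, 5, 5, 5, 5, 2, 2, 7, 4, 0, 4, 2, 4], [0, 1, 0, 1, 6, 0, 5, 5, 5, 5, 5, 0, 4, 4, 4, 0, 5, 5, 5], [0, 4, 4, 4, 4, 4, 6, 2, 4, 7, 4, 2, 4, 4], [0, 1, 6, 0, 4, 0, 4, 4, 1, 6, 0, 2, 2, 4, 1], [0, 1, 6, 1, 6, 0, 1, 6, 6, 2, 2, 4, 4], [0, 1, 6, 4, 4, 0, 7, 5, 5, 0, 5, 1, 6], [0, 1, 0, 1, 5, 5, 5, 6, 0, 4, 4, 4, 4], [0, 2, 2, 4, 4, 4, 4, 4, 1, 1, 4, 0, 7], [0, 2, 7, 5, 0, 7, 5, 0, 5, 5, 1, 7, 5], [0, 2, 5, 6, 4, 4, 1, 6, 6, 0, 5], [0, 2, 4, 0, 5, 0, 7, 1, 5], [0, 1, 0, 6, 6, 0, 5, 5, 5, 0, 7, 5, 1], [0, 1, 7, 4, 4, 7, 5, 5, 7, 5], [0, 2, 5, 5, 5, 5, 5, 7, 0, 7, 5, 7]]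
def RH : List (List ℕ) := [[2, 2, 2, 2, 2, 2], [0, 0, 2, 0, 0, 3], [1, 3, 0, 2, 1, 3, 0, 2, 1, 3, 0, 2], [1, 2, 2, 0, 2, 2, 2, 1, 2, 2, 0, 2, 2, 2, 1, 2, 2, 0, 2, 2, 2], [0, 2, 0, 2, 0, 2, 0, 2, 0, 2, 0, 2, 0, 2, 0, 2], [0, 2, 0, 2, 2, 2, 0, 2, 0, 2, 2, 2, 0, 2, 0, 2, 2, 2, 0, 2, 0, 2, 2, 2], [4, 0, 4, 0], [4, 2, 1, 3, 3, 1, 3, 1, 3, 4, 2, 0, 2, 0, 2, 2, 0, 3, 1, 1], [4, 3, 1, 3, 1, 3, 3, 3, 4, 2, 2, 2, 0, 2, 0, 2, 0, 3, 1, 3, 1, 3, 3, 3, 4, 2, 2, 2, 0, 2, 0, 2, 0, 3, 1, 3, 1, 3, 3, 3, 4, 2, 2, 2, 0, 2, 0, 2, 0]]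

theorem ub1 : UB (ivOf HB1X.ivx) HB1.R0 [0, 1, 2] 756000 :=
  UB.ext (m := 4) (ivl0 := HB1.ivl)
    (fun _ _ _ hi hR => HB1.bd hi hR (HB0.bd hi (rels_sub hR (by decide +kernel)) (bd_nil _))) (by decide +kernel)
theorem r1 : ∀ r ∈ HB1.R0, ev (sg HB1X.nx) r = 1 :=
  rels_app (by rw [nth_snoc_nil]; exact HB1.hR0) (by decide +kernel)

section
variable {G : Type} [Group G] {e : ℕ → G} (hi : IvOK e (ivOf HB1X.ivx))
  (hR : ∀ r ∈ RB ++ DR, ev e r = 1)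
include hi hR

theorem tr1 : Tr (sg HB1X.nx) e [0, 1, 2] :=
  ub1.tr (by decide +kernel) HB1X.hiv r1 (le_card_sg HB1X.hn HB1X.ch) hi (rels_sub hR (by decide +kernel))
theorem hS : ∀ r ∈ RS, ev e r = 1 :=
  ((tr1 hi hR).addDefs HB1X.hiv hi (by decide +kernel) (R := pick DR [0, 2]) (l := [0, 1])
    (L' := [0, 1, 2, 8, 9]) (rels_sub HB1X.hS (by decide +kernel)) (rels_sub hR (by decide +kernel)) (by decide +kernel)).rels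
    (rels_sub HB1X.hS (by decide +kernel)) (by decide +kernel)
theorem hD : ∀ r ∈ HBd.R5, ev e r = 1 := HBd.der G e hi (rels_sub (rels_append hR (hS hi hR)) (by decide +kernel))
theorem bd2 : Bd (gen e [0, 1, 2]) 252000 :=
  (tr1 hi hR).bd_div' HB1X.hiv hi (by decide +kernel) (p := 3) (by norm_num) (ub1 _ _ HB1X.hiv r1)
    (R := pick DR [0, 2]) (l := [0, 1]) (c := 8) (rels_sub HB1X.hS (by decide +kernel)) (rels_sub hR (by decide +kernel)) (by decide +kernel)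
    HB1X.ne (HB1X.hS _ (by decide +kernel)) (hD hi hR _ (by decide +kernel))
end

theorem ub2 : UB (ivOf HB1X.ivx) (RB ++ DR) [0, 1, 2] 252000 := fun _ _ _ hi hR => bd2 hi hR
theorem r2 : ∀ r ∈ RB ++ DR, ev (sg (nth Net.nil HB2.nl)) r = 1 :=
  rels_of_chk (k := 9) HB2.hn (by decide) HB2.hiv (allN_true.1 (by decide +kernel))

theorem ub3 : UB (ivOf HB1X.ivx) (RB ++ DR) [0, 1, 2, 3] 88704000 := fun G _ e hi hR => by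
  have h1 : ∀ r ∈ fr, ev e r = 1 :=
    ((ub2.tr (by decide +kernel) HB2.hiv r2 HB2X.card hi hR).addDefs HB2.hiv hi (by decide +kernel)
      (R := DR) (l := [0, 1]) (L' := HB2.hcols) (rels_sub r2 (by decide +kernel)) (rels_sub hR (by decide +kernel)) (by decide +kernel)).rels
      (rels_sub HB2.hR0 (by decide +kernel)) (by decide +kernel)
  exact (HB2.bd hi (rels_sub (rels_append (rels_append hR (hD hi hR)) h1) (by decide +kernel))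
    ((bd2 hi hR).of_le (gen_le_addDefs (R := DR) (l := [0, 1]) hi (rels_sub hR (by decide +kernel)) (by decide +kernel)))).of_le
    (gen_sub (by decide +kernel))

/-- The presentation of `HS:2`. -/
theorem ubB : UB (ivOf [0, 2, 1, 3]) RB [0, 1, 2, 3] 88704000 := fun G _ e hi hR => by
  rw [← gen_extE e (n := 4) HB1X.defs (by decide +kernel)]
  exact ub3 _ _ (ivOK_extE hi HB1X.hext) (rels_append (rels_extE hR (by decide +kernel))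
    (rels_sub (isExt_extE e (chkExt_wf HB1X.hext)).rels (by decide +kernel)))

theorem ubQ : UB (ivOf [1, 0, 3, 2, 4]) ([0, 0] :: RH) [0, 1, 2, 3, 4] 88704000 := fun G _ e hi hR => by
  have h0 : e 0 = (e 0)⁻¹ := eq_inv_of_mul_eq_one_left (by simpa using hR [0, 0] (by simp))
  have h1 := ubB _ (fun c => e (nth 4 [0, 2, 3, 4] c)) (fun c => match c with
    | 0 => h0
    | 1 => hi 2
    | 2 => hi 3
    | 3 => hi 4
    | _ + 4 => hi 4) (rels_relabel (HNq.der G e hi (rels_sub hR (by decide +kernel))) (by decide +kernel))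
  rw [gen_relabel] at h1
  exact h1.of_le (gen_sub_iv hi (by decide +kernel))

/-- The presentation of `2.HS.2`. -/
theorem ubH : UB (ivOf [1, 0, 3, 2, 4]) RH [0, 1, 2, 3, 4] 177408000 := fun G _ e hi hR => by
  have h1 := HNc.der G e hi (rels_sub hR (by decide +kernel))
  exact bd_of_central hi hR (by decide +kernel) HNc.hii (by decide +kernel)
    (by rw [← ev_append]; exact h1 _ (by decide +kernel)) (comm_of_rels hi h1 (by decide +kernel)) ubQ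

end H29.HB
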