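import Mathlib
import Cfsg.Agent.H29.Quo2

/-!
# Divisibility of orders of matrix groups from orbits of vectors, level by level
-/

set_option autoImplicit false

namespace H29

open H19 MulAction
open scoped Pointwise

theorem card_gen_pe (nl : List Net) (L : List ℕ) :
    Nat.card (gen (H9.MX.pe nl) L) = Nat.card (gen (sg (nth Net.nil nl)) L) := by
  rw [Nat.card_congr (Subgroup.equivMapOfInjective _ _ (H9.MX.PG nl).subtype_injective).toEquiv,
    map_gen]
  rfl

theorem gen_wE_le_gen {G : Type*} [Group G] (σ : ℕ → G) {L : List ℕ} {ws : List (List ℕ)}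
    (h : chkIn L ws = true) (L' : List ℕ) : gen (wE σ ws) L' ≤ gen σ L := by
  simp only [chkIn, allL_true, memL_true] at h
  exact gen_le.2 fun c _ => nth_forall (p := fun w => ev σ w ∈ gen σ L) (one_mem _)
    (fun w hw => ev_mem_gen (h w hw)) c

theorem le_card_genW2 {K : Type*} [Group K] [Finite K] {σ : ℕ → K} {ρ : K →* Equiv.Perm ℕ}
    {nets : ℕ → Net} {N N' k : ℕ} (hn : NetsOK N' nets) {cols : List ℕ}
    (hρ : ∀ c ∈ cols, ρ (σ c) = sg nets c) {gw ws : List (List ℕ)} (h1 : chkIn cols gw = true)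
    {ch : List (ℕ × ℕ × ℕ × List ℕ)} {L : List ℕ}
    (h2 : chkChain N k (wNets (wNets nets gw) ws) ch L = true) :
    (ch.map fun a => a.2.2.1).prod ≤ Nat.card (genW σ gw) :=
  (le_card_of_chain ((hn.wNets gw).wNets ws) ch L
    (fun c _ => map_wE (map_wE' hρ h1) ws c) h2).trans
    (Subgroup.card_le_of_le (gen_le.2 fun _ _ => ev_mem fun c _ => gen_wE_le σ gw [c] (mem_gen (by simp))))

variable {P : PM} {I : Type} [Fintype I] [DecidableEq I] {ε : I ≃ Fin P.n}

/-- The orbit of the vector `v` under the letters `L` is grown by the steps `st` and closed; the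
codes `xs` fix `v`. -/
noncomputable def chkLev (P : PM) (w : ℕ) (lc : ℕ → ℕ) (L : List ℕ) (v : ℕ) (st : List (ℕ × ℕ))
    (xs : List ℕ) : Bool :=
  and2 (and2 (P.chkRed w v) (grow P.mul lc L
      (fun O => allL O fun x => allL L fun c => seqN (P.mul x (lc c)) fun y => memL y O) st [v]))
    (allL xs fun x => Nat.beq (P.mul v x) v)

theorem dvd_lev (h : P.OK) {σ τ : ℕ → GL I (ZMod P.p)} {lc : ℕ → ℕ} {xs : List ℕ}
    (hl : ∀ c, P.Rep ε (σ c) (lc c)) (hx : ∀ c, P.Rep ε (τ c) (nth P.one xs c)) {w v : ℕ}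
    {L L' : List ℕ} {st : List (ℕ × ℕ)} [Finite (gen σ L)] (hle : gen τ L' ≤ gen σ L)
    (hc : chkLev P w lc L v st xs = true) {m : ℕ} (hm : m ∣ Nat.card (gen τ L')) :
    (st.length + 1) * m ∣ Nat.card (gen σ L) := by
  simp only [chkLev, and2_true, allL_true, H29.beq_true] at hc
  obtain ⟨⟨h1, h2⟩, h3⟩ := hc
  have r1 := h.red_of_chk h1
  let f : ℕ → RV I (ZMod P.p) := fun x => ⟨P.dec ε x⟩
  have hf : ∀ x, P.Red x → ∀ {g : GL I (ZMod P.p)} {y : ℕ}, P.Rep ε g y →
      g⁻¹ • f x = f (P.mul x y) := fun x hx g y hg => by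
    change RV.mk (P.dec ε x * (g⁻¹⁻¹ : GL I (ZMod P.p)).val) = ⟨_⟩
    rw [inv_inv, h.dec_mul hx hg.1, hg.2]
  obtain ⟨O, b1, b2, b3, b4, b5⟩ := grow_spec
    (p := fun x => P.Red x ∧ f x ∈ orbit (gen σ L) (f v)) (by
      rintro x ⟨x1, g, x2⟩ c hc
      refine ⟨h.red_mul x1 (hl c).1, ⟨(σ c)⁻¹, inv_mem (mem_gen hc)⟩ * g, ?_⟩
      rw [← hf x x1 (hl c), ← x2]
      exact mul_smul _ g _) _ _ (List.nodup_singleton _)
    (fun x hx => by rw [List.mem_singleton.1 hx]; exact ⟨r1, mem_orbit_self _⟩) h2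
  simp only [allL_true, seqN_eq, memL_true] at b5
  have hinj : Set.InjOn f {x | x ∈ O} := fun x hx y hy e =>
    h.dec_inj (ε := ε) (b2 x hx).1 (b2 y hy).1 (congrArg RV.x e)
  have e1 : orbit (gen σ L) (f v) = f '' {x | x ∈ O} := by
    refine Set.Subset.antisymm ?_ (by rintro _ ⟨x, hx, rfl⟩; exact (b2 x hx).2)
    have hfin : (f '' {x | x ∈ O}).Finite := (List.finite_toSet O).image f
    have key : gen σ L ≤ stabilizer (GL I (ZMod P.p)) (f '' {x | x ∈ O}) := gen_le.2 fun c hc => by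
      rw [← inv_mem_iff, mem_stabilizer_set_iff_smul_set_subset hfin]
      rintro _ ⟨_, ⟨x, hx, rfl⟩, rfl⟩
      exact ⟨_, b5 x hx c hc, (hf x (b2 x hx).1 (hl c)).symm⟩
    rintro _ ⟨⟨g, hg⟩, rfl⟩
    have := mem_stabilizer_iff.1 (key hg)
    rw [← this]
    exact ⟨f v, ⟨v, b3 _ (by simp), rfl⟩, rfl⟩
  have e3 : (gen τ L').subgroupOf (gen σ L) ≤ stabilizer (gen σ L) (f v) := by
    have : gen τ L' ≤ stabilizer (GL I (ZMod P.p)) (f v) := gen_le.2 fun c _ => by
      rw [← inv_mem_iff, mem_stabilizer_iff, hf _ r1 (hx c)]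
      congr 1
      refine nth_forall (p := fun x => P.mul v x = v) ?_ h3 c
      exact h.dec_inj (ε := ε) (h.red_mul r1 h.red_one) r1 (by
        rw [h.dec_mul r1 h.red_one, h.dec_one, mul_one])
    exact fun x hx => this hx
  rw [← (stabilizer (gen σ L) (f v)).index_mul_card, index_stabilizer, e1, hinj.ncard_image,
    show {x | x ∈ O} = (O.toFinset : Set ℕ) by simp, Set.ncard_coe_finset,
    List.toFinset_card_of_nodup b1, b4, List.length_singleton, add_comm]
  refine Nat.mul_dvd_mul_left _ (hm.trans ?_)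
  rw [← Nat.card_congr (Subgroup.subgroupOfEquivOfLe hle).toEquiv]
  exact Subgroup.card_dvd_of_le e3

theorem dvd_last (h : P.OK) {σ : ℕ → GL I (ZMod P.p)} {lc : ℕ → ℕ}
    (hl : ∀ c, P.Rep ε (σ c) (lc c)) {w v : ℕ} {L : List ℕ} {st : List (ℕ × ℕ)} [Finite (gen σ L)]
    (hc : chkLev P w lc L v st [] = true) : (st.length + 1) * 1 ∣ Nat.card (gen σ L) :=
  dvd_lev h (τ := fun _ => 1) (L' := []) hl (fun _ => h.rep_one) (by rw [gen_nil]; exact bot_le) hc
    (one_dvd _)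

theorem dvd_of_pow {G : Type*} [Group G] {σ : ℕ → G} {L w : List ℕ} {p : ℕ} (hp : p.Prime)
    (hw : (allL w fun c => memL c L) = true) (h : ev σ w ^ p = 1 ∧ ev σ w ≠ 1) :
    p ∣ Nat.card (gen σ L) := by
  have := Fact.mk hp
  rw [← orderOf_eq_prime h.1 h.2]
  exact Subgroup.orderOf_dvd_natCard _ (ev_mem_gen fun c hc => memL_true.1 (allL_true.1 hw c hc))

end H29
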