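import Mathlib
import Cfsg.Agent.H29.HB
import Cfsg.Agent.H29.HKX
import Cfsg.Agent.H29.Vec

set_option autoImplicit false
set_option maxRecDepth 100000
set_option Elab.async false
set_option linter.all false

namespace H29.HK

open H19 H9.MX

/-- The networks. -/
noncomputable abbrev nets : ℕ → Net := nth Net.nil HKM.nl
/-- The group `2.HS.2` on 1408 points. -/
abbrev K : Type := PG HKM.nl
/-- The letters. -/
noncomputable abbrev σ : ℕ → K := pe HKM.nl
/-- The action. -/
noncomputable abbrev ρ : K →* Equiv.Perm ℕ := (PG HKM.nl).subtype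
def L5 : List ℕ := [0, 1, 2, 3, 4]
def L11 : List ℕ := [0, 1, 2, 3, 4, 5, 6, 7, 8, 9, 10]
def dl : List ℕ := [2, 3, 5, 6, 7, 8, 9, 10]
def DK : List (List ℕ) := [[6, 1, 2, 0], [8, 2, 5, 3, 5], [10, 5, 5, 2, 6, 2, 2]]
theorem hiv : IvOK σ (ivOf HKM.ivl) := ivOK_sub _ HKM.hiv
theorem hR : ∀ r ∈ HKM.R0, ev σ r = 1 := rels_subE _ HKM.hR0
theorem hρ : ∀ c ∈ L11, ρ (σ c) = sg nets c := fun c _ => pe_rho _ c
theorem top11 : gen σ L11 = ⊤ := pe_top (by decide +kernel)
theorem ub5 : UB (ivOf HKM.ivl) HB.RH L5 177408000 := HB.ubH.ext (m := 5) (by decide +kernel)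
theorem le5 {G : Type*} [Group G] {e : ℕ → G} (hi : IvOK e (ivOf HKM.ivl))
    (h : ∀ r ∈ HKM.R0, ev e r = 1) : gen e L11 ≤ gen e L5 :=
  gen_le_addDefs (R := DK) (l := [0, 1, 2]) hi (rels_sub h (by decide +kernel)) (by decide +kernel)
theorem ub : UB (ivOf HKM.ivl) HKM.R0 L11 177408000 := fun _ _ _ hi h =>
  (ub5 _ _ hi (rels_sub h (by decide +kernel))).of_le (le5 hi h)
theorem top5 : gen σ L5 = ⊤ := top_unique (top11 ▸ le5 hiv hR)
theorem faithful (g : K) (h : ∀ i < 1408, ρ g i = i) : g = 1 := PG_faithful HKM.hn g h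
theorem card : Nat.card K = 177408000 :=
  (card_eq_of_chain HKX.hn ((ub _ _ hiv hR).of_top top11) (fun c _ => HKX.map (pe_rho _) c)
    (chkChain_cons HKX.ch0 HKX.chD) (by decide +kernel)).1
instance instFinK : Finite K := PG_finite HKM.hn
theorem cardD : 126000 ≤ Nat.card (gen σ dl) := (card_gen_pe _ _).symm ▸ HKX.cardD
theorem cm : CosetModel ρ (gen σ dl) 1408 :=
  cosetModel_of_card HKM.hn hρ top11 (by decide) (by decide +kernel) (reach_of_chk (r := 3) HKM.hn (by decide +kernel))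
    (gen_le.2 (fix_zero_of_chk HKM.hn (by decide +kernel)))
    (by rw [card]; exact le_trans (by decide) (Nat.mul_le_mul_left _ cardD))
/-- Letters satisfying the relators give a homomorphism. -/
theorem exists_hom {G : Type} [Group G] {e : ℕ → G} (hi : IvOK e (ivOf HKM.ivl))
    (h : ∀ r ∈ HKM.R0, ev e r = 1) : ∃ φ : K →* G, ∀ c ∈ L11, φ (σ c) = e c :=
  hom_of_tr (ub.tr (by decide +kernel) hiv hR (by rw [top11, Subgroup.card_top, card]) hi h) hiv hi
    (by decide +kernel) top11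

end H29.HK
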