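import Mathlib
import Cfsg.Prelude.Def_Spor_HN
import Cfsg.Agent.H29.Pres
import Cfsg.Agent.H29.HK
import Cfsg.Agent.H29.HNd1
import Cfsg.Agent.H29.HNd2

set_option autoImplicit false
set_option maxRecDepth 100000
set_option Elab.async false
set_option linter.all false

namespace H29.HNP

open H19
def idx : Cfsg.Spor.HN.Gen → ℕ
  | .x => 0
  | .y => 2
  | .z => 4
  | .t => 5
def P : PData Cfsg.Spor.HN.Gen := ⟨Cfsg.Spor.HN.edges, Cfsg.Spor.HN.extra, [.x, .y, .z, .t],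
  [(.x, true), (.x, false), (.y, true), (.y, false), (.z, true), (.t, true), (.t, false)], idx, [1, 0, 3, 2, 4, 6, 5]⟩
theorem coh : P.Coh := by decide +kernel
theorem hg : ∀ x, x ∈ P.gens := by intro x; cases x <;> decide
theorem hiv0 : IvOK P.e (ivOf [1, 0, 3, 2, 4, 6, 5]) := PData.ivOK coh
theorem hR : ∀ r ∈ P.relL, ev P.e r = 1 := PData.rels coh hg

def defs : List (List ℕ) := [[1, 2, 0], [2, 7, 3, 7], [7, 7, 2, 8, 2, 2], [5, 0, 0]]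
theorem hext : chkExt 7 defs P.ivl [1, 0, 3, 2, 4, 6, 5, 8, 7, 10, 9, 12, 11, 14, 13] = true := by decide +kernel
/-- The letters in the presented group. -/
noncomputable def e (c : ℕ) : P.G := extE P.e 7 defs (nth 15 [0, 1, 2, 3, 4, 7, 8, 9, 10, 11, 12, 13, 14, 5, 6] c)
theorem hiv : IvOK e (ivOf HKM.ivl) :=
  ivOK_relabel (ivOK_extE hiv0 hext) (by decide +kernel) (by decide) (by decide +kernel)
def R3 : List (List ℕ) := [[2, 2, 2, 2, 2, 2], [0, 0, 2, 0, 0, 3], [1, 3, 0, 2, 1, 3, 0, 2, 1, 3, 0, 2], [1, 2, 2, 0, 2, 2, 2, 1, 2, 2, 0, 2, 2, 2, 1, 2, 2, 0, 2, 2, 2], [0, 2, 0, 2, 0, 2, 0, 2, 0, 2, 0, 2, 0, 2, 0, 2], [0, 2, 0, 2, 2, 2, 0, 2, 0, 2, 2, 2, 0, 2, 0, 2, 2, 2, 0, 2, 0, 2, 2, 2], [4, 0, 4, 0], [4, 2, 1, 3, 3, 1, 3, 1, 3, 4, 2, 0, 2, 0, 2, 2, 0, 3, 1, 1], [4, 3, 1, 3, 1, 3, 3, 3, 4, 2, 2, 2, 0, 2, 0, 2, 0, 3, 1, 3, 1, 3, 3, 3, 4, 2, 2, 2, 0, 2, 0, 2, 0, 3, 1, 3,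 1, 3, 3, 3, 4, 2, 2, 2, 0, 2, 0, 2, 0], [6, 1, 2, 0], [8, 2, 5, 3, 5], [10, 5, 5, 2, 6, 2, 2], [12, 13, 0, 0], [13, 13, 13, 13, 13], [1, 13, 0, 13, 13], [14, 3, 13, 2], [4, 13, 4, 13, 4, 13]]
theorem hR3 : ∀ r ∈ R3, ev e r = 1 :=
  rels_relabel (e := extE P.e 7 defs) (m := nth 15 [0, 1, 2, 3, 4, 7, 8, 9, 10, 11, 12, 13, 14, 5, 6]) (rels_append (rels_extE hR (by decide +kernel)) (isExt_extE P.e (chkExt_wf hext)).rels) (by decide +kernel)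
theorem hD1 : ∀ r ∈ HNd1.R3, ev e r = 1 := HNd1.der _ e hiv (rels_sub hR3 (by decide +kernel))
theorem hD2 : ∀ r ∈ HNd2.R9, ev e r = 1 := HNd2.der _ e hiv (rels_sub (rels_append hR3 hD1) (by decide +kernel))
theorem e_lt (c : ℕ) (h : c < 5) : e c = P.e c := by
  have : ∀ c < 5, nth 15 [0, 1, 2, 3, 4, 7, 8, 9, 10, 11, 12, 13, 14, 5, 6] c = c := by decide +kernel
  rw [e, this c h, extE_lt _ _ _ (by omega)]
theorem e13 : e 13 = P.e 5 := extE_lt _ _ _ (by decide)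
theorem top0 : gen e [0, 2, 4, 13] = ⊤ := by
  rw [eq_top_iff, ← PData.gen_top coh hg (l := [0, 2, 4, 5]) (by decide +kernel), gen_le]
  simp only [List.forall_mem_cons]
  exact ⟨e_lt 0 (by decide) ▸ mem_gen (by simp), e_lt 2 (by decide) ▸ mem_gen (by simp),
    e_lt 4 (by decide) ▸ mem_gen (by simp), e13 ▸ mem_gen (by simp), by simp⟩
theorem top13 : gen e (List.range 13) = ⊤ := top_unique (top0 ▸
  gen_le_addDefs (R := [[13, 0, 0, 12]]) (l := [0]) hiv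
    (fun _ h => List.mem_singleton.1 h ▸ ev_rotW hiv (R := [[12, 13, 0, 0]]) (rels_sub hR3 (by decide +kernel)) 0 1 0) (by decide +kernel))
theorem exists_φ : ∃ φ : HK.K →* P.G, ∀ c ∈ HK.L11, φ (HK.σ c) = e c :=
  HK.exists_hom hiv (rels_sub hR3 (by decide +kernel))
/-- The map from `2.HS.2`. -/
noncomputable def φ : HK.K →* P.G := exists_φ.choose
theorem hφ : ∀ c < 11, φ (HK.σ c) = e c := fun c hc =>
  exists_φ.choose_spec c ((by decide +kernel : ∀ c < 11, c ∈ HK.L11) c hc)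
theorem range_φ : φ.range = gen P.e [0, 2, 4] := by
  rw [range_eq_gen (L := HK.L5) (σ := P.e) (fun c hc => by
    have : c < 5 := (by decide : ∀ c ∈ HK.L5, c < 5) c hc
    rw [hφ c (by omega), e_lt c this]) HK.top5]
  exact le_antisymm (gen_sub_iv hiv0 (by decide +kernel)) (gen_sub (by decide +kernel))
theorem map_xyz : (Subgroup.closure ({Cfsg.Spor.HN.x, Cfsg.Spor.HN.y, Cfsg.Spor.HN.z} :
    Set (FreeGroup Cfsg.Spor.HN.Gen))).map (PresentedGroup.mk (Cfsg.Spor.coxRelators Cfsg.Spor.HN.edges ∪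
      {r | r ∈ Cfsg.Spor.HN.extra})) = φ.range := by
  rw [range_φ]
  exact PData.map_closure coh hg
    (ws := [Cfsg.Spor.HN.x, Cfsg.Spor.HN.y, Cfsg.Spor.HN.z]) (by simp)
    (W := fun c => [c]) (by simp) (by decide +kernel)

end H29.HNP
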