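import Mathlib
import Cfsg.Agent.H29.HND.B
import Cfsg.Agent.H29.HNP
import Cfsg.Agent.H29.HND.C0
import Cfsg.Agent.H29.HND.C1

set_option autoImplicit false
set_option maxRecDepth 100000
set_option Elab.async false
set_option linter.all false

namespace H29.HND

open H19
/-- The generator `z`. -/
noncomputable def z : HNP.P.G := HNP.e 11
theorem giv : IvOK (fun c => HNP.φ (HK.σ c)) (ivOf HKM.ivl) := fun c => by
  simp only [HK.hiv c, map_inv]
theorem hz : HNP.e 11 * HNP.e 11 = ev HNP.e [] ∧ HNP.e 12 = ev HNP.e [] * HNP.e 11 :=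
  sq_of_rel (zl := 11) (ui := []) HNP.hiv (HNP.hD2 _ (by decide +kernel))
theorem hu : z * z = ev (fun c => HNP.φ (HK.σ c)) [] := hz.1
theorem hyp : D.Hyp HKV.C HK.σ HNP.φ z :=
  ⟨rfl, rfl, rfl, HKV.hl, al_of_rels (n := 11) (zl := 11) HNP.hiv HNP.hφ HNP.hD2 (by decide +kernel),
    good_tpls giv hu (base_rels (R := [[11, 0, 0, 11, 0, 0, 11, 0, 0, 11, 0, 0, 11, 0, 0], [11, 1, 11, 0, 0, 11, 0], [11, 0, 0, 4, 11, 0, 0, 4, 11, 0, 0, 4]]) (l := [0, 1, 2]) (B := BR) hz.2 HNP.hφ
      (rels_sub HNP.hD2 (by decide +kernel)) (by decide +kernel)) TO⟩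
theorem live : allL LV (D.chkLive 172 (LV.map DLive.j)) = true := allL_true.2 (List.forall_mem_cons.2 ⟨live0, (List.forall_mem_cons.2 ⟨live1, (List.forall_mem_cons.2 ⟨live2, (List.forall_mem_cons.2 ⟨live3, (List.forall_mem_cons.2 ⟨live4, (List.forall_mem_cons.2 ⟨live5, (List.forall_mem_cons.2 ⟨live6, (List.forall_mem_cons.2 ⟨live7, (List.forall_mem_cons.2 ⟨live8, (fun _ h => absurd h List.not_mem_nil)⟩)⟩)⟩)⟩)⟩)⟩)⟩)⟩)⟩)
/-- The sizes of the double cosets. -/
def nn : Fin 9 → ℕ := ![1, 1408, 35200, 2200, 123200, 354816, 739200, 277200, 5775]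
/-- The representatives of the double cosets. -/
noncomputable def rr (i : Fin 9) : HNP.P.G := D.rep (fun c => HNP.φ (HK.σ c)) z (LV.get i).j
/-- The stabilisers. -/
noncomputable def SS (i : Fin 9) : Subgroup HK.K := genW HK.σ (LV.get i).gw
theorem SS0 : SS 0 = ⊤ := top_unique (HK.top5 ▸ gen_le_genW HK.hiv (by decide +kernel))
theorem dcs : DCS HNP.φ rr SS nn := by
  refine DD.dcs (L := LV) hyp (((((((DD.upto_zero.next' hyp chk0).next' hyp chk1).next' hyp chk2).next' hyp chk3).next' hyp chk4).next' hyp chk5).next' hyp chk6) live (by decide)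
    (hu ▸ ⟨1, by simp⟩)
    (range_sup_eq_top HNP.hiv HNP.top13 HNP.hφ (by decide +kernel)) ?_ ?_
  · simp only [LV, List.forall_mem_cons]
    exact ⟨cover_of_nets HKM.hn HKM.hiv HK.cm HK.hρ (by decide +kernel) (by decide +kernel) cov0,
      cover_of_nets HKM.hn HKM.hiv HK.cm HK.hρ (by decide +kernel) (by decide +kernel) cov1,
      cover_of_nets HKM.hn HKM.hiv HK.cm HK.hρ (by decide +kernel) (by decide +kernel) cov2,
      cover_of_nets HKM.hn HKM.hiv HK.cm HK.hρ (by decide +kernel) (by decide +kernel) cov3,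
      cover_of_nets HKM.hn HKM.hiv HK.cm HK.hρ (by decide +kernel) (by decide +kernel) cov4,
      cover_of_nets HKM.hn HKM.hiv HK.cm HK.hρ (by decide +kernel) (by decide +kernel) cov5,
      cover_of_nets HKM.hn HKM.hiv HK.cm HK.hρ (by decide +kernel) (by decide +kernel) cov6,
      cover_of_nets HKM.hn HKM.hiv HK.cm HK.hρ (by decide +kernel) (by decide +kernel) cov7,
      cover_of_nets HKM.hn HKM.hiv HK.cm HK.hρ (by decide +kernel) (by decide +kernel) cov8,
      fun _ h => absurd h List.not_mem_nil⟩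
  · change ∀ i : Fin 9, Nat.card HK.K ≤ nn i * Nat.card (SS i)
    rw [HK.card, Fin.forall_fin_succ, Fin.forall_fin_succ, Fin.forall_fin_succ, Fin.forall_fin_succ, Fin.forall_fin_succ, Fin.forall_fin_succ, Fin.forall_fin_succ, Fin.forall_fin_succ, Fin.forall_fin_one]
    refine ⟨by rw [SS0, Subgroup.card_top, HK.card]; rfl, ?_, ?_, ?_, ?_, ?_, ?_, ?_, ?_⟩
    · exact le_trans (by decide) (Nat.mul_le_mul_left _ (HK.cardD.trans (Subgroup.card_le_of_le
        (gen_le_genW (ws := l1.gw) HK.hiv (by decide +kernel)))))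
    · exact le_trans (by decide) (Nat.mul_le_mul_left _ crd2)
    · exact le_trans (by decide) (Nat.mul_le_mul_left _ crd3)
    · exact le_trans (by decide) (Nat.mul_le_mul_left _ crd4)
    · exact le_trans (by decide) (Nat.mul_le_mul_left _ crd5)
    · exact le_trans (by decide) (Nat.mul_le_mul_left _ crd6)
    · exact le_trans (by decide) (Nat.mul_le_mul_left _ crd7)
    · exact le_trans (by decide) (Nat.mul_le_mul_left _ crd8)
theorem sum_nn : ∑ i, nn i = 1539000 := by decide
instance instFinHN : Finite HNP.P.G := dcs.finite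
theorem card_le : Nat.card HNP.P.G ≤ 273030912000000 := by
  have := dcs.card_le
  rwa [sum_nn, HK.card] at this
theorem core : (SS 1).normalCore = ⊥ :=
  le_bot_iff.1 ((HK.cm.normalCore_eq_bot HK.faithful) ▸ Subgroup.normalCore_mono
    (HK.cm.eq_stab ▸ genW_le_stab (ws := l1.gw) HKM.hn HK.hρ (by decide +kernel) (by decide +kernel)))

end H29.HND
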