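import Mathlib
import Cfsg.Agent.H29.HNV.B
import Cfsg.Agent.H29.HNV.C0
import Cfsg.Agent.H29.HNV.C1
import Cfsg.Agent.H29.HNV.C2
import Cfsg.Agent.H29.HNV.C3
import Cfsg.Agent.H29.HNV.C4
import Cfsg.Agent.H29.HNV.C5
import Cfsg.Agent.H29.HNV.C6

set_option autoImplicit false
set_option maxRecDepth 100000
set_option Elab.async false
set_option linter.all false

namespace H29.HNV

open H19
theorem ar0 : ∀ k, HM133.C.Rep (at0 k) (nth HM133.P.one ax0 k) :=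
  HM133.C.rep_wE' HM133.hl.1 (n := 4) ⟨by decide, by decide⟩ (lt_step (lt_step (lt_step (lt_step lt_base ac0_0) ac0_1) ac0_2) ac0_3)
theorem ar1 : ∀ k, HM133.C.Rep (at1 k) (nth HM133.P.one ax1 k) :=
  HM133.C.rep_wE' ar0 (n := 3) ⟨by decide, by decide⟩ (lt_step (lt_step (lt_step lt_base ac1_0) ac1_1) ac1_2)
theorem ar2 : ∀ k, HM133.C.Rep (at2 k) (nth HM133.P.one ax2 k) :=
  HM133.C.rep_wE' ar1 (n := 2) ⟨by decide, by decide⟩ (lt_step (lt_step lt_base ac2_0) ac2_1)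
theorem ad2 : 8 ∣ Nat.card (gen at2 [0, 1]) :=
  dvd_last HM133.Pok ar2 al2
theorem ad1 : 512 ∣ Nat.card (gen at1 [0, 1, 2]) :=
  dvd_lev HM133.Pok ar1 ar2 (gen_wE_le_gen _ (by decide +kernel) _) al1 ad2
theorem ad0 : 16384 ∣ Nat.card (gen at0 [0, 1, 2, 3]) :=
  dvd_lev HM133.Pok ar0 ar1 (gen_wE_le_gen _ (by decide +kernel) _) al0 ad1
theorem ad : 16384 ∣ Nat.card (gen HM133.σ [0, 1, 2, 3, 4, 5, 6]) :=
  ad0.trans (Subgroup.card_dvd_of_le (gen_wE_le_gen _ (by decide +kernel) _))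
theorem br0 : ∀ k, HM133.C.Rep (bt0 k) (nth HM133.P.one bx0 k) :=
  HM133.C.rep_wE' HM133.hl.1 (n := 3) ⟨by decide, by decide⟩ (lt_step (lt_step (lt_step lt_base bc0_0) bc0_1) bc0_2)
theorem br1 : ∀ k, HM133.C.Rep (bt1 k) (nth HM133.P.one bx1 k) :=
  HM133.C.rep_wE' br0 (n := 2) ⟨by decide, by decide⟩ (lt_step (lt_step lt_base bc1_0) bc1_1)
theorem bd1 : 9 ∣ Nat.card (gen bt1 [0, 1]) :=
  dvd_last HM133.Pok br1 bl1
theorem bd0 : 729 ∣ Nat.card (gen bt0 [0, 1, 2]) :=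
  dvd_lev HM133.Pok br0 br1 (gen_wE_le_gen _ (by decide +kernel) _) bl0 bd1
theorem bd : 729 ∣ Nat.card (gen HM133.σ [0, 1, 2, 3, 4, 5, 6]) :=
  bd0.trans (Subgroup.card_dvd_of_le (gen_wE_le_gen _ (by decide +kernel) _))
theorem cr0 : ∀ k, HM133.C.Rep (ct0 k) (nth HM133.P.one cx0 k) :=
  HM133.C.rep_wE' HM133.hl.1 (n := 2) ⟨by decide, by decide⟩ (lt_step (lt_step lt_base cc0_0) cc0_1)
theorem cr1 : ∀ k, HM133.C.Rep (ct1 k) (nth HM133.P.one cx1 k) :=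
  HM133.C.rep_wE' cr0 (n := 2) ⟨by decide, by decide⟩ (lt_step (lt_step lt_base cc1_0) cc1_1)
theorem cd1 : 125 ∣ Nat.card (gen ct1 [0, 1]) :=
  dvd_last HM133.Pok cr1 cl1
theorem cd0 : 15625 ∣ Nat.card (gen ct0 [0, 1]) :=
  dvd_lev HM133.Pok cr0 cr1 (gen_wE_le_gen _ (by decide +kernel) _) cl0 cd1
theorem cd : 15625 ∣ Nat.card (gen HM133.σ [0, 1, 2, 3, 4, 5, 6]) :=
  cd0.trans (Subgroup.card_dvd_of_le (gen_wE_le_gen _ (by decide +kernel) _))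
theorem card : 273030912000000 ≤ Nat.card (gen HM133.σ [0, 1, 2, 3, 4, 5, 6]) :=
  Nat.le_of_dvd Nat.card_pos (Dvd.dvd.trans (by norm_num)
    (Nat.lcm_dvd (Nat.lcm_dvd (Nat.lcm_dvd (Nat.lcm_dvd (Nat.lcm_dvd ad bd) cd)
      (dvd_of_pow (by norm_num) (by decide +kernel) p7)) (dvd_of_pow (by norm_num) (by decide +kernel) p11))
      (dvd_of_pow (by norm_num) (by decide +kernel) p19)))

end H29.HNV
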