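import Mathlib
import Cfsg.Agent.H29.HND
import Cfsg.Agent.H29.HNV

set_option autoImplicit false
set_option maxRecDepth 100000
set_option Elab.async false
set_option linter.all false

namespace H29.HN

open H19 HNP
theorem exists_ρ : ∃ ρ : P.G →* GL (Fin 133) (ZMod 5), ∀ c < P.lets.length, ρ (P.e c) = HM133.σ c :=
  PData.exists_hom coh hg HM133.hl.2 (rels_red HM133.hl.2 HM133.hR0 (by decide +kernel))
/-- The representation of degree 133. -/
noncomputable def ρ : P.G →* GL (Fin 133) (ZMod 5) := exists_ρ.choose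
theorem hρ (c : ℕ) : ρ (P.e c) = HM133.σ c := by
  by_cases hc : c < 7
  · exact exists_ρ.choose_spec c hc
  · rw [PData.e_eq_one (by change 7 ≤ c; omega), map_one]
    refine HM133.C.eq HM133.C.rep_one ?_
    have := HM133.hl.1 c
    rwa [HM133.lc, nth_default _ (by change 7 ≤ c; omega)] at this
theorem top7 : gen P.e [0, 1, 2, 3, 4, 5, 6] = ⊤ := PData.gen_top coh hg (by decide +kernel)
theorem card_and_inj : Nat.card P.G = 273030912000000 ∧ Function.Injective ρ := by
  have h1 : 273030912000000 ≤ Nat.card ρ.range :=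
    (range_eq_gen (fun c _ => hρ c) top7).symm ▸ HNV.card
  have h2 := Nat.card_le_card_of_surjective _ ρ.rangeRestrict_surjective
  have h3 := HND.card_le
  have h4 := (ρ.rangeRestrict_surjective.bijective_of_nat_card_le (h3.trans h1)).1
  exact ⟨by omega, fun a b e => h4 (Subtype.ext e)⟩
theorem card : Nat.card P.G = 273030912000000 := card_and_inj.1
theorem ρ_inj : Function.Injective ρ := card_and_inj.2
theorem hx : (∑ i, HND.nn i) * Nat.card HK.K ≤ Nat.card P.G := by rw [HND.sum_nn, HK.card, card]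
theorem index : φ.range.index = 1539000 := (HND.dcs.index_eq hx).trans HND.sum_nn
theorem φ_inj : Function.Injective φ := HND.dcs.injective hx
theorem pow_eq {w : List ℕ} {n : ℕ} (h : ev HM133.σ w ^ n = 1) : ev P.e w ^ n = 1 :=
  ρ_inj (by rw [map_pow, map_ev, funext hρ, h, map_one])
theorem simple : IsSimpleGroup P.G := by
  have : Nontrivial P.G := Finite.one_lt_card_iff_nontrivial.1 (by rw [card]; norm_num)
  refine ⟨fun M hM => (HND.dcs.normal_cases hx (i0 := 0) (DD.rep_zero _ _ _) HND.core
    (by decide +kernel) M).imp id fun h => ?_⟩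
  have h1 : ev P.e [3, 6, 4, 2, 2, 1] ∈ M :=
    mem_of_pow_eq_one (q := 19) (m := 14370048000000) (by rw [card])
      (Dvd.dvd.trans (by decide) h) (by norm_num) (pow_eq HNV.p19.1)
  have h2 : P.e 4 ∈ M :=
    mem_of_coprime h1 (m := 2) (n := 35) (by rw [sq, mul_eq_one_iff_eq_inv]; exact hiv0 4)
      (by simpa [mul_assoc] using pow_eq HNV.po.1) (by norm_num)
  have h3 : ∀ r ∈ P.relL ++ P.relL.map (invW (ivOf P.ivl)), ev P.e r = 1 := rels_append hR fun r hr => by
    obtain ⟨u, hu, rfl⟩ := List.mem_map.1 hr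
    rw [ev_invW (PData.ivOK coh), hR u hu, inv_one]
  refine eq_top_of_kill hiv0 (R := [[13, 13, 24], [9, 21], [3, 14, 18]].map fun l =>
    (pick (P.relL ++ P.relL.map (invW (ivOf P.ivl))) l).flatten) (fun r hr => ?_) top7
    (l := [(0, 0), (1, 0), (2, 0)]) (S := [4]) (by decide +kernel) M (by simpa using h2)
  obtain ⟨l, -, rfl⟩ := List.mem_map.1 hr
  exact ev_flatten (pick_rel h3 l)

end H29.HN
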