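import Mathlib
import Cfsg.Agent.H29.HA.B
import Cfsg.Agent.H29.HN
import Cfsg.Agent.H19.DCE6
import Cfsg.Prelude.Def_Sporadic
import Cfsg.Agent.H29.HA.C0
import Cfsg.Agent.H29.HA.C1

set_option autoImplicit false
set_option maxRecDepth 100000
set_option Elab.async false
set_option linter.all false

namespace H29.HA

open H19 HNP

theorem rep : ∀ k, HM133.C.Rep (wE HM133.σ ws k) (lc k) :=
  HM133.C.rep_wE' HM133.hl.1 (n := 11) ⟨by decide, by decide⟩ (lt_step (lt_step (lt_step (lt_step (lt_step (lt_step (lt_step (lt_step (lt_step (lt_step (lt_step lt_base c0) c1) c2) c3) c4) c5) c6) c7) c8) c9) c10)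
theorem hiv : IvOK (wE HM133.σ ws) (ivOf [1, 0]) := fun c => by
  have h := HM133.C.eqs rep hE
  have h0 : wE HM133.σ ws 0 * wE HM133.σ ws 1 = 1 := by simpa using h ([0, 1], []) (by decide)
  match c with
  | 0 => exact eq_inv_of_mul_eq_one_right h0
  | 1 => exact eq_inv_of_mul_eq_one_left h0
  | c + 2 =>
    change wE HM133.σ ws (c + 2) = _
    by_cases hc : c < 9
    · exact eq_inv_of_mul_eq_one_left (by
        simpa using h ([c + 2, c + 2], []) ((by decide : ∀ c < 9, ([c + 2, c + 2], []) ∈ E) c hc))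
    · rw [wE, nth_default _ (by change 11 ≤ _; omega), ev_nil, inv_one]
theorem hR : ∀ r ∈ Al.R, ev (wE HM133.σ ws) r = 1 := rels_sub (rels_append (rels_append (rels_append (rels_append (rels_append (HM133.C.rels rep hiv r0) (HM133.C.rels rep hiv r1)) (HM133.C.rels rep hiv r2)) (HM133.C.rels rep hiv r3)) (HM133.C.rels rep hiv r4)) (HM133.C.rels rep hiv r5)) (by decide +kernel)
theorem map (c : ℕ) : HN.ρ (wE P.e ws c) = wE HM133.σ ws c := by
  rw [map_wE_eq, funext HN.hρ]
theorem sub : Nonempty (gen (wE P.e ws) Al.L ≃* alternatingGroup (Fin 12)) := by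
  refine Al.exists_sub (fun c => HN.ρ_inj (by rw [map_inv, map, map, hiv c]))
    (fun r hr => HN.ρ_inj (by rw [map_ev, funext map, hR r hr, map_one])) fun h => ?_
  have h1 := rep 0
  rw [← map, h, map_one] at h1
  have h2 := hne
  rw [HM133.C.code_eq h1 HM133.C.rep_one] at h2
  exact absurd (H29.beq_true.2 rfl) (Bool.eq_false_iff.1 h2)
theorem exists_perm : ∃ H : Subgroup (Equiv.Perm (Fin 1140000)), Cfsg.IsHN H ∧
    MulAction.IsPretransitive H (Fin 1140000) ∧
    Nonempty (MulAction.stabilizer H (0 : Fin 1140000) ≃* alternatingGroup (Fin 12)) := by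
  obtain ⟨f⟩ := sub
  have := HN.simple
  have : Finite P.G := Nat.finite_of_card_ne_zero (by rw [HN.card]; omega)
  generalize gen (wE P.e ws) Al.L = A at f
  have h1 := A.index_mul_card
  obtain ⟨g⟩ := Al.iso
  rw [Nat.card_congr (f.trans g.symm).toEquiv, Al.card, HN.card] at h1
  have h2 : A.index = 1140000 :=
    Nat.eq_of_mul_eq_mul_right (by decide : 0 < 239500800) (h1.trans (by norm_num))
  obtain ⟨H, t, h3, ⟨u⟩⟩ := exists_perm_group _ h2
    ((Subgroup.normalCore_normal _).eq_bot_or_eq_top.resolve_right fun h => by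
      rw [top_unique (h ▸ Subgroup.normalCore_le _ : ⊤ ≤ A), Subgroup.index_top] at h2
      omega)
  exact ⟨H, ⟨t.symm.isSimpleGroup, by rw [← Nat.card_congr t.toEquiv, HN.card]⟩, h3, ⟨u.symm.trans f⟩⟩

end H29.HA
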