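import Mathlib
import Cfsg.Agent.H29.ON1.B
import Cfsg.Agent.H29.ON1.C0
import Cfsg.Agent.H29.ON1.C1

set_option autoImplicit false
set_option maxRecDepth 100000
set_option Elab.async false
set_option linter.all false

namespace H29.ON1

theorem der : Derives (ivOf ivl) R0 R0 := Derives.refl _ _
theorem hG0 : ∀ r ∈ G0, ev (sg (nth Net.nil nl)) r = 1 :=
  rels_of_chk (k := 17) hn (by decide) hiv (lt_step (lt_step (lt_step (lt_step (lt_step (lt_step (lt_step (lt_step (lt_step (lt_step (lt_step (lt_step (lt_step (lt_step (lt_step (lt_step (lt_step lt_base r0_0) r0_1) r0_2) r0_3) r0_4) r0_5) r0_6) r0_7) r0_8) r0_9) r0_10) r0_11) r0_12) r0_13) r0_14) r0_15) r0_16)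
theorem hR0 : ∀ r ∈ R0, ev (sg (nth Net.nil nl)) r = 1 := hG0
theorem col0 : T.ColOK 0 := TCData.colOK_of_chk (U := (Nat.lor (Nat.lor (T.mask0 0) v0_0) v0_1)) (V := (Nat.lor (Nat.lor (T.mask0 0) v0_0) v0_1)) hb (((T.cov_mask0 0).or cv0_0).or cv0_1) (((T.cov_mask0 0).or cv0_0).or cv0_1) (by decide +kernel)
theorem col1 : T.ColOK 1 := TCData.colOK_of_chk (U := (Nat.lor (Nat.lor (T.mask0 1) v1_0) v1_1)) (V := (Nat.lor (Nat.lor (T.mask0 1) v1_0) v1_1)) hb (((T.cov_mask0 1).or cv1_0).or cv1_1) (((T.cov_mask0 1).or cv1_0).or cv1_1) (by decide +kernel)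
theorem col2 : T.ColOK 2 := TCData.colOK_of_chk (U := (Nat.lor (Nat.lor (Nat.lor (Nat.lor (Nat.lor (T.mask0 2) v2_0) v2_1) v2_2) v2_3) v2_4)) (V := (Nat.lor (Nat.lor (Nat.lor (Nat.lor (Nat.lor (T.mask0 2) v2_0) v2_1) v2_2) v2_3) v2_4)) hb ((((((T.cov_mask0 2).or cv2_0).or cv2_1).or cv2_2).or cv2_3).or cv2_4) ((((((T.cov_mask0 2).or cv2_0).or cv2_1).or cv2_2).or cv2_3).or cv2_4) (by decide +kernel)
theorem col3 : T.ColOK 3 := TCData.colOK_of_chk (U := (Nat.lor (Nat.lor (Nat.lor (Nat.lor (Nat.lor (T.mask0 3) v3_0) v3_1) v3_2) v3_3) v3_4)) (V := (Nat.lor (Nat.lor (Nat.lor (Nat.lor (Nat.lor (T.mask0 3) v3_0) v3_1) v3_2) v3_3) v3_4)) hb ((((((T.cov_mask0 3).or cv3_0).or cv3_1).or cv3_2).or cv3_3).or cv3_4) ((((((T.cov_mask0 3).or cv3_0).or cv3_1).or cv3_2).or cv3_3).or cv3_4) (by decide +kernel)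
theorem col4 : T.ColOK 4 := TCData.colOK_of_chk (U := (Nat.lor (Nat.lor (Nat.lor (T.mask0 4) v4_0) v4_1) v4_2)) (V := (Nat.lor (Nat.lor (Nat.lor (T.mask0 4) v4_0) v4_1) v4_2)) hb ((((T.cov_mask0 4).or cv4_0).or cv4_1).or cv4_2) ((((T.cov_mask0 4).or cv4_0).or cv4_1).or cv4_2) (by decide +kernel)
theorem col5 : T.ColOK 5 := TCData.colOK_of_chk (U := (Nat.lor (T.mask0 5) v5_0)) (V := (Nat.lor (T.mask0 5) v5_0)) hb ((T.cov_mask0 5).or cv5_0) ((T.cov_mask0 5).or cv5_0) (by decide +kernel)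
theorem col6 : T.ColOK 6 := TCData.colOK_of_chk (U := (Nat.lor (Nat.lor (Nat.lor (T.mask0 6) v6_0) v6_1) v6_2)) (V := (Nat.lor (Nat.lor (Nat.lor (Nat.lor (T.mask0 7) v7_0) v7_1) v7_2) v7_3)) hb ((((T.cov_mask0 6).or cv6_0).or cv6_1).or cv6_2) (((((T.cov_mask0 7).or cv7_0).or cv7_1).or cv7_2).or cv7_3) (by decide +kernel)
theorem col7 : T.ColOK 7 := TCData.colOK_of_chk (U := (Nat.lor (Nat.lor (Nat.lor (Nat.lor (T.mask0 7) v7_0) v7_1) v7_2) v7_3)) (V := (Nat.lor (Nat.lor (Nat.lor (T.mask0 6) v6_0) v6_1) v6_2)) hb (((((T.cov_mask0 7).or cv7_0).or cv7_1).or cv7_2).or cv7_3) ((((T.cov_mask0 6).or cv6_0).or cv6_1).or cv6_2) (by decide +kernel)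
theorem ok : T.OK := ⟨hb, TCData.treeOK_of_chk hn (by decide +kernel), (List.forall_mem_cons.2 ⟨col0, (List.forall_mem_cons.2 ⟨col1, (List.forall_mem_cons.2 ⟨col2, (List.forall_mem_cons.2 ⟨col3, (List.forall_mem_cons.2 ⟨col4, (List.forall_mem_cons.2 ⟨col5, (List.forall_mem_cons.2 ⟨col6, (List.forall_mem_cons.2 ⟨col7, (fun _ h => absurd h List.not_mem_nil)⟩)⟩)⟩)⟩)⟩)⟩)⟩)⟩), der _ _ hiv hR0⟩
theorem bd {G : Type} [Group G] {e : ℕ → G} (h1 : IvOK e (ivOf ivl)) (h2 : ∀ r ∈ R0, ev e r = 1)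
    {m : ℕ} (h : Bd (gen e hcols) m) : Bd (gen e cols) (122760 * m) := ok.bd h1 (der G e h1 h2) h
theorem cm {G : Type} [Group G] {e : ℕ → G} (h1 : IvOK e (ivOf ivl)) (h2 : ∀ r ∈ R0, ev e r = 1)
    (h3 : gen e cols = ⊤) {ρ : G →* Equiv.Perm ℕ} (h4 : ∀ c, ρ (e c) = sg (nth Net.nil nl) c) :
    CosetModel ρ (gen e hcols) 122760 := ok.cosetModel h1 (der G e h1 h2) h3 fun c _ => h4 c

end H29.ON1
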