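import Mathlib
import Cfsg.Agent.H29.ONX.B
import Cfsg.Agent.H29.ONX.C0

set_option autoImplicit false
set_option maxRecDepth 100000
set_option Elab.async false
set_option linter.all false

namespace H29.ONX

theorem hE0 : ∀ r ∈ E0, ev (sg nx) r = 1 :=
  rels_of_chk (k := 17) hn (by decide) hiv (lt_step (lt_step (lt_step (lt_step (lt_step (lt_step (lt_step (lt_step (lt_step (lt_step (lt_step (lt_step (lt_step (lt_step (lt_step (lt_step (lt_step lt_base e0_0) e0_1) e0_2) e0_3) e0_4) e0_5) e0_6) e0_7) e0_8) e0_9) e0_10) e0_11) e0_12) e0_13) e0_14) e0_15) e0_16)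
theorem hdef : ∀ r ∈ defRels defs 8, ev (sg nx) r = 1 :=
  rels_sub (R := E0) hE0 (by decide +kernel)
theorem map {G : Type} [Group G] {e : ℕ → G} {ρ : G →* Equiv.Perm ℕ}
    (h : ∀ c, ρ (e c) = sg (nth Net.nil ON1.nl) c) : ∀ c, ρ (extE e 8 defs c) = sg nx c :=
  map_ext hext hiv hdef rfl rfl h
theorem wit : ∀ r ∈ [powW 31 [24], powW 2 [0], powW 7 [24, 0]], ev (sg nx) r = 1 :=
  rels_of_chk (k := 17) hn (by decide) hiv (lt_step (lt_step (lt_step (lt_step (lt_step (lt_step (lt_step (lt_step (lt_step (lt_step (lt_step (lt_step (lt_step (lt_step (lt_step (lt_step (lt_step lt_base wit0) wit1) wit2) wit3) wit4) wit5) wit6) wit7) wit8) wit9) wit10) wit11) wit12) wit13) wit14) wit15) wit16)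

end H29.ONX
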