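import Mathlib
import Cfsg.Agent.H29.Cert2
import Cfsg.Agent.H29.Cover
import Cfsg.Agent.H29.ONX
import Cfsg.Agent.H29.ONR
import Cfsg.Agent.H29.ON2
import Cfsg.Agent.H29.ON3
import Cfsg.Prelude.Def_Spor_ON

set_option autoImplicit false
set_option maxRecDepth 100000
set_option Elab.async false
set_option linter.all false

namespace H29.ON

def idx : Cfsg.Spor.ON.Gen → ℕ
  | .a => 0
  | .b => 1
  | .c => 2
  | .d => 3
  | .e => 4
  | .f => 5
  | .g => 6
def P : PData Cfsg.Spor.ON.Gen := ⟨Cfsg.Spor.ON.edges, Cfsg.Spor.ON.extra, [.a, .b, .c, .d, .e, .f, .g],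
  [(.a, true), (.b, true), (.c, true), (.d, true), (.e, true), (.f, true), (.g, true), (.g, false)], idx, [0, 1, 2, 3, 4, 5, 7, 6]⟩
theorem coh : P.Coh := by decide +kernel
theorem hg : ∀ x, x ∈ P.gens := by intro x; cases x <;> decide
theorem hiv0 : IvOK P.e (ivOf [0, 1, 2, 3, 4, 5, 7, 6]) := PData.ivOK coh
theorem hR : ∀ r ∈ P.relL, ev P.e r = 1 := PData.rels coh hg
theorem der {G : Type} [Group G] {e : ℕ → G} (h1 : IvOK e (ivOf ON1.ivl))
    (h2 : ∀ r ∈ ONR.R0, ev e r = 1) : ∀ r ∈ ON1.R0, ev e r = 1 :=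
  rels_sub (ONR.der _ _ h1 h2) (by decide +kernel)
theorem hR1 : ∀ r ∈ ON1.R0, ev P.e r = 1 := der hiv0 (rels_sub hR (by decide +kernel))
theorem hR2 : ∀ r ∈ ON1.R0 ++ [(pick ON1.R0 [19, 15, 15]).flatten], ev P.e r = 1 :=
  rels_append hR1 fun r hr => List.mem_singleton.1 hr ▸ ev_flatten (pick_rel hR1 _)
theorem top : gen P.e ON1.cols = ⊤ := PData.gen_top coh hg (by decide)
theorem ubH : UB (ivOf ON1.ivl) ON2.R0 ON2.cols 3753792 := fun _ _ _ h1 h2 =>
  ON2.bd h1 h2 (ON3.bd h1 (rels_sub h2 (by decide +kernel)) (bd_nil _))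
theorem bd : Finite P.G ∧ Nat.card P.G ≤ 460815505920 :=
  (ON1.bd hiv0 hR1 (ubH _ _ hiv0 (rels_sub hR (by decide +kernel)))).of_top top
theorem exists_rho : ∃ ρ : P.G →* Equiv.Perm ℕ, ∀ c, ρ (P.e c) = sg (nth Net.nil ON1.nl) c :=
  PData.exists_rho coh hg ON1.hiv (rels_sub ON1.hR0 (by decide +kernel)) (by decide)
/-- The action on the 122760 cosets. -/
noncomputable def ρ : P.G →* Equiv.Perm ℕ := exists_rho.choose
theorem hρ : ∀ c, ρ (P.e c) = sg (nth Net.nil ON1.nl) c := exists_rho.choose_spec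
theorem cm : CosetModel ρ (gen P.e ON1.hcols) 122760 := ON1.cm hiv0 hR1 top hρ
theorem card : Nat.card P.G = 460815505920 ∧ ∀ g : P.G, (∀ i < 122760, ρ g i = i) → g = 1 :=
  card_eq_of_chain ONX.hn bd (fun c _ => ONX.map hρ c) ONX.ch (by decide +kernel)
theorem simple : IsSimpleGroup P.G :=
  simple_of_cert (q := 31) (m := 14865016320) ONX.hn ONX.prim cm.toTrans (ONX.map hρ) card.2 card.1
    ONX.wit (ivOK_extE hiv0 ONX.hext) (rels_extE hR2 (by decide +kernel))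
    ((gen_extE _ _ (by decide)).trans top) (l := [(0, 0), (5, 0), (16, 0), (14, 0), (12, 0), (31, 0)]) (by decide +kernel) (by norm_num)
theorem cardH : Nat.card (gen P.e ON1.hcols) = 3753792 := cm.card_sub card.1

end H29.ON
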