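import Mathlib
import Cfsg.Agent.H29.Ext

set_option autoImplicit false
set_option maxRecDepth 100000
set_option Elab.async false
set_option linter.all false

namespace H29.HeR

def ivl : List ℕ := []
def R0 : List (List ℕ) := [[0, 1, 0, 1, 0, 1, 0, 1],
 [0, 2, 0, 2],
 [0, 3, 0, 3],
 [0, 4, 0, 4],
 [1, 2, 1, 2, 1, 2],
 [1, 3, 1, 3],
 [1, 4, 1, 4],
 [2, 3, 2, 3, 2, 3, 2, 3, 2, 3, 2, 3, 2, 3, 2, 3, 2, 3, 2, 3],
 [2, 4, 2, 4],
 [3, 4, 3, 4, 3, 4],
 [4, 2, 1, 0, 2, 1, 0, 2, 1, 0],
 [0, 3, 2, 3, 2, 3, 2, 3, 2, 3, 2]]
def w0 : List ℕ := [2, 3, 4, 2, 3, 4, 2, 3, 4, 2, 3, 4, 2, 3, 4]
def R1 : List (List ℕ) := R0 ++ [w0]
theorem hii : ∀ c, ivOf ivl (ivOf ivl c) = c := ivOf_ivOf (by decide +kernel)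
noncomputable def pr0 : List (ℕ × ℕ) := [(200, (nat_lit 0x700000100001200017900001100000700000100001200015900001100000700019a00016900019900000700000000000100000700000800018900000700000200007900009200015100009100000700000200011100000100001100004100005100005a0000070000080000010000070000000001590000070000010000220000e900002100000700000200000a00004a0000d900004900000700014200009900014100000700014200000100014100000700001d00000700001000002900000700000200008900000100000700001000001100000700000a0000690000090000070000020000410000010000070000080000010000070000000001090000070000010000320000b90000310000070000010000320000c90000310000070000da0000a90000d90000070000000000190000070000020000220000320000520000a200007a0000a100000700000a0000010000090000070000050000070000080000010000070000000000a900000700002200000100002100000700000d00000700000a00000100000900000700002500000700001000000100000700000800007900000700000100001a00001100001900000700006a00000100006900000700004500000700003500000700001000005100000700005500000700000200002900000100000700000000001100000700000a00000100000900000700001500000700000800001100000700000a00000100000900000700002d000007000010000001000007000020000001000007000018000001000007000010000001000007000020000001000007000018000001000007000010)),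
 (200, (nat_lit 0x700000800018100000700001a00029100001900000700000a0002b900000900000700000800000100000700002000000100000700001000015900000700000200012100013a0002e100013900000700000100003a00004a0002a100004900005a00010200000700000200002a0002890000290000b10000070000010000120002790000110000070000010000120002790000110000070001320001a100013100000700000800000100000700000000012100000700001000007100000700001a0000220001810000210000020000070000c20002090000c100000700000800000100000700001000003100000700000200023100000100000a00007a00000700001000006900000700000100005a0001f100005900000700000200000a00022a00000900002100002a00004100000700006100007200021100007100000700000800000100000700000000000100000700000800000700000a0001910000090000070000020001a90000010000070000080000010000070000000000070000010000520001a100005100000700024a0001890002490000070000080000010000070000000000310000070000010000120001a90000110000070000010000120000d90000110000070000620001a10000610000070000000000010000070000080000510000070000020001290000010000070000080000010000070000000001f900000700000100001a0001a100001900000700000100001a0001b100001900000700001a000191000019000007000000000001000007000008000001000007000000000001000007000018000001000007000020)),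
 (115, (nat_lit 0x70000010000070000020000070000020000070000010000070000010003da0000070000010003ba0000070000010003a200000700000200004200003900004100005200006a00009a0000e200024900027100031100000700004a00000200000900001100001a00038a00001900000700007a00033100007900000700001a00033900001900000700000a00036100000900000700000800000100000700002000000100000700001000005900000700005d0000070000080000010000070000000000090000070000020002c900000100000700000800000100000700000000002900000700000100001200035900001100000700000100001200033900001100000700001200034900001100000700000000000100000700000800000100000700001800003900000700000200000a00001900002100002a0002f2000029000007000182000279000181000007000002000291000001))]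
theorem p0 : chkProg 3 (ivOf ivl) R0 pr0 [(0, w0)] = true := by decide +kernel
theorem der : Derives (ivOf ivl) R0 R1 := (Derives.refl _ _).prog hii p0

end H29.HeR
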