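import Mathlib
import Cfsg.Agent.H29.Cert2
import Cfsg.Agent.H29.HeX
import Cfsg.Agent.H29.He1
import Cfsg.Agent.H29.He2
import Cfsg.Agent.H29.He4
import Cfsg.Agent.H29.HeR
import Cfsg.Prelude.Def_Spor_He

set_option autoImplicit false
set_option maxRecDepth 100000
set_option Elab.async false
set_option linter.all false

namespace H29.He

def idx : Cfsg.Spor.He.Gen → ℕ
  | .a => 0
  | .b => 1
  | .c => 2
  | .d => 3
  | .e => 4
  | .f => 5
  | .g => 6
def P : PData Cfsg.Spor.He.Gen := ⟨Cfsg.Spor.He.edges, Cfsg.Spor.He.extra, [.a, .b, .c, .d, .e, .f, .g],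
  [(.a, true), (.b, true), (.c, true), (.d, true), (.e, true), (.f, true), (.g, true)], idx, []⟩
theorem coh : P.Coh := by decide +kernel
theorem hg : ∀ x, x ∈ P.gens := by intro x; cases x <;> decide
theorem hiv0 : IvOK P.e (ivOf []) := PData.ivOK coh
theorem hR : ∀ r ∈ P.relL, ev P.e r = 1 := PData.rels coh hg
theorem hR1 : ∀ r ∈ P.relL ++ HeR.R1, ev P.e r = 1 :=
  rels_append hR (HeR.der _ _ hiv0 (rels_sub hR (by decide +kernel)))
theorem top : gen P.e He1.cols = ⊤ := PData.gen_top coh hg (by decide)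
theorem bdC : Bd (gen P.e He1.hcols) 80640 :=
  He2.bd hiv0 (rels_sub hR1 (by decide +kernel))
    (He4.bd hiv0 (rels_sub hR (by decide +kernel)) (bd_nil _))
theorem bd : Finite P.G ∧ Nat.card P.G ≤ 4030387200 :=
  (He1.bd hiv0 (rels_sub hR (by decide +kernel)) bdC).of_top top
def defs : List (List ℕ) := [[0, 1, 0, 1], [1, 2, 3, 4, 1, 2, 3, 4, 1, 2, 3, 4, 1, 2, 3, 4, 1, 2, 3, 4, 1, 2, 3, 4, 1, 2, 3, 4]]
theorem hext : chkExt 7 defs [] He5.ivl = true := by decide +kernel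
/-- The letters with the two extra subgroup generators. -/
noncomputable def e1 : ℕ → P.G := extE P.e 7 defs
theorem hiv1 : IvOK e1 (ivOf He5.ivl) := ivOK_extE hiv0 hext
theorem hRe : ∀ r ∈ (P.relL ++ HeR.R1) ++ defRels defs 7, ev e1 r = 1 :=
  rels_append (rels_extE hR1 (by decide +kernel)) (isExt_extE _ (chkExt_wf hext)).rels
theorem exists_rho : ∃ ρ : P.G →* Equiv.Perm ℕ, ∀ c, ρ (e1 c) = sg (nth Net.nil He5.nl) c :=
  PData.exists_rho_ext coh hg rfl hext He5.hiv (rels_sub He5.hR0 (by decide +kernel))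
    (by decide +kernel) (rels_sub He5.hR0 (by decide +kernel)) (by decide)
/-- The action on the 2058 cosets. -/
noncomputable def ρ : P.G →* Equiv.Perm ℕ := exists_rho.choose
theorem hρ : ∀ c, ρ (e1 c) = sg (nth Net.nil He5.nl) c := exists_rho.choose_spec
theorem top1 : gen e1 He1.cols = ⊤ := (gen_extE _ _ (by decide)).trans top
theorem cm : CosetModel ρ (gen e1 He5.hcols) 2058 :=
  He5.cm hiv1 (rels_sub hRe (by decide +kernel))
    (eq_top_iff.2 (top1.ge.trans (gen_sub (by decide)))) hρ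
theorem card : Nat.card P.G = 4030387200 ∧ ∀ g : P.G, (∀ i < 2058, ρ g i = i) → g = 1 :=
  card_eq_of_chain HeX.hn bd (fun c _ => HeX.map hρ c) HeX.ch (by decide +kernel)
theorem simple : IsSimpleGroup P.G :=
  simple_of_cert (q := 343) (m := 11750400) HeX.hn HeX.prim cm.toTrans (HeX.map hρ) card.2 card.1
    HeX.wit (ivOK_extE hiv1 HeX.hext) (rels_extE hRe (by decide +kernel))
    ((gen_extE _ _ (by decide)).trans top1) (l := [(15, 0), (16, 0), (17, 0), (37, 0), (6, 0), (22, 0)]) (by decide +kernel) (by norm_num)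
theorem sub_eq : (Subgroup.closure ({Cfsg.Spor.He.a, Cfsg.Spor.He.c, Cfsg.Spor.He.d, Cfsg.Spor.He.e, Cfsg.Spor.He.f, (Cfsg.Spor.He.a * Cfsg.Spor.He.b) ^ 2, (Cfsg.Spor.He.b * Cfsg.Spor.He.c * Cfsg.Spor.He.d * Cfsg.Spor.He.e) ^ 7} : Set (FreeGroup Cfsg.Spor.He.Gen))).map (PresentedGroup.mk (Cfsg.Spor.coxRelators Cfsg.Spor.He.edges ∪ {r | r ∈ Cfsg.Spor.He.extra})) = gen e1 He5.hcols :=
  PData.map_closure (P := P) coh hg (ws := [Cfsg.Spor.He.a, Cfsg.Spor.He.c, Cfsg.Spor.He.d, Cfsg.Spor.He.e, Cfsg.Spor.He.f, (Cfsg.Spor.He.a * Cfsg.Spor.He.b) ^ 2, (Cfsg.Spor.He.b * Cfsg.Spor.He.c * Cfsg.Spor.He.d * Cfsg.Spor.He.e) ^ 7]) (by simp)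
    (W := fun c => if c < 7 then [c] else nth [] defs ((c - 7) / 2)) (by
      simp only [He5.hcols, List.forall_mem_cons]
      refine ⟨?_, ?_, ?_, ?_, ?_, extE_def _ hext 0 (by decide), extE_def _ hext 1 (by decide), by simp⟩ <;>
        simp [e1, extE_lt]) (by decide +kernel)

end H29.He
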