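import Mathlib
import Cfsg.Agent.H29.Pres
import Cfsg.Agent.H29.SuzX
import Cfsg.Agent.H29.Suz2
import Cfsg.Agent.H29.Suz3
import Cfsg.Agent.H29.Suz4
import Cfsg.Agent.H29.Suz5
import Cfsg.Prelude.Def_Spor_Suz

set_option autoImplicit false
set_option maxRecDepth 100000
set_option Elab.async false
set_option linter.all false

namespace H29.Suz

def idx : Cfsg.Spor.Suz.Gen → ℕ
  | .a => 0
  | .b => 1
  | .c => 2
  | .d => 3
  | .e => 4
  | .f => 5
  | .g => 6
def P : PData Cfsg.Spor.Suz.Gen := ⟨Cfsg.Spor.Suz.edges, Cfsg.Spor.Suz.extra, [.a, .b, .c, .d, .e, .f, .g],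
  [(.a, true), (.b, true), (.c, true), (.d, true), (.e, true), (.f, true), (.g, true)], idx, []⟩
theorem coh : P.Coh := by decide +kernel
theorem hg : ∀ x, x ∈ P.gens := by intro x; cases x <;> decide
theorem hiv0 : IvOK P.e (ivOf []) := PData.ivOK coh
theorem hR : ∀ r ∈ P.relL, ev P.e r = 1 := PData.rels coh hg
theorem top : gen P.e Suz1.cols = ⊤ := PData.gen_top coh hg (by decide)
theorem bd : Finite P.G ∧ Nat.card P.G ≤ 448345497600 :=
  (Suz1.bd hiv0 (rels_sub hR (by decide +kernel)) (Suz2.bd hiv0 (rels_sub hR (by decide +kernel))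
    (Suz3.bd hiv0 (rels_sub hR (by decide +kernel)) (Suz4.bd hiv0 (rels_sub hR (by decide +kernel))
      (Suz5.bd hiv0 (rels_sub hR (by decide +kernel)) (bd_nil _)))))).of_top top
theorem exists_rho : ∃ ρ : P.G →* Equiv.Perm ℕ, ∀ c, ρ (P.e c) = sg (nth Net.nil Suz1.nl) c :=
  PData.exists_rho coh hg Suz1.hiv (rels_sub Suz1.hR0 (by decide +kernel)) (by decide)
/-- The action on the 1782 cosets. -/
noncomputable def ρ : P.G →* Equiv.Perm ℕ := exists_rho.choose
theorem hρ : ∀ c, ρ (P.e c) = sg (nth Net.nil Suz1.nl) c := exists_rho.choose_spec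
theorem cm : CosetModel ρ (gen P.e Suz1.hcols) 1782 :=
  Suz1.cm hiv0 (rels_sub hR (by decide +kernel)) top hρ
theorem card : Nat.card P.G = 448345497600 ∧ ∀ g : P.G, (∀ i < 1782, ρ g i = i) → g = 1 :=
  card_eq_of_chain SuzX.hn bd (fun c _ => SuzX.map hρ c) SuzX.ch (by decide +kernel)
theorem simple : IsSimpleGroup P.G :=
  simple_of_cert (q := 11) (m := 40758681600) SuzX.hn SuzX.prim cm.toTrans (SuzX.map hρ) card.2 card.1
    SuzX.wit (ivOK_extE hiv0 SuzX.hext) (rels_extE hR (by decide +kernel))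
    ((gen_extE _ _ (by decide)).trans top) (l := [(0, 0), (6, 0), (9, 0), (10, 0), (25, 0), (15, 0)]) (by decide +kernel) (by norm_num)

end H29.Suz
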