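import Mathlib
import Cfsg.Agent.H29.Quo2
import Cfsg.Agent.H9.HSGraph

/-!
# Graphs given by bit rows
-/

set_option autoImplicit false

namespace H29

/-- The graph with adjacency rows `adj`. -/
def bitG (N : ℕ) (adj : ℕ → ℕ) : SimpleGraph (Fin N) where
  Adj i j := i ≠ j ∧ (adj i).testBit j = true ∧ (adj j).testBit i = true
  symm := ⟨fun _ _ h => ⟨h.1.symm, h.2.2, h.2.1⟩⟩
  loopless := ⟨fun _ h => h.1 rfl⟩

/-- The rows describe a graph. -/
def RowsOK (N : ℕ) (adj : ℕ → ℕ) : Prop :=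
  ∀ i < N, Nat.shiftRight (adj i) N = 0 ∧
    ∀ j < N, (adj i).testBit j = true → i ≠ j ∧ (adj j).testBit i = true

instance (N : ℕ) (adj : ℕ → ℕ) : Decidable (RowsOK N adj) := by unfold RowsOK; infer_instance

variable {N : ℕ} {adj : ℕ → ℕ}

theorem RowsOK.adj_iff (h : RowsOK N adj) (i j : Fin N) :
    (bitG N adj).Adj i j ↔ (adj i).testBit j = true :=
  ⟨fun a => a.2.1, fun a => ⟨fun e => ((h i i.2).2 j j.2 a).1 (congrArg Fin.val e), a,
    ((h i i.2).2 j j.2 a).2⟩⟩

theorem lt_of_shr {V i : ℕ} (h : Nat.shiftRight V N = 0) (hi : V.testBit i = true) : i < N := by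
  by_contra h1
  have := congrArg (fun x => Nat.testBit x (i - N)) h
  simp only [shr_eq, Nat.testBit_shiftRight, Nat.zero_testBit] at this
  rw [show N + (i - N) = i by omega, hi] at this
  exact absurd this (by simp)

theorem ncard_fin {k V : ℕ} (hk : N ≤ 2 ^ k) (h : Nat.shiftRight V N = 0) :
    {w : Fin N | V.testBit w = true}.ncard = popc k V := by
  rw [popc_eq, ← Set.ncard_coe_finset, ← Set.ncard_image_of_injective _ Fin.val_injective]
  congr 1
  ext i
  simp only [Set.mem_image, Set.mem_ofPred_eq, Finset.coe_filter, Finset.mem_range]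
  exact ⟨fun ⟨j, h1, h2⟩ => h2 ▸ ⟨by omega, h1⟩, fun h1 => ⟨⟨i, lt_of_shr h h1.2⟩, h1.2, rfl⟩⟩

theorem RowsOK.srg (h : RowsOK N adj) {k d l m : ℕ} (hk : N ≤ 2 ^ k)
    (hc : ∀ i < N, popc k (adj i) = d ∧ ∀ j < N, i = j ∨
      popc k (Nat.land (adj i) (adj j)) = if (adj i).testBit j = true then l else m) :
    H9.SRG (bitG N adj) N d l m := by
  have key : ∀ i j : Fin N, i ≠ j → {u | (bitG N adj).Adj i u ∧ (bitG N adj).Adj j u}.ncard =
      if (adj i).testBit j = true then l else m := fun i j hij => by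
    rw [← ((hc i i.2).2 j j.2).resolve_left fun e => hij (Fin.ext e), ← ncard_fin hk]
    · simp [h.adj_iff, land_eq]
    · have := (h i i.2).1
      rw [shr_eq] at this ⊢
      rw [land_eq, Nat.shiftRight_and_distrib, this, Nat.zero_and]
  refine ⟨by simp, fun i => ?_, fun i j a => ?_, fun i j a b => ?_⟩
  · rw [← (hc i i.2).1, ← ncard_fin hk (h i i.2).1]
    simp [h.adj_iff]
  · rw [key i j a.ne, if_pos ((h.adj_iff i j).1 a)]
  · rw [key i j a, if_neg fun c => b ((h.adj_iff i j).2 c)]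

/-- Test: the letter `c` sends `i` to `img c i` and preserves the rows. -/
noncomputable def chkAut (N : ℕ) (adj : ℕ → ℕ) (nets : ℕ → Net) (L : List ℕ) (img : ℕ → ℕ → ℕ) :
    Bool :=
  allL L fun c => allN N fun i => and2 (sub (bit i) ((nets c).pull (bit (img c i))))
    (Nat.beq ((nets c).pull (adj (img c i))) (adj i))

theorem exists_aut (h : RowsOK N adj) {G : Type*} [Group G] {e : ℕ → G} {L : List ℕ}
    (htop : gen e L = ⊤) {ρ : G →* Equiv.Perm ℕ} {nets : ℕ → Net} (hn : NetsOK N nets)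
    (hρ : ∀ c ∈ L, ρ (e c) = sg nets c) {img : ℕ → ℕ → ℕ} (hc : chkAut N adj nets L img = true) :
    ∃ ψ : G →* (bitG N adj ≃g bitG N adj), (∀ g i, (ψ g i : ℕ) = ρ g i) ∧ ψ.ker = ρ.ker ∧
      ∀ c ∈ L, ∀ i : Fin N, (ψ (e c) i : ℕ) = img c i := by
  have h1 : ∀ c ∈ L, ∀ i < N, sg nets c i = img c i ∧
      ∀ j, (adj (img c i)).testBit (sg nets c j) = (adj i).testBit j := fun c a i b => by
    have := and2_true.1 (allN_true.1 (allL_true.1 hc c a) i b)
    refine ⟨?_, fun j => by rw [sg, ← Net.testBit_pull (hn c), beq_true.1 this.2]⟩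
    have h2 := sub_true this.1 (i := i) (by simp [testBit_bit])
    rw [Net.testBit_pull (hn c), testBit_bit, decide_eq_true_eq] at h2
    exact h2.symm
  have hfix : ∀ g, ∀ i, N ≤ i → ρ g i = i := fun g i hi =>
    fix_of_mem_gen (e := e) (l := L) (fun c a => by rw [hρ c a]; exact Net.perm_fix (hn c) hi)
      (htop ▸ Subgroup.mem_top g)
  have hlt : ∀ g, ∀ i < N, ρ g i < N := fun g i hi => lt_of_fix (hfix g) hi
  have hadj : ∀ g, ∀ i < N, ∀ j, (adj (ρ g i)).testBit (ρ g j) = (adj i).testBit j := fun g => by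
    have hg : g ∈ gen e L := htop ▸ Subgroup.mem_top g
    induction hg using Subgroup.closure_induction with
    | mem x hx =>
      obtain ⟨c, a, rfl⟩ := hx
      intro i hi j
      rw [hρ c a, (h1 c a i hi).1, (h1 c a i hi).2]
    | one => simp
    | mul x y _ _ hx hy =>
      intro i hi j
      rw [map_mul, Equiv.Perm.mul_apply, Equiv.Perm.mul_apply, hx _ (hlt y i hi), hy i hi]
    | inv x _ hx =>
      intro i hi j
      rw [← hx _ (hlt x⁻¹ i hi)]
      simp
  let ψ : G →* (bitG N adj ≃g bitG N adj) := MonoidHom.mk' (fun g =>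
    ⟨⟨fun i => ⟨ρ g i, hlt g i i.2⟩, fun i => ⟨ρ g⁻¹ i, hlt _ i i.2⟩, fun i => by simp,
      fun i => by simp⟩, fun {i j} => by
        simp only [h.adj_iff, Equiv.coe_fn_mk, hadj g i i.2]⟩) fun a b => by
      ext i
      simp [RelIso.mul_apply]
  refine ⟨ψ, fun _ _ => rfl, ?_, fun c a i => ?_⟩
  · ext g
    simp only [MonoidHom.mem_ker]
    constructor
    · intro a
      ext i
      by_cases hi : i < N
      · exact congrArg (fun (s : bitG N adj ≃g bitG N adj) => (s ⟨i, hi⟩ : ℕ)) a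
      · exact hfix g i (not_lt.1 hi)
    · intro a
      ext i
      change ρ g i = i
      rw [a]; rfl
  · change ρ (e c) i = _
    rw [hρ c a, (h1 c a i i.2).1]

theorem nonsplit_of_sq {G K : Type*} [Group G] [Group K] [Finite K] (f : G →* K)
    (hf : Function.Surjective f) (hK : Subgroup.center K = ⊥) (hc : Nat.card G = 2 * Nat.card K)
    (g : G) (h2 : g ^ 2 ≠ 1) (h4 : f (g ^ 2) = 1) : Cfsg.IsNonsplitDoubleCover G K := by
  have h1 : Nat.card f.ker = 2 := by
    have := f.ker.index_mul_card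
    rw [Subgroup.index_ker, MonoidHom.range_eq_top.2 hf, Subgroup.card_top, hc, mul_comm 2] at this
    exact Nat.eq_of_mul_eq_mul_left Nat.card_pos this
  have h3 : Subgroup.center G = f.ker := by
    refine le_antisymm (fun z hz => ?_) (le_center_of_card_two h1)
    rw [MonoidHom.mem_ker, ← Subgroup.mem_bot, ← hK, Subgroup.mem_center_iff]
    intro k
    obtain ⟨g, rfl⟩ := hf k
    rw [← map_mul, ← map_mul, Subgroup.mem_center_iff.1 hz]
  refine ⟨h3 ▸ h1, ⟨(QuotientGroup.quotientMulEquivOfEq h3).trans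
    (QuotientGroup.quotientKerEquivOfSurjective f hf)⟩, fun L hL => h2 ?_⟩
  exact Subgroup.disjoint_def.1 hL.disjoint (h3 ▸ h4)
    (Subgroup.sq_mem_of_index_two (by rw [hL.index_eq_card, h3, h1]) g)

end H29
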