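import Mathlib
import Cfsg.Agent.H18.K3Ch
import Cfsg.Agent.H12.K3U1
import Cfsg.Agent.H1.Wielandt
import Cfsg.Agent.H26.Abelem
import Cfsg.Agent.H23.T1

/-!
# A `2`-local section `L₃(2)`: the module has order eight
-/

set_option autoImplicit false
set_option linter.unusedSectionVars false
set_option linter.unusedVariables false

namespace H29.K3L

open Cfsg H24 H26 H26.Gold H23.TC Subgroup H18.K3

universe u

variable {G : Type u} [Group G] [Finite G] {p a b : ℕ} {Q L M P V W : Subgroup G} {x y g : G}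

theorem syl_count (hp : p.Prime) (h : Syl p M P) : N[P].relIndex M ≡ 1 [MOD p] := by
  have := Fact.mk hp
  obtain ⟨S, rfl⟩ := Syl.exists_sylow hp h
  have e := card_sylow_modEq_one p M
  rwa [S.card_eq_index_normalizer, ← Sylow.coe_coe, ← subgroupOf_map_subtype' (S : Subgroup M),
    ← subgroupOf_normalizer_eq (map_subtype_le' _)] at e

theorem ord_of_mem (hp : p.Prime) (hx : orderOf x = p) (hg : g ∈ zpowers x) (h1 : g ≠ 1) :
    orderOf g = p := by
  have := orderOf_dvd_card' hg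
  rw [card_zpowers', hx] at this
  exact ((Nat.dvd_prime hp).1 this).resolve_left fun e => h1 (orderOf_eq_one_iff.1 e)

theorem card_le_two (rk : H12.K3.Rk G) (hW : EA W) (hy : orderOf y = 3) (hc : W ≤ C{y}) :
    ♯W ≤ 2 := by
  by_cases h : W = ⊥
  · rw [h, card_bot]; omega
  obtain ⟨w, hw, w1⟩ := exists_ne_one h
  have : W ≤ zpowers w := fun v hv => by
    by_cases v1 : v = 1
    · rw [v1]; exact one_mem _
    · rw [rk y hy v (hc hv) w (hc hw) v1 (hW.sq hv) w1 (hW.sq hw) (hW.comm hv hw)]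
      exact mem_zpowers w
  have h2 := card_le_of_le this
  rwa [card_zpowers', ord2 w1 (hW.sq hw)] at h2

/-- the Frobenius group of order `21` acts only on groups of order `8` -/
theorem card8 (h : KT G 7 a b) (rk : H12.K3.Rk G) (hW : EA W) (h1 : W ≠ ⊥) (hx : orderOf x = 7)
    (hy : orderOf y = 3) (hn : y ∈ N[zpowers x]) (xW : x ∈ N[W]) (yW : y ∈ N[W]) : ♯W = 8 := by
  have p7 : Nat.Prime 7 := h.prime
  have o7 : IsPi {2}ᶜ (zpowers x) :=
    (piElt_of_orderOf_prime p7 hx).isPi.compl_of_ne (by decide)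
  have o3 : IsPi {2}ᶜ (zpowers y) :=
    (piElt_of_orderOf_prime Nat.prime_three hy).isPi.compl_of_ne (by decide)
  have hs : Semireg (zpowers x) (zpowers y) := fun g hg g1 => by
    rw [eq_bot_iff]
    intro u hu
    by_contra u1
    have h2 : g ∈ zpowers u := by
      rw [← h.cent_p (ord_of_mem p7 hx hu.1 u1)]; exact mem_C1_comm.1 hu.2
    have h3 := ord_of_mem p7 (ord_of_mem p7 hx hu.1 u1) h2 g1
    rw [ord_of_mem Nat.prime_three hy hg g1] at h3
    omega
  have e := H1.regular_Wielandt_fixpoint (zpowers_le.2 hn) hs (zpowers_le.2 xW) (zpowers_le.2 yW)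
    (hW.two.coprime (o7.sup o3 (zpowers_le.2 hn))) hW.abl.sol
  have b1 : W ⊓ C[zpowers x] = ⊥ := by
    rw [C_zpowers, h.cent_p hx]; exact hW.two.inf_eq_bot o7
  have b2 : W ⊓ C[zpowers x ⊔ zpowers y] = ⊥ :=
    eq_bot_iff.2 ((inf_le_inf_left _ (C_anti le_sup_left)).trans b1.le)
  rw [b1, b2, card_bot, card_zpowers', hy, one_pow, one_mul, mul_one] at e
  have h2 := card_le_two rk (hW.of_le (inf_le_left (b := C[zpowers y]))) hy
    (by rw [C_zpowers]; exact inf_le_right)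
  have h3 : 1 < ♯W := (one_lt_card_iff_ne_bot W).2 h1
  have h4 := card_pos (W ⊓ C[zpowers y])
  generalize ♯(W ⊓ C[zpowers y] : Subgroup G) = n at e h2 h4
  interval_cases n <;> omega

theorem two_C (h : KT G p a b) (rk : H12.K3.Rk G) (hV : EA V) (h4 : 2 < ♯V) : IsPi {2} C[V] := by
  intro r hr hd
  obtain ⟨g, hg, ho⟩ := exists_orderOf_eq hr hd
  have hVg : V ≤ C{g} := mem_C_iff_le_C1.1 hg
  have h1 : r ∣ p * 3 ^ a * 2 ^ b := h.card ▸ hd.trans (card_subgroup_dvd_card _)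
  rcases (Nat.Prime.dvd_mul hr).1 h1 with h2 | h2
  · exfalso
    rcases (Nat.Prime.dvd_mul hr).1 h2 with h3 | h3
    · rw [(Nat.prime_dvd_prime_iff_eq hr h.prime).1 h3] at ho
      rw [h.cent_p ho] at hVg
      have := hV.two.inf_eq_bot
        ((piElt_of_orderOf_prime h.prime ho).isPi.compl_of_ne h.ne2.symm)
      rw [inf_eq_left.2 hVg] at this
      rw [this, card_bot] at h4; omega
    · rw [(Nat.prime_dvd_prime_iff_eq hr Nat.prime_three).1 (hr.dvd_of_dvd_pow h3)] at ho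
      have := card_le_two rk hV ho hVg
      omega
  · exact (Nat.prime_dvd_prime_iff_eq hr Nat.prime_two).1 (hr.dvd_of_dvd_pow h2)

theorem exists_xy (h : KT G 7 a b) (hn : Q ⊴ L) (hQ : IsPi {2} Q) (cL : ♯L = ♯Q * 168) :
    ∃ x ∈ L, ∃ y ∈ L, orderOf x = 7 ∧ orderOf y = 3 ∧ y ∈ N[zpowers x] := by
  have p7 : Nat.Prime 7 := h.prime
  obtain ⟨x, hx, ox⟩ := exists_orderOf_eq p7 (H := L) (by rw [cL]; exact Dvd.dvd.mul_left (by decide) _)
  have hP : zpowers x ≤ L := zpowers_le.2 hx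
  have cP : ♯(zpowers x) = 7 := by rw [card_zpowers', ox]
  have q1 := H12.K3.p_dvd h hQ ox (hn.norm hx)
  have q0 := card_pos Q
  have hS : Syl 7 L (zpowers x) := Syl.mk' p7 hP (isPi_of_card_prime p7 cP) (by
    have := card_mul_relIndex hP
    rw [cP, cL] at this
    omega)
  have c1 := syl_count p7 hS
  have c2 := relIndex_C_dvd_pred p7 (inf_le_left (a := N[zpowers x]) (b := L)) cP
  have c3 := card_mul_relIndex (le_inf (norm_self _) hP)
  have c4 := card_inf_mul_relIndex N[zpowers x] L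
  rw [C_zpowers, h.cent_p ox] at c2
  rw [← c3, cP, cL] at c4
  have c5 : (zpowers x).relIndex (N[zpowers x] ⊓ L) = 3 := by
    generalize (zpowers x).relIndex (N[zpowers x] ⊓ L) = e at c2 c4
    unfold Nat.ModEq at c1
    have := Nat.le_of_dvd (by decide) c2
    interval_cases e <;> omega
  obtain ⟨y, hy, oy⟩ := exists_orderOf_eq Nat.prime_three (H := N[zpowers x] ⊓ L)
    (by rw [← c3, c5]; exact Dvd.intro_left _ rfl)
  exact ⟨x, hx, y, hy.2, ox, oy, hy.1⟩

theorem one (h : H18.K3.KT G p a b)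
    (rk : ∀ x : G, orderOf x = 3 → ∀ a ∈ C{x}, ∀ b ∈ C{x}, a ≠ 1 → a * a = 1 → b ≠ 1 → b * b = 1 →
      a * b = b * a → a = b) {Q L : Subgroup G} (hn : Q ⊴ L) (hQ : IsPi {2} Q) (h1 : Q ≠ ⊥)
    (cL : ♯L = ♯Q * 168) (hO : O[{2}, L] ≤ Q) :
    p = 7 ∧ ∃ V : Subgroup G, IsElementaryAbelian 2 V ∧ ♯V = 8 ∧ IsPi {2} C[V] ∧
      ♯N[V] = ♯C[V] * 168 ∧ (∀ u ∈ C[V], u ∈ C[C[V]] → u * u = 1 → u ∈ V) ∧
      ∃ x ∈ N[V], ∃ y ∈ N[V], orderOf x = 7 ∧ orderOf y = 3 ∧ y ∈ N[zpowers x] := by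
  have e7 : p = 7 := by
    have h7 : 7 ∣ p * 3 ^ a * 2 ^ b :=
      h.card ▸ (show 7 ∣ ♯L by rw [cL]; exact Dvd.dvd.mul_left (by decide) _).trans
        (card_subgroup_dvd_card _)
    have p7 : Nat.Prime 7 := by decide
    rcases (Nat.Prime.dvd_mul p7).1 h7 with h2 | h2
    · rcases (Nat.Prime.dvd_mul p7).1 h2 with h3 | h3
      · exact ((Nat.prime_dvd_prime_iff_eq p7 h.prime).1 h3).symm
      · exact absurd (p7.dvd_of_dvd_pow h3) (by decide)
    · exact absurd (p7.dvd_of_dvd_pow h2) (by decide)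
  subst e7
  refine ⟨rfl, ?_⟩
  obtain ⟨x, hx, y, hy, ox, oy, hxy⟩ := exists_xy h hn hQ cL
  have key : ∀ R : Subgroup G, IsPi {2} R → R ≠ ⊥ → L ≤ N[R] →
      EA (Om Z[R]) ∧ L ≤ N[Om Z[R]] ∧ ♯(Om Z[R]) = 8 := fun R h2 hR hL => by
    have ea := ea_Om (abl_center R)
    have hN : L ≤ N[Om Z[R]] := (norm_Z hL).trans (N_le_N_Om _)
    obtain ⟨z, hz, hc, z1, z2⟩ := two_cent h2 h2 (norm_self R) hR
    exact ⟨ea, hN, card8 h rk ea (ne_bot_of_mem (mem_Om' ⟨hz, hc⟩ z2) z1) ox oy hxy (hN hx) (hN hy)⟩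
  obtain ⟨ea, hN, c8⟩ := key Q hQ h1 hn.norm
  have hQC : Q ≤ C[Om Z[Q]] := cents_symm ((Om_le _).trans inf_le_right)
  generalize Om Z[Q] = V at ea hN c8 hQC
  have h2 : IsPi {2} C[V] := two_C h rk ea (by omega)
  refine ⟨V, ea, c8, h2, ?_, fun u hu hc u2 => ?_, x, hN hx, y, hN hy, ox, oy, hxy⟩
  · have e1 : C[V] ⊓ L = Q := le_antisymm
      ((pcore_max' (h2.of_le inf_le_left) inf_le_right
        (norm_inf (norm_C hN) (norm_self L))).trans hO) (le_inf hQC hn.le)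
    have e2 := card_inf_mul_relIndex C[V] L
    rw [e1, cL] at e2
    have e3 := Nat.eq_of_mul_eq_mul_left (card_pos Q) e2
    have e4 := relIndex_C_abelem_dvd p2 (le_refl N[V]) ea (n := 3) c8
    have e5 : (C[V]).relIndex L ≤ (C[V]).relIndex N[V] :=
      relIndex_le_of_le_right hN (relIndex_pos _ _).ne'
    have e6 : (C[V]).relIndex N[V] ≤ 168 := Nat.le_of_dvd (by decide) (by simpa [Fin.prod_univ_three] using e4)
    rw [← card_mul_relIndex (C_le_N V), show (C[V]).relIndex N[V] = 168 by omega]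
  · obtain ⟨-, -, c8'⟩ := key C[V] h2 (ne_bot_of_le h1 hQC) (norm_C hN)
    have hle : V ≤ Om Z[C[V]] := fun v hv =>
      mem_Om' ⟨ea.le_C hv, cents_symm le_rfl hv⟩ (ea.sq hv)
    rw [eq_of_card_ge hle (by omega)]
    exact mem_Om' ⟨hu, hc⟩ u2

end H29.K3L
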