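import Mathlib
import Cfsg.Agent.H29.Ext

set_option autoImplicit false
set_option maxRecDepth 100000
set_option Elab.async false
set_option linter.all false

namespace H29.M11s2

noncomputable def n3 : Net := ben 8 [(nat_lit 0x6e4a4f78d78792569228a4851d54c4548779),
 (nat_lit 0x7ca68e74525402e4eb6e87a19027c027f241),
 (nat_lit 0x9f9a2d1cc209f0419d8327458e2a9f724404),
 (nat_lit 0x7a840ab4718ca5d31b70aaf42824074002c),
 (nat_lit 0xd63efd8d80c988cfc64c7444024254d2),
 (nat_lit 0xd081371ee6a5b75e0000020350048541),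
 (nat_lit 0x971a00e9368cd0209718),
 (nat_lit 0x975b)]
noncomputable def t3 : List ℕ := [(nat_lit 0x104206893c660020048c8244106a4b700400),
 (nat_lit 0x706c07a8601560228080010d106a08188400),
 (nat_lit 0x702f27a9546b6003042c075022081a000000),
 (nat_lit 0x28010000000000000000000000000000000)]
noncomputable def d3 : ℕ := (nat_lit 0x8d1048508000188819537002010184844822)
noncomputable def n4 : Net := n3.rev
noncomputable def t4 : List ℕ := mapPull n4 t3
noncomputable def d4 : ℕ := (nat_lit 0x604135842c1a270486080060222261109104)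
noncomputable def n5 : Net := ben 8 [(nat_lit 0xba1cab5f2c59eace5b54154ebab1ae85e5ac),
 (nat_lit 0x56e66e2b8bfa0d9f81599ab8261f87800063),
 (nat_lit 0x2101b4e18bc3101407e65549649b4faa240b),
 (nat_lit 0x44bc780a8df02d123031c085a5b08180078),
 (nat_lit 0x19eafef5101e753d188c2a1c20006870),
 (nat_lit 0x208e3b7b2c000a6a0000208412586f84),
 (nat_lit 0xb6a24803011000e8bea),
 (nat_lit 0x2bee)]
noncomputable def t5 : List ℕ := [(nat_lit 0x5f65381028033034092b9822240011528400),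
 (nat_lit 0x3b6c5250a8072c0c1683007024a1a0400000),
 (nat_lit 0x7fad7b108003ac281fad8070200240000800),
 (nat_lit 0x801004004000000000000000000000000000)]
noncomputable def d5 : ℕ := (nat_lit 0x2802912e040402000038dd81c02282248)
noncomputable def n6 : Net := n5.rev
noncomputable def t6 : List ℕ := mapPull n6 t5
noncomputable def d6 : ℕ := (nat_lit 0x12ac02024105803340a48c1004c018430490)
def ivl : List ℕ := [0, 2, 1, 4, 3, 6, 5]
def cols : List ℕ := [3, 4, 5, 6]
def hcols : List ℕ := []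
def G0 : List (List ℕ) := [[3, 3, 3, 3, 3, 3, 3, 3],
 [5, 5, 5, 5, 5, 5],
 [3, 3, 3, 5, 4, 6, 6, 6],
 [3, 3, 6, 4, 6, 3, 6, 6]]
def R0 : List (List ℕ) := G0
theorem hii : ∀ c, ivOf ivl (ivOf ivl c) = c := ivOf_ivOf (by decide +kernel)
theorem der : Derives (ivOf ivl) R0 R0 := Derives.refl _ _
noncomputable def nl : List Net := [Net.nil, Net.nil, Net.nil, n3, n4, n5, n6]
noncomputable def T : TCData := ⟨144, 144, 8, 4, nth Net.nil nl, ivOf ivl, cols, hcols, R0,
  nth [] [[], [], [], t3, t4, t5, t6], nth 0 [0, 0, 0, d3, d4, d5, d6]⟩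
theorem hn : NetsOK 144 (nth Net.nil nl) := netsOK_of_all (by decide +kernel)
theorem hiv : IvOK (sg (nth Net.nil nl)) (ivOf ivl) :=
  ivOK_of_chk (k := 8) hn (by decide) (n := 7) (by decide) (by decide) (allN_true.1 (by decide +kernel))
theorem hb : T.Basic := TCData.basic_of_chk hn hiv (by decide +kernel)
theorem hG0 : ∀ r ∈ G0, ev (sg (nth Net.nil nl)) r = 1 :=
  rels_of_chk (k := 8) hn (by decide) hiv (allN_true.1 (by decide +kernel))
noncomputable def s3 : List TCData.Step := [.all 2 4 0,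
 .all 3 3 0]
noncomputable def s4 : List TCData.Step := [.all 0 0 0,
 .pts 2 0 0 2 [43],
 .pts 2 0 0 5 [16, 86, 94],
 .pts 2 0 0 7 [140],
 .all 2 1 0,
 .all 2 2 0,
 .all 3 0 0,
 .all 3 1 0,
 .pts 3 5 0 4 [52, 96, 135],
 .pts 3 5 0 5 [42, 71, 127],
 .pts 3 5 0 8 [137]]
noncomputable def s5 : List TCData.Step := [.all 2 5 0,
 .all 2 6 0,
 .pts 2 7 0 1 [59],
 .pts 2 7 0 6 [121],
 .all 3 2 0,
 .all 3 4 0,
 .pts 3 6 0 1 [49, 92],
 .pts 3 6 0 3 [65],
 .pts 3 6 0 5 [72, 75, 123, 138],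
 .pts 3 7 0 3 [22],
 .pts 3 7 0 4 [66, 95],
 .pts 3 7 0 6 [52, 126, 131]]
noncomputable def s6 : List TCData.Step := [.all 1 0 0,
 .all 2 3 0]
theorem hR0 : ∀ r ∈ R0, ev (sg (nth Net.nil nl)) r = 1 := hG0
theorem col3 : T.ColOK 3 := TCData.colOK_of_chk (U := (T.stepsMask 3 s3 (T.mask0 3))) (V := (T.stepsMask 4 s4 (T.mask0 4))) hb (TCData.cov_stepsMask hb (by decide) s3 _ (T.cov_mask0 3)) (TCData.cov_stepsMask hb (by decide) s4 _ (T.cov_mask0 4)) (by decide +kernel)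
theorem col4 : T.ColOK 4 := TCData.colOK_of_chk (U := (T.stepsMask 4 s4 (T.mask0 4))) (V := (T.stepsMask 3 s3 (T.mask0 3))) hb (TCData.cov_stepsMask hb (by decide) s4 _ (T.cov_mask0 4)) (TCData.cov_stepsMask hb (by decide) s3 _ (T.cov_mask0 3)) (by decide +kernel)
theorem col5 : T.ColOK 5 := TCData.colOK_of_chk (U := (T.stepsMask 5 s5 (T.mask0 5))) (V := (T.stepsMask 6 s6 (T.mask0 6))) hb (TCData.cov_stepsMask hb (by decide) s5 _ (T.cov_mask0 5)) (TCData.cov_stepsMask hb (by decide) s6 _ (T.cov_mask0 6)) (by decide +kernel)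
theorem col6 : T.ColOK 6 := TCData.colOK_of_chk (U := (T.stepsMask 6 s6 (T.mask0 6))) (V := (T.stepsMask 5 s5 (T.mask0 5))) hb (TCData.cov_stepsMask hb (by decide) s6 _ (T.cov_mask0 6)) (TCData.cov_stepsMask hb (by decide) s5 _ (T.cov_mask0 5)) (by decide +kernel)
theorem ok : T.OK := ⟨hb, TCData.treeOK_of_chk hn (by decide +kernel), (List.forall_mem_cons.2 ⟨col3, (List.forall_mem_cons.2 ⟨col4, (List.forall_mem_cons.2 ⟨col5, (List.forall_mem_cons.2 ⟨col6, (fun _ h => absurd h List.not_mem_nil)⟩)⟩)⟩)⟩), der _ _ hiv hR0⟩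
theorem bd {G : Type} [Group G] {e : ℕ → G} (h1 : IvOK e (ivOf ivl)) (h2 : ∀ r ∈ R0, ev e r = 1)
    {m : ℕ} (h : Bd (gen e hcols) m) : Bd (gen e cols) (144 * m) := ok.bd h1 (der G e h1 h2) h
theorem cm {G : Type} [Group G] {e : ℕ → G} (h1 : IvOK e (ivOf ivl)) (h2 : ∀ r ∈ R0, ev e r = 1)
    (h3 : gen e cols = ⊤) {ρ : G →* Equiv.Perm ℕ} (h4 : ∀ c, ρ (e c) = sg (nth Net.nil nl) c) :
    CosetModel ρ (gen e hcols) 144 := ok.cosetModel h1 (der G e h1 h2) h3 fun c _ => h4 c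

end H29.M11s2
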