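import Mathlib
import Cfsg.Agent.H29.Ext

set_option autoImplicit false
set_option maxRecDepth 100000
set_option Elab.async false
set_option linter.all false

namespace H29.M11s1

noncomputable def n0 : Net := ben 6 [(nat_lit 0x27f744f0cfcc7c),
 (nat_lit 0x5a10aab1112752),
 (nat_lit 0x60138e16220504),
 (nat_lit 0x1000500044),
 (nat_lit 0x4b008000a0),
 (nat_lit 0x80)]
noncomputable def t0 : List ℕ := [(nat_lit 0x284c00a4110131),
 (nat_lit 0x2bf3b718640006),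
 (nat_lit 0x2b5fb7a4506600),
 (nat_lit 0x40000000000000),
 (nat_lit 0x7b5ff7b4746000)]
noncomputable def d0 : ℕ := (nat_lit 0x4000041089080)
noncomputable def n1 : Net := ben 6 [(nat_lit 0x2a3e0b488dcb5d),
 (nat_lit 0x14251becc59841),
 (nat_lit 0x5552646b5ea504),
 (nat_lit 0xa9bc3d3570d8),
 (nat_lit 0x4002b4800d9e0),
 (nat_lit 0x56fd00)]
noncomputable def t1 : List ℕ := [(nat_lit 0x5c8860c216104c),
 (nat_lit 0x58d57060044674),
 (nat_lit 0x4cdd30a68b1f64),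
 (nat_lit 0x201a0040),
 (nat_lit 0x5cdd70c6815704)]
noncomputable def d1 : ℕ := (nat_lit 0x23028f00602002)
noncomputable def n2 : Net := n1.rev
noncomputable def t2 : List ℕ := mapPull n2 t1
noncomputable def d2 : ℕ := (nat_lit 0x50400010060008)
noncomputable def n3 : Net := ben 6 [(nat_lit 0x2a780019bf2e50),
 (nat_lit 0x13dc33e0b08070),
 (nat_lit 0x15a18e09b24182),
 (nat_lit 0x26b4a087100c),
 (nat_lit 0x36002c00003898),
 (nat_lit 0x264810)]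
noncomputable def t3 : List ℕ := [(nat_lit 0x7ce39c592114c6),
 (nat_lit 0x6d488e118090c6),
 (nat_lit 0x7dff9f09a20cd0),
 (nat_lit 0x2000011c40040),
 (nat_lit 0x7fff8e48601e10)]
noncomputable def d3 : ℕ := (nat_lit 0x6026104020)
noncomputable def n4 : Net := n3.rev
noncomputable def t4 : List ℕ := mapPull n4 t3
noncomputable def d4 : ℕ := (nat_lit 0x150008000200)
noncomputable def n5 : Net := ben 6 [(nat_lit 0xc003ab7e70333),
 (nat_lit 0x1220b26ea4bc4b),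
 (nat_lit 0x25ef488c81a202),
 (nat_lit 0x84a0c2cb00c6),
 (nat_lit 0x6402804000),
 (nat_lit 0x204380)]
noncomputable def t5 : List ℕ := [(nat_lit 0x2650ba65687088),
 (nat_lit 0x17457820504028),
 (nat_lit 0x37d3fb1d602600),
 (nat_lit 0x40000200340000),
 (nat_lit 0x77d7f85f4a7408)]
noncomputable def d5 : ℕ := (nat_lit 0x8280080800950)
noncomputable def n6 : Net := n5.rev
noncomputable def t6 : List ℕ := mapPull n6 t5
noncomputable def d6 : ℕ := (nat_lit 0x801000010404)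
def ivl : List ℕ := [0, 2, 1, 4, 3, 6, 5]
def cols : List ℕ := [0, 1, 2, 3, 4, 5, 6]
def hcols : List ℕ := [3, 4, 5, 6]
def G0 : List (List ℕ) := [[3, 3, 3, 3, 3, 3, 3, 3],
 [5, 5, 5, 5, 5, 5],
 [3, 3, 3, 5, 4, 6, 6, 6],
 [3, 3, 6, 4, 6, 3, 6, 6],
 [4, 2, 2, 0, 2, 2, 2, 2, 2],
 [6, 2, 2, 0, 1, 0, 2, 2, 2],
 [1, 1, 1, 1, 1, 1, 1, 1, 1, 1, 1],
 [0, 5, 0, 5],
 [0, 1, 0, 1, 5, 3, 6, 4, 1, 3, 1],
 [0, 3, 5, 3, 6],
 [0, 2, 4, 0, 3, 1, 6],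
 [0, 1, 1, 3, 5, 3, 0, 1, 3, 5],
 [0, 1, 1, 6, 1, 3, 5]]
def R0 : List (List ℕ) := G0
theorem hii : ∀ c, ivOf ivl (ivOf ivl c) = c := ivOf_ivOf (by decide +kernel)
theorem der : Derives (ivOf ivl) R0 R0 := Derives.refl _ _
noncomputable def nl : List Net := [n0, n1, n2, n3, n4, n5, n6]
noncomputable def T : TCData := ⟨55, 55, 6, 5, nth Net.nil nl, ivOf ivl, cols, hcols, R0,
  nth [] [t0, t1, t2, t3, t4, t5, t6], nth 0 [d0, d1, d2, d3, d4, d5, d6]⟩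
theorem hn : NetsOK 55 (nth Net.nil nl) := netsOK_of_all (by decide +kernel)
theorem hiv : IvOK (sg (nth Net.nil nl)) (ivOf ivl) :=
  ivOK_of_chk (k := 6) hn (by decide) (n := 7) (by decide) (by decide) (allN_true.1 (by decide +kernel))
theorem hb : T.Basic := TCData.basic_of_chk hn hiv (by decide +kernel)
theorem hG0 : ∀ r ∈ G0, ev (sg (nth Net.nil nl)) r = 1 :=
  rels_of_chk (k := 6) hn (by decide) hiv (allN_true.1 (by decide +kernel))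
noncomputable def s0 : List TCData.Step := [.pts 4 3 0 21 [26],
 .pts 5 3 0 16 [52],
 .pts 5 3 0 22 [33, 48],
 .all 7 0 0,
 .all 9 0 0,
 .pts 10 0 0 2 [2],
 .pts 10 0 0 22 [32],
 .pts 10 0 0 23 [46],
 .pts 10 3 0 2 [27],
 .pts 11 6 0 18 [28],
 .pts 11 6 0 22 [41],
 .pts 11 6 0 24 [54]]
noncomputable def s1 : List TCData.Step := [.pts 4 1 0 9 [20],
 .pts 4 1 0 21 [25],
 .pts 4 1 0 22 [9],
 .pts 4 4 0 13 [17],
 .pts 4 4 0 23 [47],
 .pts 4 6 0 20 [8],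
 .pts 4 7 0 3 [18],
 .pts 4 8 0 15 [6],
 .pts 4 8 0 19 [38],
 .pts 5 2 0 14 [29],
 .pts 5 2 0 18 [14],
 .pts 5 6 0 23 [37],
 .pts 5 7 0 19 [52],
 .pts 5 7 0 22 [46],
 .pts 5 8 0 20 [26],
 .pts 5 8 0 22 [42],
 .pts 5 8 0 23 [54],
 .pts 10 1 0 21 [50],
 .pts 10 1 0 23 [2]]
noncomputable def s2 : List TCData.Step := [.pts 5 4 0 20 [50],
 .pts 8 10 0 12 [5],
 .pts 10 5 0 6 [37],
 .pts 10 5 0 21 [9, 20],
 .pts 10 5 0 23 [24],
 .pts 11 7 0 22 [25],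
 .pts 12 1 0 1 [7],
 .pts 12 1 0 21 [30],
 .pts 12 1 0 22 [45],
 .pts 12 2 0 2 [1],
 .pts 12 2 0 19 [48],
 .pts 12 4 0 4 [36],
 .pts 12 4 0 20 [15],
 .pts 12 4 0 22 [47, 53]]
noncomputable def s3 : List TCData.Step := [.pts 2 4 0 20 [11],
 .pts 2 4 0 24 [22],
 .pts 3 3 0 21 [10, 21],
 .pts 4 0 0 4 [32],
 .pts 4 0 0 21 [41, 52],
 .pts 4 0 0 22 [33, 48],
 .pts 4 0 0 23 [51],
 .pts 8 7 0 7 [7],
 .pts 10 2 0 23 [39]]
noncomputable def s4 : List TCData.Step := [.pts 0 0 0 20 [28],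
 .pts 2 0 0 21 [26],
 .pts 2 1 0 8 [20],
 .pts 2 2 0 17 [8],
 .pts 2 2 0 21 [19],
 .pts 3 0 0 16 [12],
 .pts 3 0 0 23 [54],
 .pts 3 5 0 20 [5, 16],
 .all 9 1 0,
 .all 9 3 0,
 .pts 10 4 0 4 [7],
 .pts 10 4 0 15 [25],
 .pts 10 4 0 23 [36],
 .pts 10 4 0 24 [22],
 .pts 11 3 0 23 [46],
 .pts 11 5 0 3 [6],
 .pts 11 8 0 23 [38, 48],
 .pts 12 5 0 1 [13],
 .pts 12 5 0 15 [17],
 .pts 12 5 0 19 [15]]
noncomputable def s5 : List TCData.Step := [.pts 2 7 0 17 [19, 30],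
 .pts 2 7 0 20 [10],
 .pts 2 7 0 21 [44],
 .pts 3 4 0 18 [42],
 .pts 3 6 0 21 [24, 26],
 .pts 3 7 0 20 [28],
 .pts 5 0 0 4 [32],
 .pts 5 0 0 20 [41],
 .pts 5 0 0 21 [39],
 .pts 9 4 0 3 [29],
 .pts 9 4 0 16 [17, 25],
 .pts 10 6 0 13 [21],
 .pts 10 6 0 19 [3],
 .pts 10 6 0 23 [36, 49, 50],
 .all 12 3 0]
noncomputable def s6 : List TCData.Step := [.pts 1 0 0 19 [42],
 .pts 1 0 0 20 [45],
 .pts 1 0 0 24 [37],
 .pts 2 3 0 22 [9],
 .pts 7 1 0 1 [24],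
 .pts 7 1 0 2 [12],
 .pts 7 1 0 21 [11],
 .all 9 2 0,
 .pts 11 9 0 23 [38, 41]]
theorem hR0 : ∀ r ∈ R0, ev (sg (nth Net.nil nl)) r = 1 := hG0
theorem col0 : T.ColOK 0 := TCData.colOK_of_chk (U := (T.stepsMask 0 s0 (T.mask0 0))) (V := (T.stepsMask 0 s0 (T.mask0 0))) hb (TCData.cov_stepsMask hb (by decide) s0 _ (T.cov_mask0 0)) (TCData.cov_stepsMask hb (by decide) s0 _ (T.cov_mask0 0)) (by decide +kernel)
theorem col1 : T.ColOK 1 := TCData.colOK_of_chk (U := (T.stepsMask 1 s1 (T.mask0 1))) (V := (T.stepsMask 2 s2 (T.mask0 2))) hb (TCData.cov_stepsMask hb (by decide) s1 _ (T.cov_mask0 1)) (TCData.cov_stepsMask hb (by decide) s2 _ (T.cov_mask0 2)) (by decide +kernel)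
theorem col2 : T.ColOK 2 := TCData.colOK_of_chk (U := (T.stepsMask 2 s2 (T.mask0 2))) (V := (T.stepsMask 1 s1 (T.mask0 1))) hb (TCData.cov_stepsMask hb (by decide) s2 _ (T.cov_mask0 2)) (TCData.cov_stepsMask hb (by decide) s1 _ (T.cov_mask0 1)) (by decide +kernel)
theorem col3 : T.ColOK 3 := TCData.colOK_of_chk (U := (T.stepsMask 3 s3 (T.mask0 3))) (V := (T.stepsMask 4 s4 (T.mask0 4))) hb (TCData.cov_stepsMask hb (by decide) s3 _ (T.cov_mask0 3)) (TCData.cov_stepsMask hb (by decide) s4 _ (T.cov_mask0 4)) (by decide +kernel)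
theorem col4 : T.ColOK 4 := TCData.colOK_of_chk (U := (T.stepsMask 4 s4 (T.mask0 4))) (V := (T.stepsMask 3 s3 (T.mask0 3))) hb (TCData.cov_stepsMask hb (by decide) s4 _ (T.cov_mask0 4)) (TCData.cov_stepsMask hb (by decide) s3 _ (T.cov_mask0 3)) (by decide +kernel)
theorem col5 : T.ColOK 5 := TCData.colOK_of_chk (U := (T.stepsMask 5 s5 (T.mask0 5))) (V := (T.stepsMask 6 s6 (T.mask0 6))) hb (TCData.cov_stepsMask hb (by decide) s5 _ (T.cov_mask0 5)) (TCData.cov_stepsMask hb (by decide) s6 _ (T.cov_mask0 6)) (by decide +kernel)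
theorem col6 : T.ColOK 6 := TCData.colOK_of_chk (U := (T.stepsMask 6 s6 (T.mask0 6))) (V := (T.stepsMask 5 s5 (T.mask0 5))) hb (TCData.cov_stepsMask hb (by decide) s6 _ (T.cov_mask0 6)) (TCData.cov_stepsMask hb (by decide) s5 _ (T.cov_mask0 5)) (by decide +kernel)
theorem ok : T.OK := ⟨hb, TCData.treeOK_of_chk hn (by decide +kernel), (List.forall_mem_cons.2 ⟨col0, (List.forall_mem_cons.2 ⟨col1, (List.forall_mem_cons.2 ⟨col2, (List.forall_mem_cons.2 ⟨col3, (List.forall_mem_cons.2 ⟨col4, (List.forall_mem_cons.2 ⟨col5, (List.forall_mem_cons.2 ⟨col6, (fun _ h => absurd h List.not_mem_nil)⟩)⟩)⟩)⟩)⟩)⟩)⟩), der _ _ hiv hR0⟩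
theorem bd {G : Type} [Group G] {e : ℕ → G} (h1 : IvOK e (ivOf ivl)) (h2 : ∀ r ∈ R0, ev e r = 1)
    {m : ℕ} (h : Bd (gen e hcols) m) : Bd (gen e cols) (55 * m) := ok.bd h1 (der G e h1 h2) h
theorem cm {G : Type} [Group G] {e : ℕ → G} (h1 : IvOK e (ivOf ivl)) (h2 : ∀ r ∈ R0, ev e r = 1)
    (h3 : gen e cols = ⊤) {ρ : G →* Equiv.Perm ℕ} (h4 : ∀ c, ρ (e c) = sg (nth Net.nil nl) c) :
    CosetModel ρ (gen e hcols) 55 := ok.cosetModel h1 (der G e h1 h2) h3 fun c _ => h4 c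

end H29.M11s1
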