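import Mathlib
import Cfsg.Agent.H29.M11s1
import Cfsg.Agent.H29.Cert

set_option autoImplicit false
set_option maxRecDepth 100000
set_option Elab.async false
set_option linter.all false

namespace H29.M11sX

noncomputable def x7 : Net := ben 6 [(nat_lit 0x3f309be41ff0),
 (nat_lit 0x5a5aff900f05a0),
 (nat_lit 0x344021d033300),
 (nat_lit 0x11042500b4),
 (nat_lit 0x6e068006c0),
 (nat_lit 0x4e80)]
noncomputable def x9 : Net := ben 6 [(nat_lit 0x17e0fcb2c61c44),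
 (nat_lit 0x5aff1b0ff65a00),
 (nat_lit 0x1cc278433cc00),
 (nat_lit 0xa024e900c0),
 (nat_lit 0x2000a0e00deec),
 (nat_lit 0x20f00)]
noncomputable def x11 : Net := ben 6 [(nat_lit 0x21e37bdf4212b7),
 (nat_lit 0x510b5380503faa),
 (nat_lit 0x6242b963dd70c),
 (nat_lit 0x88a022d4e68),
 (nat_lit 0x7ea7801f34),
 (nat_lit 0x41afca)]
noncomputable def x13 : Net := ben 6 [(nat_lit 0x6606ee3314e56),
 (nat_lit 0x53f629f6387e5a),
 (nat_lit 0x43405e96770a8c),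
 (nat_lit 0xae33b5cf2c9a),
 (nat_lit 0x2000151a00c30c),
 (nat_lit 0x6bbf1a)]
noncomputable def ly : List Net := [x7, x9, x11, x13]
noncomputable def nx : ℕ → Net := nth Net.nil (M11s1.nl ++ dbl ly)
def ivx : List ℕ := [0, 2, 1, 4, 3, 6, 5, 8, 7, 10, 9, 12, 11, 14, 13]
def defs : List (List ℕ) := [[5, 3, 5, 4, 4, 5, 5, 5, 3],
 [4, 4, 6, 3, 8, 5, 8, 8, 6, 4, 5, 5, 8],
 [2, 4, 1],
 [5, 4, 4, 1]]
theorem hext : chkExt 7 defs M11s1.ivl ivx = true := by decide +kernel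
theorem hn : NetsOK 55 nx := netsOK_ext M11s1.hn (by decide +kernel)
theorem hiv : IvOK (sg nx) (ivOf ivx) := ivOK_ext M11s1.hiv hext rfl rfl
theorem hdef : ∀ r ∈ defRels defs 7, ev (sg nx) r = 1 :=
  rels_of_chk (k := 6) hn (by decide) hiv (allN_true.1 (by decide +kernel))
theorem ch : chkChain 55 6 nx [(0, 2, 55, [3, 4, 5, 6, 7, 9]),
 (1, 2, 36, [7, 9]),
 (23, 1, 4, [])] [0, 1, 2, 3, 4, 5, 6, 7, 9] = true := by decide +kernel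
theorem prim : Prim nx 55 [3, 4, 5, 6] [1, 11] := prim_of_chk (r1 := 3) (r2 := 3) hn (by decide +kernel)
theorem wit : ∀ r ∈ [powW 11 [13], powW 2 [0], powW 3 [13, 0]], ev (sg nx) r = 1 :=
  rels_of_chk (k := 6) hn (by decide) hiv (allN_true.1 (by decide +kernel))
def KR : List (List ℕ) := [[0, 2, 2, 0, 1, 1, 0, 1, 0, 2, 2, 0, 1, 1, 0, 1, 0, 2, 2, 0, 1, 1, 0, 1, 0, 2, 2, 0, 1, 1, 0, 1, 0, 2, 2, 0, 1, 1, 0, 1, 0, 2, 2, 0, 1, 1, 0, 1, 0, 2, 2, 0, 1, 1, 0, 1, 0, 2, 2, 0, 1, 1, 0, 1, 0, 2, 2, 0, 1, 1, 0, 1, 0, 2, 2, 0, 1, 1, 0, 1, 0, 2, 2, 0, 1, 1, 0, 1, 0, 2, 2, 0, 1, 1, 0, 1, 2, 2, 2, 2, 2, 2, 2, 2, 2, 2, 2], [4, 2, 2, 0, 2, 2, 2, 2, 2], [6, 2, 2, 0, 1, 0, 2, 2, 2]]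
theorem hKR : ∀ r ∈ KR, ev (sg nx) r = 1 :=
  rels_of_chk (k := 6) hn (by decide) hiv (allN_true.1 (by decide +kernel))
theorem map {G : Type} [Group G] {e : ℕ → G} {ρ : G →* Equiv.Perm ℕ}
    (h : ∀ c, ρ (e c) = sg (nth Net.nil M11s1.nl) c) : ∀ c, ρ (extE e 7 defs c) = sg nx c :=
  map_ext hext hiv hdef rfl rfl h

end H29.M11sX
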