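import Mathlib
import Cfsg.Agent.H16.K3T0
import Cfsg.Agent.H22.K3R4
import Cfsg.Agent.H26.GDefs

/-!
# The `2`-rank of `N(Q)/Q` when the socle is `A₅`
-/

set_option autoImplicit false
set_option linter.unusedSectionVars false

open Cfsg H24 H26 H26.Gold Subgroup H18.K3

namespace H29.K3

universe u

/-- the Klein four group in `A₅` -/
def V4 : Subgroup (alternatingGroup (Fin 5)) where
  carrier := {x | x.1 4 = 4 ∧ x * x = 1}
  one_mem' := ⟨rfl, mul_one _⟩
  mul_mem' := by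
    have : ∀ x y : Equiv.Perm (Fin 5), x 4 = 4 → y 4 = 4 → x * x = 1 → y * y = 1 →
        Equiv.Perm.sign x = 1 → Equiv.Perm.sign y = 1 → x * y * (x * y) = 1 := by decide +kernel
    rintro x y ⟨h1, h2⟩ ⟨h3, h4⟩
    exact ⟨by simp [h1, h3], Subtype.ext (this x y h1 h3 (congrArg Subtype.val h2)
      (congrArg Subtype.val h4) x.2 y.2)⟩
  inv_mem' := by
    rintro x ⟨h1, h2⟩
    rw [← eq_inv_of_mul_eq_one_left h2]; exact ⟨h1, h2⟩

theorem card_V4 : Nat.card V4 = 4 := by
  have e : V4 ≃ {x : Equiv.Perm (Fin 5) // Equiv.Perm.sign x = 1 ∧ x 4 = 4 ∧ x * x = 1} :=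
    ⟨fun x => ⟨x.1.1, x.1.2, x.2.1, congrArg Subtype.val x.2.2⟩,
      fun x => ⟨⟨x.1, x.2.1⟩, x.2.2.1, Subtype.ext x.2.2.2⟩, fun _ => rfl, fun _ => rfl⟩
  rw [Nat.card_congr e, Nat.card_eq_fintype_card]
  decide +kernel

theorem card_A5 : Nat.card (alternatingGroup (Fin 5)) = 60 := by
  rw [nat_card_alternatingGroup, Nat.card_fin]; rfl

theorem n2_A5 : Nat.card (Sylow 2 (alternatingGroup (Fin 5))) = 5 := by
  have i15 : V4.index = 15 := by
    have := V4.card_mul_index
    rw [card_V4, card_A5] at this; omega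
  let P : Sylow 2 (alternatingGroup (Fin 5)) :=
    (IsPGroup.of_card (n := 2) card_V4).toSylow (by rw [i15]; decide)
  let c : alternatingGroup (Fin 5) := ⟨Equiv.swap 0 1 * Equiv.swap 1 2,
    Equiv.Perm.mem_alternatingGroup.2 (by decide)⟩
  have hc : c ∈ normalizer (V4 : Set (alternatingGroup (Fin 5))) := by
    refine mem_normalizer_fintype fun n hn => ⟨?_, ?_⟩
    · have : n.1 4 = 4 := hn.1
      have h4 : (c⁻¹).1 4 = 4 := by decide
      have h5 : c.1 4 = 4 := by decide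
      show c.1 (n.1 ((c⁻¹).1 4)) = 4
      rw [h4, this, h5]
    · calc _ = c * (n * n) * c⁻¹ := by group
        _ = 1 := by rw [hn.2]; group
  have o3 : orderOf c = 3 := orderOf_eq_prime (by decide) (by decide)
  have d3 : 3 ∣ Nat.card (normalizer (V4 : Set (alternatingGroup (Fin 5)))) :=
    o3 ▸ orderOf_dvd_natCard _ hc
  have d4 : 4 ∣ Nat.card (normalizer (V4 : Set (alternatingGroup (Fin 5)))) :=
    card_V4 ▸ card_dvd_of_le le_normalizer
  obtain ⟨m, hm⟩ := Nat.Coprime.mul_dvd_of_dvd_of_dvd (by decide) d3 d4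
  have hi := (normalizer (V4 : Set (alternatingGroup (Fin 5)))).card_mul_index
  rw [P.card_eq_index_normalizer]
  show (normalizer (V4 : Set (alternatingGroup (Fin 5)))).index = 5
  rw [hm, card_A5] at hi
  have d5 : (normalizer (V4 : Set (alternatingGroup (Fin 5)))).index ∣ 5 :=
    Dvd.intro_left m (by rw [mul_assoc] at hi; omega)
  refine ((Nat.dvd_prime Nat.prime_five).1 d5).resolve_left fun h1 => ?_
  have hn : V4.Normal := normalizer_eq_top_iff.1 (index_eq_one.1 h1)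
  rcases hn.eq_bot_or_eq_top with e | e
  · have := card_V4; rw [e, card_bot] at this; omega
  · rw [e, index_top] at i15; omega

section
variable {L : Type u} [Group L] [Finite L] {φ : L →* alternatingGroup (Fin 5)}

theorem ker_le (h2 : IsPGroup 2 φ.ker) (P : Sylow 2 L) : φ.ker ≤ P := h2.le_sylow_of_normal P

theorem n2 (hs : Function.Surjective φ) (h2 : IsPGroup 2 φ.ker) : Nat.card (Sylow 2 L) = 5 := by
  rw [← n2_A5]
  refine Nat.card_eq_of_bijective (Sylow.mapSurjective hs) ⟨fun P R e => ?_,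
    Sylow.mapSurjective_surjective hs 2⟩
  have e' : P.1.map φ = R.1.map φ := congrArg Sylow.toSubgroup e
  refine Sylow.ext ?_
  rw [← comap_map_eq_self (ker_le h2 P), ← comap_map_eq_self (ker_le h2 R)]
  exact congrArg _ e'

theorem ker_act (hs : Function.Surjective φ) (h2 : IsPGroup 2 φ.ker) :
    (MulAction.toPermHom L (Sylow 2 L)).ker = φ.ker := by
  have hle : φ.ker ≤ (MulAction.toPermHom L (Sylow 2 L)).ker := fun x hx =>
    Equiv.ext fun P => Sylow.smul_eq_iff_mem_normalizer.2 (le_normalizer (ker_le h2 P hx))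
  have hn := (inferInstance : (MulAction.toPermHom L (Sylow 2 L)).ker.Normal).map φ hs
  rcases hn.eq_bot_or_eq_top with e | e
  · exact le_antisymm ((Subgroup.map_eq_bot_iff _).1 e) hle
  · have e' := comap_map_eq_self hle
    rw [e, comap_top] at e'
    have : Subsingleton (Sylow 2 L) := ⟨fun P R => by
      obtain ⟨g, rfl⟩ := MulAction.exists_smul_eq L P R
      exact (Equiv.congr_fun (e'.le (mem_top g)) P).symm⟩
    have h1 := Finite.card_le_one_iff_subsingleton.2 this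
    rw [n2 hs h2] at h1; omega

end

variable {G : Type u} [Group G] [Finite G] {Q L : Subgroup G}

theorem exists_hom {φ : L →* alternatingGroup (Fin 5)} (F : H16.K3T.Fm Q L φ) :
    ∃ ψ : N[Q] →* Equiv.Perm (Fin 5), ψ.ker = Q.subgroupOf N[Q] := by
  have h2 : IsPGroup 2 φ.ker := by
    rw [F.ker]
    exact (F.two.isPGroup Nat.prime_two).of_equiv (subgroupOfEquivOfLe F.QL).symm
  let ψ : N[Q] →* Equiv.Perm (Sylow 2 L) := (MulAction.toPermHom (MulAut L) (Sylow 2 L)).comp
    (L.normalizerMonoidHom.comp (inclusion F.nml.2))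
  have key : ∀ l : L, (⟨l, F.nml.1 l.2⟩ : N[Q]) ∈ ψ.ker ↔ (l : G) ∈ Q := by
    intro l
    rw [← mem_subgroupOf, ← F.ker, ← ker_act F.sur h2]
    exact Iff.rfl
  have hk : ψ.ker = Q.subgroupOf N[Q] := by
    refine le_antisymm (fun (g : N[Q]) hg => F.cen g g.2 fun l hl => ?_) fun q hq => (key ⟨q, F.QL hq⟩).2 hq
    have m : g.1 * l * g.1⁻¹ * l⁻¹ ∈ L :=
      mul_mem ((mem_normalizer_iff.1 (F.nml.2 g.2) l).1 hl) (inv_mem hl)
    refine (key ⟨_, m⟩).1 ?_
    have := mul_mem hg ((inferInstance : ψ.ker.Normal).conj_mem _ (inv_mem hg) ⟨l, F.nml.1 hl⟩)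
    convert this using 1
    exact Subtype.ext (by simp [mul_assoc])
  let e : Sylow 2 L ≃ Fin 5 := Finite.equivFinOfCardEq (n2 F.sur h2)
  refine ⟨e.permCongrHom.toMonoidHom.comp ψ, ?_⟩
  rw [← hk]
  exact MonoidHom.ker_comp_of_injective _ _ e.permCongrHom.injective

theorem rk5 {a b : ℕ} (_h : KT G 5 a b) {φ : L →* alternatingGroup (Fin 5)} (F : H16.K3T.Fm Q L φ) :
    ∀ E, E ≤ N[Q] → EA E → ♯E ≤ 4 * ♯(E ⊓ Q) := by
  obtain ⟨ψ, hk⟩ := exists_hom F
  exact fun E hE he => H22.K3.rk_of_hom ψ hk hE fun x hx => by simpa [pow_two] using he.2 x hx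

end H29.K3
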