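import Mathlib
import Cfsg.Agent.H20.PAU

/-! Automorphisms of odd order of `SL₂(F)` act on a quaternion pair as inner ones. -/

set_option autoImplicit false
set_option linter.unusedVariables false
set_option linter.unusedSectionVars false

namespace H29.P4A

open Matrix H20.P4
open scoped MatrixGroups

variable {F : Type*} [Field F] [Fintype F]

/-- quaternion pairs -/
def QP (i j : SL(2, F)) : Prop := i * i = -1 ∧ j * j = -1 ∧ i * j = -(j * i)

/-- conjugate pairs -/
def Rel (i j i' j' : SL(2, F)) : Prop := ∃ c : SL(2, F), c * i * c⁻¹ = i' ∧ c * j * c⁻¹ = j'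

theorem Rel.symm {i j i' j' : SL(2, F)} (h : Rel i j i' j') : Rel i' j' i j := by
  obtain ⟨c, rfl, rfl⟩ := h
  exact ⟨c⁻¹, by group, by group⟩

theorem Rel.trans {i j i' j' i'' j'' : SL(2, F)} (h : Rel i j i' j') (h' : Rel i' j' i'' j'') :
    Rel i j i'' j'' := by
  obtain ⟨c, rfl, rfl⟩ := h
  obtain ⟨d, rfl, rfl⟩ := h'
  exact ⟨d * c, by group, by group⟩

theorem Rel.map {i j i' j' : SL(2, F)} (h : Rel i j i' j') (α : MulAut SL(2, F)) :
    Rel (α i) (α j) (α i') (α j') := by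
  obtain ⟨c, rfl, rfl⟩ := h
  exact ⟨α c, by simp, by simp⟩

theorem map_neg_one (hF : Odd (Fintype.card F)) (α : MulAut SL(2, F)) : α (-1) = -1 := by
  have h2 := H7.two_ne_zero_of_odd_card hF
  have h : α (-1) * α (-1) = 1 := by rw [← map_mul]; simp
  rcases PAUx.inv_eq h h2 with e | e
  · exfalso
    have e' : (-1 : SL(2, F)) = 1 := α.injective (by rw [e, map_one])
    have := congrArg (fun a : SL(2, F) => a.1 0 0) e'
    simp at this
    exact h2 (by linear_combination -this)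
  · exact e

theorem QP.map (hF : Odd (Fintype.card F)) {i j : SL(2, F)} (h : QP i j) (α : MulAut SL(2, F)) :
    QP (α i) (α j) := by
  obtain ⟨h1, h2, h3⟩ := h
  refine ⟨by rw [← map_mul, h1, map_neg_one hF], by rw [← map_mul, h2, map_neg_one hF], ?_⟩
  rw [← map_mul, h3, ← neg_one_mul, map_mul, map_neg_one hF, map_mul, neg_one_mul]

theorem gl0 (hF : Odd (Fintype.card F)) {i j j' : SL(2, F)} (h : QP i j) (h' : QP i j') :
    ∃ g : Matrix (Fin 2) (Fin 2) F, g.det ≠ 0 ∧ g * i.1 = i.1 * g ∧ g * j.1 = j'.1 * g := by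
  have h2 := H7.two_ne_zero_of_odd_card hF
  have hI := PAUx.sq_val h.1
  have hJ := PAUx.sq_val h.2.1
  have hJ' := PAUx.sq_val h'.2.1
  have hIJ : i.1 * j.1 = -(j.1 * i.1) := congrArg Subtype.val h.2.2
  have hIJ' : i.1 * j'.1 = -(j'.1 * i.1) := congrArg Subtype.val h'.2.2
  have hc : i.1 * (-(j'.1 * j.1)) = (-(j'.1 * j.1)) * i.1 := by
    rw [mul_neg, ← mul_assoc, hIJ', neg_mul, mul_assoc, hIJ]
    simp [mul_assoc]
  obtain ⟨x, y, e⟩ := PAUx.comm_form h.1 h2 hc
  have hd : x * x + y * y = 1 := by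
    rw [← PAUx.det_comb h.1, ← e, det_neg, det_mul, j.2, j'.2]; simp
  by_cases hx : 1 + x = 0
  · have hx' : x = -1 := by linear_combination hx
    have hy : y = 0 := by
      have : y * y = 0 := by rw [hx'] at hd; linear_combination hd
      exact mul_self_eq_zero.1 this
    rw [hx', hy] at e
    have e1 : j'.1 * j.1 = 1 := by simpa using e
    have e2 : j'.1 = -j.1 := by
      have := congrArg (· * j.1) e1
      simp only [mul_assoc, hJ, mul_neg, mul_one, one_mul] at this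
      rw [← this, neg_neg]
    exact ⟨i.1, by rw [i.2]; exact one_ne_zero, rfl, by rw [hIJ, e2, neg_mul]⟩
  · refine ⟨1 + -(j'.1 * j.1), ?_, ?_, ?_⟩
    · have : 1 + -(j'.1 * j.1) = (1 + x) • (1 : Matrix (Fin 2) (Fin 2) F) + y • i.1 := by
        rw [e, add_smul, one_smul, add_assoc]
      rw [this, PAUx.det_comb h.1]
      intro h0
      apply mul_ne_zero h2 hx
      linear_combination h0 - hd
    · rw [add_mul, mul_add, hc, one_mul, mul_one]
    · rw [add_mul, mul_add, neg_mul, mul_neg, mul_assoc, hJ, ← mul_assoc, hJ']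
      simp [add_comm]

theorem gl (hF : Odd (Fintype.card F)) {i j i' j' : SL(2, F)} (h : QP i j) (h' : QP i' j') :
    ∃ g : Matrix (Fin 2) (Fin 2) F, g.det ≠ 0 ∧ g * i.1 = i'.1 * g ∧ g * j.1 = j'.1 * g := by
  obtain ⟨c, hc⟩ := isConj_iff.1 (conj_four hF h.1 h'.1)
  have h1 : QP i' (c * j * c⁻¹) := by
    have := h.map hF (MulAut.conj c)
    simpa only [MulAut.conj_apply, hc] using this
  obtain ⟨g, g0, g1, g2⟩ := gl0 hF h1 h'
  have e1 : c.1 * i.1 = i'.1 * c.1 :=
    congrArg Subtype.val (show c * i = i' * c by rw [← hc]; group)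
  have e2 : c.1 * j.1 = (c * j * c⁻¹).1 * c.1 :=
    congrArg Subtype.val (show c * j = (c * j * c⁻¹) * c by group)
  refine ⟨g * c.1, by rw [det_mul, c.2, mul_one]; exact g0, ?_, ?_⟩
  · rw [mul_assoc, e1, ← mul_assoc, g1, mul_assoc]
  · rw [mul_assoc, e2, ← mul_assoc, g2, mul_assoc]

theorem rel_of_sq {i j i' j' : SL(2, F)} {g : Matrix (Fin 2) (Fin 2) F} (g0 : g.det ≠ 0)
    (hs : IsSquare g.det) (g1 : g * i.1 = i'.1 * g) (g2 : g * j.1 = j'.1 * g) : Rel i j i' j' := by
  obtain ⟨l, hl⟩ := hs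
  have l0 : l ≠ 0 := fun e => g0 (by rw [hl, e, mul_zero])
  let c : SL(2, F) := ⟨l⁻¹ • g, by
    rw [det_smul, hl, Fintype.card_fin]; field_simp⟩
  refine ⟨c, ?_, ?_⟩
  · rw [mul_inv_eq_iff_eq_mul]
    exact Subtype.ext (show (l⁻¹ • g) * i.1 = i'.1 * (l⁻¹ • g) by
      rw [smul_mul_assoc, mul_smul_comm, g1])
  · rw [mul_inv_eq_iff_eq_mul]
    exact Subtype.ext (show (l⁻¹ • g) * j.1 = j'.1 * (l⁻¹ • g) by
      rw [smul_mul_assoc, mul_smul_comm, g2])

theorem three (hF : Odd (Fintype.card F)) {i j i' j' i'' j'' : SL(2, F)} (h : QP i j)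
    (h' : QP i' j') (h'' : QP i'' j'') : Rel i' j' i j ∨ Rel i j i'' j'' ∨ Rel i' j' i'' j'' := by
  obtain ⟨g, g0, g1, g2⟩ := gl hF h' h
  obtain ⟨k, k0, k1, k2⟩ := gl hF h h''
  by_cases hg : IsSquare g.det
  · exact Or.inl (rel_of_sq g0 hg g1 g2)
  by_cases hk : IsSquare k.det
  · exact Or.inr (Or.inl (rel_of_sq k0 hk k1 k2))
  refine Or.inr (Or.inr (rel_of_sq (g := k * g) ?_ ?_ ?_ ?_))
  · rw [det_mul]; exact mul_ne_zero k0 g0
  · rw [det_mul]; exact PAUx.sq_mul hk hg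
  · rw [mul_assoc, g1, ← mul_assoc, k1, mul_assoc]
  · rw [mul_assoc, g2, ← mul_assoc, k2, mul_assoc]

theorem rel_odd (hF : Odd (Fintype.card F)) {i j : SL(2, F)} (h : QP i j) (α : MulAut SL(2, F))
    (ho : Odd (orderOf α)) : Rel i j (α i) (α j) := by
  rcases three hF h (h.map hF α) ((h.map hF α).map hF α) with h1 | h1 | h1
  · exact h1.symm
  · have key : ∀ n : ℕ, Rel i j ((α ^ (2 * n)) i) ((α ^ (2 * n)) j) := by
      intro n
      induction n with
      | zero => exact ⟨1, by simp, by simp⟩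
      | succ n ih =>
        have e : α ^ (2 * (n + 1)) = α ^ (2 * n) * α * α := by rw [mul_add, pow_add, mul_one, sq, mul_assoc]
        rw [e]
        exact ih.trans (h1.map (α ^ (2 * n)))
    obtain ⟨n, hn⟩ := ho
    have e : α ^ (2 * (n + 1)) = α := by
      rw [show 2 * (n + 1) = orderOf α + 1 by omega, pow_succ, pow_orderOf_eq_one, one_mul]
    have := key (n + 1)
    rwa [e] at this
  · simpa using h1.map α⁻¹

end H29.P4A
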