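import Mathlib
import Cfsg.Agent.H29.HK
import Cfsg.Agent.H29.HSX
import Cfsg.Agent.H29.Graph
import Cfsg.Agent.H9.HSLeech

set_option autoImplicit false
set_option maxRecDepth 100000
set_option Elab.async false
set_option linter.all false

namespace H29.HS100

open H19 H9 H9.MX Cfsg

/-- The adjacency rows of the Higman-Sims graph. -/
def rows : List ℕ := [(nat_lit 0xc6e0660201080200404089500), (nat_lit 0xc6001a05844c09082020400c0), (nat_lit 0xc022b08204c10581480400810), (nat_lit 0xc0408d4503800605310000220), (nat_lit 0x6444c411206080204c214004), (nat_lit 0x6a430888041800a008aa2008), (nat_lit 0xe005821080c4a2019118002), (nat_lit 0x22644801821013120703002), (nat_lit 0x2100d02e20c2290b020801), (nat_lit 0x22252222006016008a112408), (nat_lit 0x90114d1908b820244201), (nat_lit 0x2800f00a900b004200352104), (nat_lit 0x49801e02185c4058010081), (nat_lit 0x4148000154080c80c45008aa0), (nat_lit 0x41a01008e1080400313d00410),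 (nat_lit 0x4981022562001380e02041), (nat_lit 0x4009201c00480209920881a50), (nat_lit 0x40014c12300c0181070540120), (nat_lit 0x6ca0404002464018c820c02), (nat_lit 0x1008405c825d00282510021), (nat_lit 0x9c048001027102004040a4ac0), (nat_lit 0x9011000600284760012008cb0), (nat_lit 0x24803250000826c8080ac084), (nat_lit 0x8802460100a019b440005c020), (nat_lit 0x821568400001134d080006140), (nat_lit 0x4ca4900000a095440284302), (nat_lit 0x1010bc0080813d210142011), (nat_lit 0x9110000005183011600441370), (nat_lit 0x20a22000c423800c84225048), (nat_lit 0x83d4108002002c24680030480), (nat_lit 0x88a0030000d05228382023010), (nat_lit 0x1400040d812880120710c8204), (nat_lit 0x161000a21c01810044005c188), (nat_lit 0x20036002002100c286c08c80a), (nat_lit 0x200109448004404a13a902005), (nat_lit 0x9c2484c080044110210412500), (nat_lit 0x2c800200c820480000f03848c), (nat_lit 0x48088230680003046800005f0), (nat_lit 0x14200002145e4002027c01808), (nat_lit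 0x100284022b222400445410422), (nat_lit 0x428109023a41060088e800080), (nat_lit 0x6400a840cd010000064e00340), (nat_lit 0x4c8004981ac00800601641200), (nat_lit 0x1610006c0b020200202823444), (nat_lit 0x21c0010003102002905aa1206), (nat_lit 0x2102108084042892041750009), (nat_lit 0x2c004230001400180202c714c), (nat_lit 0x1020812221118241030882112), (nat_lit 0x644090b602040000059880c80), (nat_lit 0x4c2040695081030803a008800), (nat_lit 0x4302502923010005c402c0040), (nat_lit 0xe903404002040800186401c60), (nat_lit 0x480614000e6830301101424), (nat_lit 0xe98101808001008c0100c8390), (nat_lit 0x90200849a19604c00028212), (nat_lit 0x280281e00a810004088236003), (nat_lit 0x420b24cc88000d04048108400), (nat_lit 0x436801e014040009280b01100), (nat_lit 0x2150406041000054050118526), (nat_lit 0x130d0000a00c20400448805cc), (nat_lit 0x80d0090104449a8088004889), (nat_lit 0x282200c408d1d8020108118), (nat_lit 0x885441822200224118082406), (nat_lit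 0x81645001001c00fb110080800), (nat_lit 0xa002b204812020541000a2450), (nat_lit 0xa45020c40480481a00002da00), (nat_lit 0x92030586024420230000c7000), (nat_lit 0x50403212920221c80005822), (nat_lit 0x2091209208006000080d0351a), (nat_lit 0x90c0049c000181c300220245), (nat_lit 0x9a440007011108048461010a), (nat_lit 0xa0408b02041460c00840141a0), (nat_lit 0x9322014185011442006038000), (nat_lit 0x80852c0080687c82104400200), (nat_lit 0x8012122078a0a0c010c0098), (nat_lit 0x4a01613a1240926000064), (nat_lit 0x4147018402a0910440400c48), (nat_lit 0x111500c812010403050c00a03), (nat_lit 0x21101020441100488828208d9), (nat_lit 0x192a00a8000000304010a9c1a), (nat_lit 0x180905401800520002400d326), (nat_lit 0x19000121321400202130500a5), (nat_lit 0x100881848c40e400201820291), (nat_lit 0x39140081008182a80214900c), (nat_lit 0x460922145928010601230000), (nat_lit 0x4d408105018c208210800384), (nat_lit 0x600203260d800000823149030), (nat_lit 0xa490580203b10002012452000),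 (nat_lit 0x482a8701a044008012d280000), (nat_lit 0x201108140a2028048400442e5), (nat_lit 0x18030008a8611100022442059), (nat_lit 0x100a806504060151060004861), (nat_lit 0x400ae1608e2c300028006000), (nat_lit 0x2800801040b04090131400a33), (nat_lit 0x10b0100200034e5980100033), (nat_lit 0x2503806050aa443840900000), (nat_lit 0x60c07a104080088c988300000), (nat_lit 0x122c0409304a9721600000000), (nat_lit 0x101400000032f07200003600f), (nat_lit 0x8003878028000869b0000f)]
/-- The letters as permutations of the 100 vertices. -/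
def imgs : List (List ℕ) := [[1, 0, 4, 5, 2, 3, 8, 10, 6, 13, 7, 16, 18, 9, 22, 25, 11, 28, 12, 33, 35, 36, 14, 38, 41, 15, 44, 46, 17, 48, 31, 30, 51, 19, 54, 20, 21, 59, 23, 60, 56, 24, 66, 53, 26, 67, 27, 69, 29, 72, 57, 32, 74, 43, 34, 77, 40, 50, 78, 37, 39, 75, 82, 84, 85, 87, 42, 45, 89, 47, 91, 76, 49, 92, 52, 61, 71, 55, 58, 81, 90, 79, 62, 86, 63, 64, 83, 65, 97, 68, 80, 70, 73, 98, 99, 96, 95, 88, 93, 94],
 [1, 0, 4, 5, 2, 3, 8, 10, 6, 13, 7, 16, 18, 9, 22, 25, 11, 28, 12, 33, 35, 36, 14, 38, 41, 15, 44, 46, 17, 48, 31, 30, 51, 19, 54, 20, 21, 59, 23, 60, 56, 24, 66, 53, 26, 67, 27, 69, 29, 72, 57, 32, 74, 43, 34, 77, 40, 50, 78, 37, 39, 75, 82, 84, 85, 87, 42, 45, 89, 47, 91, 76, 49, 92, 52, 61, 71, 55, 58, 81, 90, 79, 62, 86, 63, 64, 83, 65, 97, 68, 80, 70, 73, 98, 99, 96, 95, 88, 93, 94],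
 [0, 2, 3, 1, 5, 7, 4, 11, 10, 6, 15, 9, 8, 20, 23, 26, 27, 29, 31, 12, 16, 13, 38, 40, 14, 43, 19, 37, 47, 49, 17, 28, 18, 44, 45, 56, 33, 21, 25, 22, 63, 64, 24, 61, 46, 55, 68, 52, 65, 73, 30, 53, 32, 51, 75, 34, 72, 35, 36, 79, 77, 39, 83, 42, 86, 41, 57, 85, 58, 90, 62, 48, 88, 50, 67, 74, 54, 69, 93, 80, 59, 60, 91, 70, 92, 76, 71, 96, 66, 78, 94, 82, 95, 89, 81, 84, 87, 97, 99, 98],
 [0, 3, 1, 2, 6, 4, 9, 5, 12, 11, 8, 7, 19, 21, 24, 10, 20, 30, 32, 26, 13, 37, 39, 14, 42, 38, 15, 16, 31, 17, 50, 18, 52, 36, 55, 57, 58, 27, 22, 61, 23, 65, 63, 25, 33, 34, 44, 28, 71, 29, 73, 53, 47, 51, 76, 45, 35, 66, 68, 80, 81, 43, 70, 40, 41, 48, 88, 74, 46, 77, 83, 86, 56, 49, 75, 54, 85, 60, 89, 59, 79, 94, 91, 62, 95, 67, 64, 96, 72, 93, 69, 82, 84, 78, 90, 92, 87, 97, 99, 98],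
 [0, 1, 5, 4, 3, 2, 6, 7, 8, 14, 10, 17, 12, 22, 9, 15, 28, 11, 18, 34, 20, 36, 13, 31, 41, 25, 45, 46, 16, 48, 38, 23, 53, 54, 19, 35, 21, 59, 30, 62, 40, 24, 66, 51, 67, 26, 27, 70, 29, 72, 50, 43, 52, 32, 33, 77, 56, 57, 58, 37, 82, 61, 39, 84, 76, 65, 42, 44, 68, 91, 47, 85, 49, 92, 74, 75, 64, 55, 78, 79, 80, 81, 60, 86, 63, 71, 83, 87, 97, 89, 90, 69, 73, 98, 99, 96, 95, 88, 93, 94],
 [4, 1, 3, 10, 5, 0, 7, 25, 2, 35, 16, 46, 30, 8, 23, 53, 13, 69, 6, 26, 40, 19, 38, 15, 85, 44, 27, 89, 48, 87, 17, 28, 43, 18, 61, 11, 9, 81, 56, 55, 49, 22, 50, 32, 33, 64, 59, 80, 72, 97, 20, 12, 45, 75, 67, 47, 84, 31, 98, 36, 14, 52, 70, 73, 71, 95, 41, 77, 58, 74, 62, 34, 92, 96, 51, 60, 29, 54, 21, 39, 99, 90, 86, 76, 66, 83, 91, 24, 88, 78, 37, 82, 57, 94, 93, 65, 63, 42, 68, 79],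
 [5, 1, 8, 2, 0, 4, 18, 6, 13, 36, 3, 35, 51, 16, 60, 23, 10, 30, 33, 21, 50, 78, 41, 14, 87, 7, 19, 26, 31, 76, 12, 57, 43, 44, 71, 9, 59, 90, 22, 79, 20, 66, 97, 32, 25, 52, 11, 55, 28, 40, 42, 74, 61, 15, 77, 39, 38, 92, 68, 46, 75, 34, 70, 96, 45, 95, 84, 54, 98, 17, 62, 64, 48, 63, 69, 53, 83, 67, 89, 99, 47, 37, 91, 85, 56, 24, 82, 29, 88, 27, 81, 86, 72, 94, 93, 65, 73, 49, 58, 80],
 [11, 15, 1, 3, 7, 5, 0, 72, 2, 28, 63, 44, 16, 17, 40, 8, 12, 75, 56, 51, 26, 37, 25, 27, 69, 31, 20, 81, 45, 42, 29, 47, 46, 61, 18, 43, 68, 89, 9, 86, 96, 34, 87, 55, 6, 38, 98, 22, 92, 24, 10, 19, 39, 85, 53, 65, 41, 4, 80, 99, 76, 59, 54, 97, 82, 35, 84, 23, 36, 77, 83, 52, 57, 14, 74, 94, 90, 49, 60, 32, 58, 67, 48, 70, 66, 62, 71, 30, 95, 93, 78, 91, 64, 21, 13, 88, 73, 50, 79, 33],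
 [6, 2, 8, 3, 57, 5, 44, 4, 15, 38, 50, 0, 16, 94, 73, 1, 12, 13, 34, 51, 26, 93, 47, 67, 49, 22, 20, 23, 9, 30, 87, 25, 79, 99, 41, 65, 68, 21, 45, 52, 14, 56, 29, 35, 11, 28, 32, 31, 82, 77, 97, 19, 71, 54, 62, 43, 18, 72, 80, 61, 78, 33, 85, 10, 92, 55, 84, 81, 36, 24, 83, 86, 7, 96, 74, 17, 60, 69, 90, 98, 58, 27, 64, 70, 66, 53, 39, 42, 95, 37, 76, 91, 48, 89, 75, 88, 40, 63, 46, 59],
 [44, 16, 10, 13, 0, 66, 4, 6, 97, 5, 17, 48, 1, 75, 8, 2, 94, 96, 72, 49, 27, 69, 59, 85, 53, 71, 60, 93, 47, 20, 77, 52, 46, 11, 56, 65, 43, 78, 7, 84, 50, 86, 67, 79, 39, 92, 68, 45, 28, 83, 74, 54, 18, 89, 81, 32, 22, 33, 36, 64, 24, 34, 29, 73, 82, 80, 25, 70, 55, 21, 87, 41, 31, 3, 15, 14, 30, 23, 90, 98, 58, 76, 91, 62, 38, 51, 99, 42, 95, 37, 26, 61, 57, 19, 12, 88, 40, 63, 35, 9],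
 [4, 12, 15, 73, 6, 9, 7, 38, 14, 99, 2, 33, 94, 3, 75, 74, 1, 10, 52, 93, 29, 69, 56, 77, 60, 66, 90, 20, 48, 62, 76, 72, 55, 57, 61, 98, 58, 89, 84, 44, 96, 71, 87, 36, 0, 47, 32, 28, 11, 19, 40, 85, 31, 24, 51, 68, 34, 92, 80, 22, 26, 91, 83, 97, 59, 35, 5, 42, 46, 21, 67, 25, 18, 63, 50, 13, 81, 30, 37, 43, 65, 54, 64, 49, 39, 23, 41, 70, 95, 53, 78, 82, 45, 27, 16, 88, 17, 8, 79, 86]]
/-- The adjacency rows. -/
noncomputable def adj : ℕ → ℕ := nth 0 rows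
/-- The image of a vertex under a letter. -/
noncomputable def img (c : ℕ) : ℕ → ℕ := nth 0 (nth [] imgs c)
theorem rowsOK : RowsOK 100 adj := by decide +kernel
/-- The Higman-Sims graph. -/
noncomputable abbrev Γ : SimpleGraph (Fin 100) := bitG 100 adj
theorem srg : SRG Γ 100 22 0 6 := rowsOK.srg (k := 7) (by decide) (by decide +kernel)
theorem haut : chkAut 100 adj (nth Net.nil HSM.nl) HK.L11 img = true := by decide +kernel

theorem exists_ψ : ∃ ψ : HK.K →* (Γ ≃g Γ), Function.Surjective ψ ∧ Nat.card ψ.ker = 2 ∧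
    ψ (HK.σ 0 * HK.σ 0) = 1 ∧ ∀ c ∈ HK.L11, ∀ i : Fin 100, (ψ (HK.σ c) i : ℕ) = img c i := by
  obtain ⟨ρ, hρ⟩ := HK.exists_hom HSM.hiv (rels_sub HSM.hR0 (by decide +kernel))
  obtain ⟨ψ, -, h2, h3⟩ := exists_aut rowsOK HK.top11 HSM.hn hρ haut
  have h4 := (srg100_aut srg).1
  have : Finite (Γ ≃g Γ) := Nat.finite_of_card_ne_zero (by omega)
  have h5 : 88704000 ≤ Nat.card ψ.range := by
    rw [← Subgroup.index_ker, h2, Subgroup.index_ker, range_eq_gen hρ HK.top11]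
    exact HSX.card
  have h6 : ψ.range = ⊤ := Subgroup.eq_top_of_le_card _ (h4.trans_le h5)
  refine ⟨ψ, MonoidHom.range_eq_top.1 h6, ?_, ?_, h3⟩
  · have := ψ.ker.index_mul_card
    rw [Subgroup.index_ker, h6, Subgroup.card_top, h4, HK.card] at this
    omega
  · rw [← MonoidHom.mem_ker, h2, MonoidHom.mem_ker, map_mul, hρ 0 (by decide)]
    simpa using HSM.hR0 [0, 0] (by decide)

/-- The action of `2.HS.2` on the Higman-Sims graph. -/
noncomputable def ψ : HK.K →* (Γ ≃g Γ) := exists_ψ.choose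
theorem ψ_surj : Function.Surjective ψ := exists_ψ.choose_spec.1
theorem card_ker : Nat.card ψ.ker = 2 := exists_ψ.choose_spec.2.1
theorem ψ_sq : ψ (HK.σ 0 * HK.σ 0) = 1 := exists_ψ.choose_spec.2.2.1
theorem ψ_apply : ∀ c ∈ HK.L11, ∀ i : Fin 100, (ψ (HK.σ c) i : ℕ) = img c i :=
  exists_ψ.choose_spec.2.2.2
theorem sq_ne : HK.σ 0 * HK.σ 0 ≠ 1 := by
  simpa using ne_one_of_pt (e := HK.σ) (ρ := HK.ρ) HKM.hn (pe_rho _) (w := [0, 0]) (p := 0) (q := 4)
    (by decide +kernel) (by decide)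
theorem root : ev HK.σ [3, 1, 3, 0, 4] ^ 4 = HK.σ 0 * HK.σ 0 := by
  have : ev HK.σ (powW 4 [3, 1, 3, 0, 4] ++ [1, 1]) = 1 := rels_subE _ (rels_of_chk (k := 11) (ws := [powW 4 [3, 1, 3, 0, 4] ++ [1, 1]]) HKM.hn (by decide) HKM.hiv
    (allN_true.1 (by decide +kernel))) _ List.mem_cons_self
  have h1 : HK.σ 1 = (HK.σ 0)⁻¹ := HK.hiv 0
  have h2 : ev HK.σ [1, 1] = (HK.σ 0 * HK.σ 0)⁻¹ := by
    rw [ev_cons, ev_cons, ev_nil, mul_one, h1, mul_inv_rev]
  rw [ev_append, ev_powW, h2, mul_inv_eq_one] at this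
  exact this

/-- The index two subgroup of the automorphism group is the Higman-Sims group. -/
theorem exists_HS : ∃ H : Subgroup (Γ ≃g Γ), H.index = 2 ∧ IsHS H ∧ Nonempty (H ≃* Spor.HS) := by
  have : Finite hsX := Nat.finite_of_card_ne_zero (by rw [hs_action.card]; omega)
  obtain ⟨G, hG, θ, hθ⟩ := @HSAction.exists_hom hsK hsX _ hsAct _ _ _ hs_action
  obtain ⟨e, -⟩ := srg100_iso hG srg hsx0 0
  have h1 : Function.Injective ((autConj e).toMonoidHom.comp θ) := (autConj e).injective.comp hθ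
  have f := MonoidHom.ofInjective h1
  have h2 := @HSAction.isHS hsK hsX _ hsAct _ _ _ hs_action
  have h3 := card_of_equiv ⟨f.symm⟩ h2.2
  refine ⟨_, ?_, ⟨simple_of_equiv ⟨f.symm⟩ h2.1, h3⟩,
    ⟨f.symm.trans (Subgroup.subgroupOfEquivOfLe (inf_le_left.trans inf_le_left))⟩⟩
  have := Subgroup.index_mul_card ((autConj e).toMonoidHom.comp θ).range
  rw [h3, (srg100_aut srg).1] at this
  omega

theorem cover {G : Type} [Group G] (t : HK.K ≃* G) :
    ∃ M : Subgroup G, M.index = 2 ∧ IsNonsplitDoubleCover M Spor.HS := by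
  obtain ⟨H, h1, h2, ⟨f⟩⟩ := exists_HS
  let χ : G →* (Γ ≃g Γ) := ψ.comp t.symm.toMonoidHom
  have hχ : Function.Surjective χ := ψ_surj.comp t.symm.surjective
  have h3 : (H.comap χ).index = 2 := (H.index_comap_of_surjective hχ).trans h1
  have hs := h2.1
  have : Finite H := Nat.finite_of_card_ne_zero (by rw [h2.2]; omega)
  have hc : Nat.card (H.comap χ) = 2 * Nat.card H := by
    have := (H.comap χ).index_mul_card
    rw [h3, ← Nat.card_congr t.toEquiv, HK.card] at this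
    rw [h2.2]; omega
  have : Finite Spor.HS := Finite.of_equiv _ f.toEquiv
  have h4 : (t (ev HK.σ [3, 1, 3, 0, 4]) ^ 2) ^ 2 = t (HK.σ 0 * HK.σ 0) := by
    rw [← pow_mul, ← map_pow, root]
  refine ⟨_, h3, nonsplit_of_sq ((f : H →* Spor.HS).comp (χ.subgroupComap H))
    (f.surjective.comp (χ.subgroupComap_surjective_of_surjective H hχ))
    (by
      have := f.symm.isSimpleGroup
      exact center_eq_bot_of_simple (by rw [← Nat.card_congr f.toEquiv, h2.2]; norm_num))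
    (by rw [hc, Nat.card_congr f.toEquiv])
    ⟨t (ev HK.σ [3, 1, 3, 0, 4]) ^ 2, Subgroup.sq_mem_of_index_two h3 _⟩ ?_ ?_⟩
  · exact fun h => sq_ne (t.map_eq_one_iff.1 (h4.symm.trans (congrArg Subtype.val h)))
  · refine (congrArg f (Subtype.ext ?_)).trans (map_one f)
    change ψ (t.symm ((t (ev HK.σ [3, 1, 3, 0, 4]) ^ 2) ^ 2)) = 1
    rw [h4, t.symm_apply_apply, ψ_sq]

end H29.HS100
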