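import Mathlib
import Cfsg.Agent.H29.Quo
import Cfsg.Agent.H29.Pres
import Cfsg.Agent.H19.DCE3

/-!
# Cyclic central extensions of presented simple groups
-/

set_option autoImplicit false

namespace H29

open H19

theorem PData.central {α : Type} [DecidableEq α] {P : PData α} (h : P.Coh) (hg : ∀ x, x ∈ P.gens)
    [IsSimpleGroup P.G] (hnp : ¬ (Nat.card P.G).Prime) {K : Type*} [Group K] {e : ℕ → K}
    (hiv : IvOK e (ivOf P.ivl)) (hii : ∀ c, ivOf P.ivl (ivOf P.ivl c) = c) {L u : List ℕ}
    (hL : ∀ c ∈ L, ivOf P.ivl c ∈ L ∧ c < P.lets.length) (htop : gen P.e L = ⊤)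
    (hRL : ∀ r ∈ u :: P.relL, ∀ c ∈ r, c ∈ L) (h2 : ∀ c ∈ L, e c * ev e u = ev e u * e c)
    (hR : ∀ r ∈ P.relL, ev e r = 1 ∨ ev e r = ev e u) {a b : ℕ} (hab : a ∈ L ∧ b ∈ L)
    (hne : e a * e b ≠ e b * e a) :
    Nat.card (Subgroup.center (gen e L)) = orderOf (ev e u) ∧
      Nonempty (gen e L ⧸ Subgroup.center (gen e L) ≃* P.G) := by
  classical
  let e' : ℕ → gen e L := fun c => if h : c ∈ L then ⟨e c, mem_gen h⟩ else 1
  have he' : ∀ w : List ℕ, (∀ c ∈ w, c ∈ L) → ((ev e' w : gen e L) : K) = ev e w := fun w hw => by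
    rw [show ((ev e' w : gen e L) : K) = (gen e L).subtype (ev e' w) from rfl, map_ev]
    exact ev_congr fun c hc => by simp [e', hw c hc]
  have hu := he' u (hRL u (by simp))
  let Z : Subgroup (gen e L) := Subgroup.zpowers (ev e' u)
  have hz : Z ≤ Subgroup.center (gen e L) := by
    rw [Subgroup.zpowers_le, Subgroup.mem_center_iff]
    rintro ⟨g, hg⟩
    refine Subtype.ext ?_
    have : gen e L ≤ Subgroup.centralizer {ev e u} := gen_le.2 fun c hc =>
      Subgroup.mem_centralizer_singleton_iff.2 (h2 c hc)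
    simpa [hu] using Subgroup.mem_centralizer_singleton_iff.1 (this hg)
  have hZ : Z.Normal := ⟨fun x hx g => by
    rw [Subgroup.mem_center_iff.1 (hz hx) g, mul_inv_cancel_right]; exact hx⟩
  have b1 : IvOK e' (ivOf P.ivl) := fun c => by
    by_cases hc : c ∈ L
    · exact Subtype.ext (by simp [e', hc, (hL c hc).1, hiv c])
    · have : ivOf P.ivl c ∉ L := fun h => hc (hii c ▸ (hL _ h).1)
      simp [e', hc, this]
  obtain ⟨ρ, hρ⟩ := PData.exists_hom h hg (σ := fun c => QuotientGroup.mk' Z (e' c))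
    (fun c => by simp only [b1 c, map_inv]) (fun r hr => by
      rw [← map_ev]
      have h3 := he' r (hRL r (List.mem_cons_of_mem _ hr))
      rcases hR r hr with h4 | h4
      · rw [show ev e' r = 1 from Subtype.ext (h3.trans h4), map_one]
      · rw [show ev e' r = ev e' u from Subtype.ext (h3.trans (h4.trans hu.symm))]
        exact (QuotientGroup.eq_one_iff _).2 (Subgroup.mem_zpowers _))
  have b3 : gen e' L = ⊤ := by
    rw [eq_top_iff]
    rintro ⟨g, hg⟩ -
    obtain ⟨w, hw, rfl⟩ := exists_word hiv (fun c hc => (hL c hc).1) hg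
    rw [show (⟨ev e w, hg⟩ : gen e L) = ev e' w from Subtype.ext (he' w hw).symm]
    exact ev_mem_gen hw
  have b4 : Function.Surjective ρ := by
    rw [← MonoidHom.range_eq_top, range_eq_gen (fun c hc => hρ c (hL c hc).2) htop, ← map_gen, b3,
      ← MonoidHom.range_eq_map]
    exact MonoidHom.range_eq_top.2 (QuotientGroup.mk'_surjective Z)
  have b5 : Function.Injective ρ := (MonoidHom.ker_eq_bot_iff _).1
    ((inferInstance : ρ.ker.Normal).eq_bot_or_eq_top.resolve_right fun h3 => by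
      have h4 : QuotientGroup.mk' Z (e' a) = 1 :=
        (hρ a (hL a hab.1).2).symm.trans (h3 ▸ Subgroup.mem_top _ : P.e a ∈ ρ.ker)
      have := congrArg Subtype.val
        (Subgroup.mem_center_iff.1 (hz ((QuotientGroup.eq_one_iff _).1 h4)) (e' b))
      simp only [e', hab.1, hab.2, dif_pos, Subgroup.coe_mul] at this
      exact hne this.symm)
  let f := MulEquiv.ofBijective ρ ⟨b5, b4⟩
  have b6 : Subgroup.center (gen e L) = Z := le_antisymm (fun x hx => by
    rw [← QuotientGroup.eq_one_iff, ← f.symm.map_eq_one_iff, ← Subgroup.mem_bot,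
      ← center_eq_bot_of_simple hnp, Subgroup.mem_center_iff]
    intro g
    obtain ⟨g, rfl⟩ := f.symm.surjective g
    obtain ⟨g, rfl⟩ := QuotientGroup.mk_surjective g
    rw [← map_mul, ← map_mul, ← QuotientGroup.mk_mul, ← QuotientGroup.mk_mul,
      Subgroup.mem_center_iff.1 hx g]) hz
  exact ⟨by rw [b6, Nat.card_zpowers, ← hu, Subgroup.orderOf_coe],
    ⟨(QuotientGroup.quotientMulEquivOfEq b6).trans f.symm⟩⟩

end H29
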