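import Mathlib

/-! A faithful rational representation of odd degree `n + 1` of a finite nonabelian simple group
gives a faithful representation of degree `n` over the field with two elements. -/

set_option autoImplicit false

namespace H29

namespace Char2

open Matrix

/-- an invariant lattice -/
theorem exists_int {G : Type} [Group G] [Finite G] {m : ℕ}
    (ρ : G →* (Module.End ℚ (Fin m → ℚ))ˣ) (hρ : Function.Injective ρ) :
    ∃ τ : G →* Matrix (Fin m) (Fin m) ℤ, Function.Injective τ := by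
  classical
  let S : Set (Fin m → ℚ) := Set.range fun p : G × Fin m => (ρ p.1 : Module.End ℚ (Fin m → ℚ)) (Pi.single p.2 1)
  let L : Submodule ℤ (Fin m → ℚ) := Submodule.span ℤ S
  have hsp : Submodule.span ℚ (L : Set (Fin m → ℚ)) = ⊤ := by
    rw [eq_top_iff, ← (Pi.basisFun ℚ (Fin m)).span_eq]
    refine Submodule.span_mono ?_
    rintro _ ⟨i, rfl⟩
    refine Submodule.subset_span ⟨(1, i), ?_⟩
    simp
  have : Submodule.IsLattice ℚ L := ⟨Submodule.fg_span (Set.finite_range _), hsp⟩
  have hrk : Module.finrank ℤ L = m := by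
    rw [Submodule.IsLattice.finrank_of_pi ℚ L]; simp
  let b : Module.Basis (Fin m) ℤ L := Module.finBasisOfFinrankEq ℤ L hrk
  let ρ' : Representation ℤ G (Fin m → ℚ) :=
    { toFun := fun g => (ρ g : Module.End ℚ (Fin m → ℚ)).restrictScalars ℤ
      map_one' := by ext x; simp
      map_mul' := fun g h => by ext x; simp }
  have hL : ∀ g, L ≤ L.comap (ρ' g) := by
    intro g
    refine Submodule.span_le.2 ?_
    rintro _ ⟨⟨h, i⟩, rfl⟩
    refine Submodule.subset_span ⟨(g * h, i), ?_⟩
    simp [ρ']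
  let φ : G →* Module.End ℤ L := ρ'.subrepresentation L hL
  refine ⟨(LinearMap.toMatrixAlgEquiv b).toMonoidHom.comp φ, ?_⟩
  rw [injective_iff_map_eq_one]
  intro g hg
  have h1 : φ g = 1 := by
    apply (LinearMap.toMatrixAlgEquiv b).injective
    rw [map_one]; exact hg
  apply hρ
  rw [map_one]
  apply Units.ext
  refine LinearMap.ext_on hsp ?_
  intro x hx
  have := congrArg (fun f : Module.End ℤ L => ((f ⟨x, hx⟩ : L) : Fin m → ℚ)) h1
  simpa [φ, ρ'] using this

/-- an invariant symmetric form which is not zero mod two -/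
theorem exists_form {G : Type} [Group G] [Finite G] {m : ℕ} (hm : 0 < m)
    (τ : G →* Matrix (Fin m) (Fin m) ℤ) :
    ∃ B : Matrix (Fin m) (Fin m) ℤ, Bᵀ = B ∧ (∀ g, (τ g)ᵀ * B * τ g = B) ∧ ∃ i j, ¬ (2 : ℤ) ∣ B i j := by
  classical
  have := Fintype.ofFinite G
  have key : ∀ k : ℕ, ∀ B : Matrix (Fin m) (Fin m) ℤ, (∑ i, ∑ j, (B i j).natAbs) = k → B ≠ 0 → Bᵀ = B →
      (∀ g, (τ g)ᵀ * B * τ g = B) →
      ∃ B : Matrix (Fin m) (Fin m) ℤ, Bᵀ = B ∧ (∀ g, (τ g)ᵀ * B * τ g = B) ∧ ∃ i j, ¬ (2 : ℤ) ∣ B i j := by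
    intro k
    induction k using Nat.strong_induction_on with
    | _ k ih =>
    intro B hk h0 hs hi
    by_cases h : ∃ i j, ¬ (2 : ℤ) ∣ B i j
    · exact ⟨B, hs, hi, h⟩
    push Not at h
    choose C hC using h
    have hB : B = (2 : ℤ) • (Matrix.of C) := by ext i j; simp [hC]
    have hinj : ∀ X Y : Matrix (Fin m) (Fin m) ℤ, (2 : ℤ) • X = (2 : ℤ) • Y → X = Y := fun X Y h => by
      ext i j
      have := congrFun (congrFun h i) j
      simpa using this
    have hC0 : Matrix.of C ≠ 0 := by rintro h; exact h0 (by rw [hB, h, smul_zero])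
    have hsum : (∑ i, ∑ j, (B i j).natAbs) = 2 * ∑ i, ∑ j, ((Matrix.of C) i j).natAbs := by
      simp only [Finset.mul_sum]
      refine Finset.sum_congr rfl fun i _ => Finset.sum_congr rfl fun j _ => ?_
      rw [hC, Int.natAbs_mul]; rfl
    have hpos : (∑ i, ∑ j, ((Matrix.of C) i j).natAbs) ≠ 0 := by
      intro h
      apply hC0
      ext i j
      have h1 := (Finset.sum_eq_zero_iff.1 h) i (Finset.mem_univ _)
      have h2 := (Finset.sum_eq_zero_iff.1 h1) j (Finset.mem_univ _)
      simpa using h2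
    refine ih _ (by omega) (Matrix.of C) rfl hC0 ?_ ?_
    · apply hinj
      rw [← Matrix.transpose_smul, ← hB, hs]
    · intro g
      apply hinj
      rw [← Matrix.smul_mul, ← Matrix.mul_smul, ← hB, hi]
  refine key _ (∑ g, (τ g)ᵀ * τ g) rfl ?_ ?_ ?_
  · intro h
    have h1 := congrFun (congrFun h ⟨0, hm⟩) ⟨0, hm⟩
    simp only [Matrix.sum_apply, Matrix.mul_apply, Matrix.transpose_apply, Matrix.zero_apply] at h1
    have h2 := (Finset.sum_eq_zero_iff_of_nonneg
      (fun g _ => Finset.sum_nonneg fun j _ => mul_self_nonneg _)).1 h1 1 (Finset.mem_univ _)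
    have h3 := (Finset.sum_eq_zero_iff_of_nonneg (fun j _ => mul_self_nonneg _)).1 h2 ⟨0, hm⟩
      (Finset.mem_univ _)
    simp at h3
  · simp [Matrix.transpose_sum, Matrix.transpose_mul]
  · intro h
    rw [Finset.mul_sum, Finset.sum_mul]
    refine Fintype.sum_equiv (Equiv.mulRight h) _ _ fun g => ?_
    simp [Matrix.transpose_mul, Matrix.mul_assoc]

/-- an alternating matrix of odd size over `ZMod 2` is singular -/
theorem det_eq_zero {m : ℕ} (hm : Odd m) (B : Matrix (Fin m) (Fin m) ℤ) (hs : Bᵀ = B)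
    (hd : ∀ i, (2 : ℤ) ∣ B i i) : (B.map (Int.castRingHom (ZMod 2))).det = 0 := by
  let A : Matrix (Fin m) (Fin m) ℤ := Matrix.of fun i j => if i < j then B i j else if j < i then -B j i else 0
  have h1 : Aᵀ = -A := by
    ext i j
    rcases lt_trichotomy i j with h | h | h
    · simp [A, h, h.not_gt]
    · simp [A, h]
    · simp [A, h, h.not_gt]
  have h2 : A.det = 0 := by
    have := Matrix.det_transpose A
    rw [h1, Matrix.det_neg, Fintype.card_fin, hm.neg_one_pow] at this
    omega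
  have h3 : A.map (Int.castRingHom (ZMod 2)) = B.map (Int.castRingHom (ZMod 2)) := by
    ext i j
    have hij : B j i = B i j := congrFun (congrFun hs i) j
    rcases lt_trichotomy i j with h | h | h
    · simp [A, h]
    · subst h
      have : ((B i i : ℤ) : ZMod 2) = 0 := (ZMod.intCast_zmod_eq_zero_iff_dvd _ 2).2 (hd i)
      simp [A, this]
    · simp [A, h, h.not_gt, hij]
  rw [← h3, ← RingHom.mapMatrix_apply, ← RingHom.map_det, h2, map_zero]

/-- a proper non-zero invariant subspace mod two -/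
theorem exists_inv {G : Type} [Group G] [Finite G] {m : ℕ} (hm : Odd m) (h1 : 1 < m)
    (τ : G →* Matrix (Fin m) (Fin m) ℤ) :
    ∃ W : Submodule (ZMod 2) (Fin m → ZMod 2), W ≠ ⊥ ∧ W ≠ ⊤ ∧
      ∀ g, ∀ x ∈ W, ((τ g).map (Int.castRingHom (ZMod 2))) *ᵥ x ∈ W := by
  classical
  obtain ⟨B, hs, hi, i0, j0, hij⟩ := exists_form (by omega) τ
  obtain ⟨c, hc⟩ : ∃ c, c = (Int.castRingHom (ZMod 2)) := ⟨_, rfl⟩
  rw [← hc]
  have hi2 : ∀ g, ((τ g).map c)ᵀ * B.map c * (τ g).map c = B.map c := by
    intro g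
    rw [← Matrix.transpose_map, ← Matrix.map_mul, ← Matrix.map_mul, hi]
  have hs2 : (B.map c)ᵀ = B.map c := by rw [← Matrix.transpose_map, hs]
  by_cases hd : ∀ i, (2 : ℤ) ∣ B i i
  · have hdet : (B.map c).det = 0 := hc ▸ det_eq_zero hm B hs hd
    obtain ⟨v, hv, hv0⟩ := Matrix.exists_mulVec_eq_zero_iff.2 hdet
    refine ⟨LinearMap.ker (B.map c).mulVecLin, ?_, ?_, ?_⟩
    · intro h
      have : v ∈ LinearMap.ker (B.map c).mulVecLin := hv0
      rw [h] at this
      exact hv this
    · intro h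
      have : (Pi.single j0 1 : Fin m → ZMod 2) ∈ LinearMap.ker (B.map c).mulVecLin := h ▸ Submodule.mem_top
      have h2 := congrFun (LinearMap.mem_ker.1 this) i0
      simp at h2
      exact hij ((ZMod.intCast_zmod_eq_zero_iff_dvd _ 2).1 h2)
    · intro g x hx
      have hx' : B.map c *ᵥ x = 0 := hx
      show B.map c *ᵥ ((τ g).map c *ᵥ x) = 0
      have e : B.map c * (τ g).map c = ((τ g⁻¹).map c)ᵀ * B.map c := by
        have e1 : (τ g).map c * (τ g⁻¹).map c = 1 := by
          rw [← Matrix.map_mul, ← map_mul]; simp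
        conv_rhs => rw [← hi2 g]
        rw [← Matrix.mul_assoc, ← Matrix.mul_assoc, ← Matrix.transpose_mul, e1]
        simp
      rw [Matrix.mulVec_mulVec, e, ← Matrix.mulVec_mulVec, hx', Matrix.mulVec_zero]
  · push Not at hd
    obtain ⟨i, hi0⟩ := hd
    have two : ∀ a : ZMod 2, a + a = 0 := by decide
    let f : (Fin m → ZMod 2) →ₗ[ZMod 2] ZMod 2 :=
      { toFun := fun x => x ⬝ᵥ (B.map c *ᵥ x)
        map_add' := fun x y => by
          have : y ⬝ᵥ (B.map c *ᵥ x) = x ⬝ᵥ (B.map c *ᵥ y) := by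
            rw [Matrix.dotProduct_mulVec, dotProduct_comm, ← Matrix.mulVec_transpose, hs2]
          rw [Matrix.mulVec_add, add_dotProduct, dotProduct_add, dotProduct_add, this]
          linear_combination two (x ⬝ᵥ (B.map c *ᵥ y))
        map_smul' := fun a x => by
          have : ∀ a : ZMod 2, a * a = a := by decide
          rw [Matrix.mulVec_smul, smul_dotProduct, dotProduct_smul]
          simp [← mul_assoc, this] }
    refine ⟨LinearMap.ker f, ?_, ?_, ?_⟩
    · intro h
      have h2 := LinearMap.finrank_le_finrank_of_injective (LinearMap.ker_eq_bot.1 h)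
      simp at h2
      omega
    · intro h
      have : (Pi.single i 1 : Fin m → ZMod 2) ∈ LinearMap.ker f := h ▸ Submodule.mem_top
      have h2 : (Pi.single i 1 : Fin m → ZMod 2) ⬝ᵥ (B.map c *ᵥ Pi.single i 1) = 0 := this
      simp at h2
      exact hi0 ((ZMod.intCast_zmod_eq_zero_iff_dvd _ 2).1 h2)
    · intro g x hx
      have hx' : x ⬝ᵥ (B.map c *ᵥ x) = 0 := hx
      show ((τ g).map c *ᵥ x) ⬝ᵥ (B.map c *ᵥ ((τ g).map c *ᵥ x)) = 0
      rw [Matrix.mulVec_mulVec, Matrix.dotProduct_mulVec, Matrix.vecMul_mulVec, ← Matrix.mul_assoc, hi2,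
        ← Matrix.dotProduct_mulVec, hx']

/-- an integral matrix of odd order which is trivial mod two is trivial -/
theorem eq_one_of_mod {m p : ℕ} (hp : Odd p) (T : Matrix (Fin m) (Fin m) ℤ) (h : T ^ p = 1)
    (h2 : T.map (Int.castRingHom (ZMod 2)) = 1) : T = 1 := by
  have h3 : (∑ i ∈ Finset.range p, T ^ i) * (T - 1) = 0 := by rw [geom_sum_mul, h, sub_self]
  have h4 : (Int.castRingHom (ZMod 2)).mapMatrix (∑ i ∈ Finset.range p, T ^ i) = 1 := by
    rw [map_sum]
    simp only [map_pow, RingHom.mapMatrix_apply, h2, one_pow, Finset.sum_const, Finset.card_range]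
    obtain ⟨k, rfl⟩ := hp
    rw [← Nat.cast_smul_eq_nsmul (ZMod 2)]
    have : ((2 * k + 1 : ℕ) : ZMod 2) = 1 := by
      push_cast
      rw [show (2 : ZMod 2) = 0 from rfl]; simp
    rw [this, one_smul]
  have h5 : (∑ i ∈ Finset.range p, T ^ i).det ≠ 0 := by
    intro h0
    have := congrArg Matrix.det h4
    rw [← RingHom.map_det, h0] at this
    simp at this
  have h6 := congrArg (fun X => (∑ i ∈ Finset.range p, T ^ i).adjugate * X) h3
  simp only [← Matrix.mul_assoc, Matrix.adjugate_mul, Matrix.mul_zero, Matrix.smul_mul, Matrix.one_mul] at h6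
  exact sub_eq_zero.1 ((smul_eq_zero.1 h6).resolve_left h5)

/-- padding with a trivial summand -/
theorem pad {F G U : Type} [Field F] [Group G] [AddCommGroup U] [Module F U] [Module.Finite F U] {n : ℕ}
    (h : Module.finrank F U ≤ n) (φ : Representation F G U) (hφ : Function.Injective φ) :
    ∃ σ : G →* GL (Fin n) F, Function.Injective σ := by
  classical
  have hr : Module.finrank F (U × (Fin (n - Module.finrank F U) → F)) = n := by
    simp; omega
  let b := Module.finBasisOfFinrankEq F _ hr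
  let ψ : Representation F G (U × (Fin (n - Module.finrank F U) → F)) :=
    φ.prod (Representation.trivial F G _)
  refine ⟨((LinearMap.toMatrixAlgEquiv b).toMonoidHom.comp ψ).toHomUnits, ?_⟩
  rw [injective_iff_map_eq_one]
  intro g hg
  have h1 : ψ g = 1 := by
    apply (LinearMap.toMatrixAlgEquiv b).injective
    rw [map_one]; exact congrArg Units.val hg
  apply hφ
  rw [map_one]
  ext x
  have := congrArg (fun f : Module.End F _ => (f (x, 0)).1) h1
  simpa [ψ] using this

theorem exists_odd {G : Type} [Group G] [Finite G] [IsSimpleGroup G] (hG : ∃ a b : G, a * b ≠ b * a) :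
    ∃ g : G, g ≠ 1 ∧ ∃ p, Odd p ∧ g ^ p = 1 := by
  by_cases h : ∃ p : ℕ, p.Prime ∧ p ∣ Nat.card G ∧ p ≠ 2
  · obtain ⟨p, hp, hd, h2⟩ := h
    have := Fact.mk hp
    obtain ⟨g, hg⟩ := exists_prime_orderOf_dvd_card' p hd
    refine ⟨g, ?_, p, hp.odd_of_ne_two h2, hg ▸ pow_orderOf_eq_one g⟩
    rintro rfl
    rw [orderOf_one] at hg
    exact hp.one_lt.ne hg
  push Not at h
  have h1 := Nat.eq_prime_pow_of_unique_prime_dvd (Nat.card_pos (α := G)).ne' (fun {d} hd hdd => h d hd hdd)
  have h2 : IsPGroup 2 G := IsPGroup.of_card h1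
  have h3 := h2.center_nontrivial
  rcases (inferInstance : (Subgroup.center G).Normal).eq_bot_or_eq_top with h4 | h4
  · rw [h4] at h3
    exact absurd h3 (not_nontrivial _)
  · obtain ⟨a, b, hab⟩ := hG
    exact absurd (Subgroup.mem_center_iff.1 (h4 ▸ Subgroup.mem_top b) a) hab

end Char2

open Char2 Matrix in
theorem char2_reduce {G : Type} [Group G] [Finite G] [IsSimpleGroup G] (hG : ∃ a b : G, a * b ≠ b * a)
    {n : ℕ} (hn : Even n) (ρ : G →* (Module.End ℚ (Fin (n + 1) → ℚ))ˣ) (hρ : Function.Injective ρ) :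
    ∃ σ : G →* GL (Fin n) (ZMod 2), Function.Injective σ := by
  classical
  obtain ⟨τ, hτ⟩ := exists_int ρ hρ
  have hn0 : 0 < n := by
    rcases Nat.eq_zero_or_pos n with rfl | h
    · obtain ⟨a, b, hab⟩ := hG
      refine absurd (hτ ?_) hab
      rw [map_mul, map_mul]
      ext i j
      obtain rfl : i = 0 := Fin.ext (by omega)
      obtain rfl : j = 0 := Fin.ext (by omega)
      simp [Matrix.mul_apply, mul_comm]
    · exact h
  obtain ⟨W, hb, ht, hW⟩ := exists_inv hn.add_one (by omega) τ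
  let R : Representation (ZMod 2) G (Fin (n + 1) → ZMod 2) :=
    (Matrix.toLinAlgEquiv' : Matrix (Fin (n + 1)) (Fin (n + 1)) (ZMod 2) ≃ₐ[ZMod 2] _).toMonoidHom.comp
      ((Int.castRingHom (ZMod 2)).mapMatrix.toMonoidHom.comp τ)
  have hR : ∀ g x, R g x = ((τ g).map (Int.castRingHom (ZMod 2))) *ᵥ x := fun g x => rfl
  have hle : ∀ g, W ≤ W.comap (R g) := fun g x hx => hW g x hx
  have hsum := W.finrank_quotient_add_finrank
  have hV : Module.finrank (ZMod 2) (Fin (n + 1) → ZMod 2) = n + 1 := by simp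
  have h1 : 0 < Module.finrank (ZMod 2) W := by
    rw [Nat.pos_iff_ne_zero, Ne, Submodule.finrank_eq_zero]; exact hb
  have h2 : Module.finrank (ZMod 2) W < n + 1 := (Submodule.finrank_lt ht).trans_eq hV
  have dich : ∀ {M : Type} [Monoid M] (f : G →* M), Function.Injective f ∨ ∀ g, f g = 1 := by
    intro M _ f
    rcases (inferInstance : f.toHomUnits.ker.Normal).eq_bot_or_eq_top with h | h
    · left
      exact Units.val_injective.comp ((MonoidHom.ker_eq_bot_iff _).1 h)
    · right
      intro g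
      have : g ∈ f.toHomUnits.ker := h ▸ Subgroup.mem_top g
      exact congrArg Units.val this
  rcases dich (R.subrepresentation W hle) with h3 | h3
  · exact pad (by omega) _ h3
  rcases dich (R.quotient W hle) with h4 | h4
  · exact pad (by omega) _ h4
  exfalso
  obtain ⟨g, hg, p, hp, hgp⟩ := exists_odd hG
  have hsq : ∀ k : G, R (k * k) = 1 := by
    intro k
    refine LinearMap.ext fun x => ?_
    have a1 : R k x - x ∈ W := by
      have := LinearMap.congr_fun (h4 k) (Submodule.Quotient.mk x)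
      exact (Submodule.Quotient.eq W).1 this
    have a2 : R k (R k x - x) = R k x - x :=
      congrArg (fun f : Module.End (ZMod 2) W => ((f ⟨_, a1⟩ : W) : Fin (n + 1) → ZMod 2)) (h3 k)
    rw [map_sub] at a2
    rw [map_mul]
    show R k (R k x) = x
    ext i
    have a3 := congrFun a2 i
    simp only [Pi.sub_apply] at a3
    have two : ∀ a b c : ZMod 2, a - b = b - c → a = c := by decide
    exact two _ _ _ a3
  obtain ⟨k, rfl⟩ := hp
  have e : g = g ^ (k + 1) * g ^ (k + 1) := by
    rw [← pow_add, show k + 1 + (k + 1) = (2 * k + 1) + 1 by ring, pow_succ, hgp, one_mul]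
  have h5 : R g = 1 := by rw [e]; exact hsq _
  have h6 : (τ g).map (Int.castRingHom (ZMod 2)) = 1 := by
    apply (Matrix.toLinAlgEquiv' : Matrix (Fin (n + 1)) (Fin (n + 1)) (ZMod 2) ≃ₐ[ZMod 2] _).injective
    rw [map_one]; exact h5
  have h7 := eq_one_of_mod ⟨k, rfl⟩ (τ g) (by rw [← map_pow, hgp, map_one]) h6
  exact hg (hτ (h7.trans (map_one τ).symm))

end H29
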