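import Mathlib
import Cfsg.Agent.H29.Ext

set_option autoImplicit false
set_option maxRecDepth 100000
set_option Elab.async false
set_option linter.all false

namespace H29.F24F

noncomputable def n1 : Net := ben 7 [(nat_lit 0xaaaaaa55995599555c03d50d006a95),
 (nat_lit 0x66f6f9069606f90030a55a2ff0f660),
 (nat_lit 0x29f70892ff480404990a06230cc00c),
 (nat_lit 0x2b536dd233b3b4b4999900200084),
 (nat_lit 0x24002f94a0646b4899dc9900000000),
 (nat_lit 0xdbb76f00000000409b0000),
 (nat_lit 0x24489000000000)]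
noncomputable def t1 : List ℕ := [(nat_lit 0xaaa28828418222a80a0a1800220900),
 (nat_lit 0x88020816433000000201803082040),
 (nat_lit 0x88a2816180442060810000000000),
 (nat_lit 0x0)]
noncomputable def d1 : ℕ := (nat_lit 0x555555020240000285542294109492)
noncomputable def n2 : Net := ben 7 [(nat_lit 0x555555ff5505f3f0f5573330f717c0),
 (nat_lit 0x330300fb3020f050f0055fb02f0521),
 (nat_lit 0x80011117766224500004400),
 (nat_lit 0x1010929342c6808404040042),
 (nat_lit 0xb204f2042200220200000418),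
 (nat_lit 0x102268001022681000000039408000),
 (nat_lit 0x10226892040000)]
noncomputable def t2 : List ℕ := [(nat_lit 0x6300ca0604046898c31108d027000),
 (nat_lit 0x9006cc00000306010f332084503280),
 (nat_lit 0xf630c0aa634c2020a0000200000000),
 (nat_lit 0xc000000000000000000000000000)]
noncomputable def d2 : ℕ := (nat_lit 0x8082254889019540088c040290944)
noncomputable def n3 : Net := ben 7 [(nat_lit 0x55555556aaaa9555a5569555999955),
 (nat_lit 0xb372310ac3cc500aa33a50235580c3),
 (nat_lit 0x1c48099906810000f19e119fa38706),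
 (nat_lit 0xd03310808010252c1293a0720024),
 (nat_lit 0xf60010901000002d9000000db0),
 (nat_lit 0x800010008000100000000000091200),
 (nat_lit 0x80001000000000)]
noncomputable def t3 : List ℕ := [(nat_lit 0x4581ba00a7184002a078421504b492),
 (nat_lit 0x19818c2061800c0a86840d0202800),
 (nat_lit 0x5d99a2c080604c0001803000000000),
 (nat_lit 0x0)]
noncomputable def d3 : ℕ := (nat_lit 0xa2220029500522295201092a824008)
noncomputable def n4 : Net := ben 7 [(nat_lit 0x55555555559a6656555655aaa59595),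
 (nat_lit 0x30336003a3333503ccc53ccc5a21),
 (nat_lit 0xc77ca886f002db488908e0f),
 (nat_lit 0x60600c950000797f00810000),
 (nat_lit 0x181038084180618000000018),
 (nat_lit 0x621c0000621c2000000041801800),
 (nat_lit 0x621c78000000)]
noncomputable def t4 : List ℕ := [(nat_lit 0xc06c60030ad5221a068021c01980d6),
 (nat_lit 0xf3606078c00000180618480e021800),
 (nat_lit 0xff6f667bc8042260c0000000000000),
 (nat_lit 0x0)]
noncomputable def d4 : ℕ := (nat_lit 0x808880252ac48028221401442220)
def ivl : List ℕ := [0, 1, 2, 3, 4, 5, 6, 7, 8, 9, 10, 11, 13, 12]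
def cols : List ℕ := [1, 2, 3, 4]
def hcols : List ℕ := []
def G0 : List (List ℕ) := [[1, 2, 1, 2, 1, 2],
 [1, 3, 1, 3],
 [1, 4, 1, 4],
 [2, 3, 2, 3, 2, 3],
 [2, 4, 2, 4],
 [3, 4, 3, 4, 3, 4]]
def R0 : List (List ℕ) := G0
theorem hii : ∀ c, ivOf ivl (ivOf ivl c) = c := ivOf_ivOf (by decide +kernel)
theorem der : Derives (ivOf ivl) R0 R0 := Derives.refl _ _
noncomputable def nl : List Net := [Net.nil, n1, n2, n3, n4]
noncomputable def T : TCData := ⟨120, 120, 7, 4, nth Net.nil nl, ivOf ivl, cols, hcols, R0,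
  nth [] [[], t1, t2, t3, t4], nth 0 [0, d1, d2, d3, d4]⟩
theorem hn : NetsOK 120 (nth Net.nil nl) := netsOK_of_all (by decide +kernel)
theorem hiv : IvOK (sg (nth Net.nil nl)) (ivOf ivl) :=
  ivOK_of_chk (k := 7) hn (by decide) (n := 14) (by decide) (by decide) (allN_true.1 (by decide +kernel))
theorem hb : T.Basic := TCData.basic_of_chk hn hiv (by decide +kernel)
theorem hG0 : ∀ r ∈ G0, ev (sg (nth Net.nil nl)) r = 1 :=
  rels_of_chk (k := 7) hn (by decide) hiv (allN_true.1 (by decide +kernel))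
noncomputable def s1 : List TCData.Step := [.all 0 0 0,
 .all 1 0 0,
 .all 2 0 0]
noncomputable def s2 : List TCData.Step := [.all 0 1 0,
 .all 3 0 0,
 .all 4 0 0]
noncomputable def s3 : List TCData.Step := [.all 1 1 0,
 .all 3 1 0,
 .all 5 0 0]
noncomputable def s4 : List TCData.Step := [.all 2 1 0,
 .all 4 1 0,
 .all 5 1 0]
theorem hR0 : ∀ r ∈ R0, ev (sg (nth Net.nil nl)) r = 1 := hG0
theorem col1 : T.ColOK 1 := TCData.colOK_of_chk (U := (T.stepsMask 1 s1 (T.mask0 1))) (V := (T.stepsMask 1 s1 (T.mask0 1))) hb (TCData.cov_stepsMask hb (by decide) s1 _ (T.cov_mask0 1)) (TCData.cov_stepsMask hb (by decide) s1 _ (T.cov_mask0 1)) (by decide +kernel)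
theorem col2 : T.ColOK 2 := TCData.colOK_of_chk (U := (T.stepsMask 2 s2 (T.mask0 2))) (V := (T.stepsMask 2 s2 (T.mask0 2))) hb (TCData.cov_stepsMask hb (by decide) s2 _ (T.cov_mask0 2)) (TCData.cov_stepsMask hb (by decide) s2 _ (T.cov_mask0 2)) (by decide +kernel)
theorem col3 : T.ColOK 3 := TCData.colOK_of_chk (U := (T.stepsMask 3 s3 (T.mask0 3))) (V := (T.stepsMask 3 s3 (T.mask0 3))) hb (TCData.cov_stepsMask hb (by decide) s3 _ (T.cov_mask0 3)) (TCData.cov_stepsMask hb (by decide) s3 _ (T.cov_mask0 3)) (by decide +kernel)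
theorem col4 : T.ColOK 4 := TCData.colOK_of_chk (U := (T.stepsMask 4 s4 (T.mask0 4))) (V := (T.stepsMask 4 s4 (T.mask0 4))) hb (TCData.cov_stepsMask hb (by decide) s4 _ (T.cov_mask0 4)) (TCData.cov_stepsMask hb (by decide) s4 _ (T.cov_mask0 4)) (by decide +kernel)
theorem ok : T.OK := ⟨hb, TCData.treeOK_of_chk hn (by decide +kernel), (List.forall_mem_cons.2 ⟨col1, (List.forall_mem_cons.2 ⟨col2, (List.forall_mem_cons.2 ⟨col3, (List.forall_mem_cons.2 ⟨col4, (fun _ h => absurd h List.not_mem_nil)⟩)⟩)⟩)⟩), der _ _ hiv hR0⟩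
theorem bd {G : Type} [Group G] {e : ℕ → G} (h1 : IvOK e (ivOf ivl)) (h2 : ∀ r ∈ R0, ev e r = 1)
    {m : ℕ} (h : Bd (gen e hcols) m) : Bd (gen e cols) (120 * m) := ok.bd h1 (der G e h1 h2) h
theorem cm {G : Type} [Group G] {e : ℕ → G} (h1 : IvOK e (ivOf ivl)) (h2 : ∀ r ∈ R0, ev e r = 1)
    (h3 : gen e cols = ⊤) {ρ : G →* Equiv.Perm ℕ} (h4 : ∀ c, ρ (e c) = sg (nth Net.nil nl) c) :
    CosetModel ρ (gen e hcols) 120 := ok.cosetModel h1 (der G e h1 h2) h3 fun c _ => h4 c

end H29.F24F
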