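import Mathlib
import Cfsg.Agent.H29.Fi24H.B
import Cfsg.Agent.H29.Fi24H.C0
import Cfsg.Agent.H29.Fi24H.C1
import Cfsg.Agent.H29.Fi24H.C2
import Cfsg.Agent.H29.Fi24H.C3
import Cfsg.Agent.H29.Fi24H.C4
import Cfsg.Agent.H29.Fi24H.C5
import Cfsg.Agent.H29.Fi24H.C6
import Cfsg.Agent.H29.Fi24H.C7
import Cfsg.Agent.H29.Fi24H.C8
import Cfsg.Agent.H29.Fi24H.C9
import Cfsg.Agent.H29.Fi24H.C10

set_option autoImplicit false
set_option maxRecDepth 100000
set_option Elab.async false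
set_option linter.all false

namespace H29.Fi24H

theorem hE0 : ∀ r ∈ E0, ev (sg nx) r = 1 :=
  rels_of_chk (k := 19) hn (by decide) hiv (lt_step (lt_step (lt_step (lt_step (lt_step (lt_step (lt_step (lt_step (lt_step (lt_step (lt_step (lt_step (lt_step (lt_step (lt_step (lt_step (lt_step (lt_step (lt_step lt_base e0_0) e0_1) e0_2) e0_3) e0_4) e0_5) e0_6) e0_7) e0_8) e0_9) e0_10) e0_11) e0_12) e0_13) e0_14) e0_15) e0_16) e0_17) e0_18)
theorem hE1 : ∀ r ∈ E1, ev (sg nx) r = 1 :=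
  rels_of_chk (k := 19) hn (by decide) hiv (lt_step (lt_step (lt_step (lt_step (lt_step (lt_step (lt_step (lt_step (lt_step (lt_step (lt_step (lt_step (lt_step (lt_step (lt_step (lt_step (lt_step (lt_step (lt_step lt_base e1_0) e1_1) e1_2) e1_3) e1_4) e1_5) e1_6) e1_7) e1_8) e1_9) e1_10) e1_11) e1_12) e1_13) e1_14) e1_15) e1_16) e1_17) e1_18)
theorem hE2 : ∀ r ∈ E2, ev (sg nx) r = 1 :=
  rels_of_chk (k := 19) hn (by decide) hiv (lt_step (lt_step (lt_step (lt_step (lt_step (lt_step (lt_step (lt_step (lt_step (lt_step (lt_step (lt_step (lt_step (lt_step (lt_step (lt_step (lt_step (lt_step (lt_step lt_base e2_0) e2_1) e2_2) e2_3) e2_4) e2_5) e2_6) e2_7) e2_8) e2_9) e2_10) e2_11) e2_12) e2_13) e2_14) e2_15) e2_16) e2_17) e2_18)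
theorem hdef : ∀ r ∈ defRels defs 12, ev (sg nx) r = 1 :=
  rels_sub (R := ((E0 ++ E1) ++ E2)) (rels_append (rels_append hE0 hE1) hE2) (by decide +kernel)
theorem map {G : Type} [Group G] {e : ℕ → G} {ρ : G →* Equiv.Perm ℕ}
    (h : ∀ c, ρ (e c) = sg (nth Net.nil Fi24T.nl) c) : ∀ c, ρ (extE e 12 defs c) = sg nx c :=
  map_ext hext hiv hdef rfl rfl h
def ml : List ℕ := [24, 14, 16, 18, 26, 20, 22]
def Z0 : List (List ℕ) := [[24, 24], [14, 14], [16, 16], [18, 18], [26, 26], [20, 20], [22, 22], [24, 14, 24, 14, 24, 14, 24, 14], [24, 16, 24, 16], [24, 18, 24, 18], [24, 26, 24, 26], [24, 20, 24, 20], [24, 22, 24, 22], [14, 16, 14, 16, 14, 16], [14, 18, 14, 18], [14, 26, 14, 26], [14, 20, 14, 20], [14, 22, 14, 22], [16, 18, 16, 18, 16, 18, 16, 18, 16, 18, 16, 18, 16, 18, 16, 18, 16, 18, 16, 18], [16, 26, 16, 26], [16, 20, 16, 20], [16, 22, 16, 22], [18, 26, 18, 26, 18, 26], [18, 20, 18, 20, 18, 20], [18,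 22, 18, 22, 18, 22], [26, 20, 26, 20], [26, 22, 26, 22], [20, 22, 20, 22, 20, 22, 20, 22], [26, 22, 20, 22, 20]]
theorem hz0 : ∀ r ∈ Z0, ev (sg nx) r = 1 :=
  rels_of_chk (k := 19) hn (by decide) hiv (lt_step (lt_step (lt_step (lt_step (lt_step (lt_step (lt_step (lt_step (lt_step (lt_step (lt_step (lt_step (lt_step (lt_step (lt_step (lt_step (lt_step (lt_step (lt_step lt_base z0_0) z0_1) z0_2) z0_3) z0_4) z0_5) z0_6) z0_7) z0_8) z0_9) z0_10) z0_11) z0_12) z0_13) z0_14) z0_15) z0_16) z0_17) z0_18)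
def Z1 : List (List ℕ) := [[26, 16, 14, 24, 16, 14, 24, 16, 14, 24], [24, 18, 16, 18, 16, 18, 16, 18, 16, 18, 16], [16, 18, 20, 22, 16, 18, 20, 22, 16, 18, 20, 22, 16, 18, 20, 22]]
theorem hz1 : ∀ r ∈ Z1, ev (sg nx) r = 1 :=
  rels_of_chk (k := 19) hn (by decide) hiv (lt_step (lt_step (lt_step (lt_step (lt_step (lt_step (lt_step (lt_step (lt_step (lt_step (lt_step (lt_step (lt_step (lt_step (lt_step (lt_step (lt_step (lt_step (lt_step lt_base z1_0) z1_1) z1_2) z1_3) z1_4) z1_5) z1_6) z1_7) z1_8) z1_9) z1_10) z1_11) z1_12) z1_13) z1_14) z1_15) z1_16) z1_17) z1_18)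
def RZ : List (List ℕ) := (Z0 ++ Z1)
theorem hz : ∀ r ∈ RZ, ev (sg nx) r = 1 := (rels_append hz0 hz1)
theorem mv : chkPt nx [24] 0 293603 = true := by decide +kernel

end H29.Fi24H
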