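import Mathlib
import Cfsg.Agent.H29.Fi24M
import Cfsg.Agent.H29.Fi24H
import Cfsg.Agent.H29.He
import Cfsg.Agent.H9.TT
import Cfsg.Prelude.Def_Sporadic

/-! The 3-transpositions of `Fi24` and the subgroup `He` of `Fi24'`. -/

set_option autoImplicit false
set_option maxRecDepth 100000

namespace H29

theorem threeTransp_of_cm {G : Type*} [Group G] {e : ℕ → G} {ρ : G →* Equiv.Perm ℕ} {nets : ℕ → Net}
    {K N : ℕ} (hn : NetsOK K nets) {L xs : List ℕ} (hp : Prim nets N L xs) {H : Subgroup G}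
    (cm : CosetModel ρ H N) (hρ : ∀ c, ρ (e c) = sg nets c) {a : G}
    (hC : Subgroup.centralizer ({a} : Set G) = H) (h1 : a ≠ 1) (h2 : a * a = 1)
    (hx : ∀ x ∈ xs, (a * ((e x)⁻¹ * a * e x)) ^ 2 = 1 ∨ (a * ((e x)⁻¹ * a * e x)) ^ 3 = 1)
    (hg : Subgroup.closure (conjugatesOf a) = ⊤) :
    Cfsg.IsThreeTranspositionClass (conjugatesOf a) ∧ Nat.card (conjugatesOf a) = N := by
  refine ⟨⟨⟨fun d hd => ?_, fun d hd d' hd' => ?_⟩, ⟨a, IsConj.refl a, rfl⟩, hg⟩, ?_⟩
  · obtain ⟨g, rfl⟩ := isConj_iff.1 hd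
    rw [← MulAut.conj_apply, MulEquiv.orderOf_eq]
    exact orderOf_eq_prime (by rw [sq, h2]) h1
  · obtain ⟨g, rfl⟩ := isConj_iff.1 hd
    obtain ⟨h, rfl⟩ := isConj_iff.1 hd'
    obtain ⟨m, hm, s, a1, a2⟩ := hp.cover.exists_mem (e := e) (fun c _ => hρ c) (i := ρ (g⁻¹ * h) 0)
      (by simp only [testBit_ones, decide_eq_true_eq]; exact cm.lt _ 0 cm.pos)
    have hm' : m ∈ H := (cm.mem m).1 (fix_of_mem_gen (fun c hc => by rw [hρ]; exact hp.fix c hc) hm)
    have key : ∀ y : G, ρ y s = 0 →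
        g * a * g⁻¹ * (h * a * h⁻¹) = (g * m) * (a * (y⁻¹ * a * y)) * (g * m)⁻¹ := fun y hy => by
      have b1 : y * m⁻¹ * (g⁻¹ * h) ∈ H := by
        rw [cm.eq_stab, mem_stab, map_mul, Equiv.Perm.mul_apply, ← a2, map_mul, map_inv,
          Equiv.Perm.mul_apply]
        simpa using hy
      rw [← hC, Subgroup.mem_centralizer_singleton_iff] at b1 hm'
      calc g * a * g⁻¹ * (h * a * h⁻¹)
          = g * a * m * y⁻¹ * (y * m⁻¹ * (g⁻¹ * h) * a) * h⁻¹ := by group
        _ = g * (a * m) * y⁻¹ * a * y * m⁻¹ * g⁻¹ := by rw [b1]; group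
        _ = _ := by rw [← hm']; group
    rcases testBit_primStart hn a1 with rfl | ⟨x, hx1, h3⟩
    · left
      rw [key 1 (by simp), conj_pow]; simp [h2]
    · rw [key (e x) (by rw [hρ, h3]), conj_pow, conj_pow]
      rcases hx x hx1 with h4 | h4 <;> simp [h4]
  · rw [H9.card_conjugatesOf, hC, cm.index_eq]

theorem sign_trivial {S : Type*} [Group S] [IsSimpleGroup S] (h : 2 < Nat.card S) (f : S →* ℤˣ)
    (x : S) : f x = 1 := by
  rcases IsSimpleGroup.eq_bot_or_eq_top_of_normal f.ker inferInstance with h1 | h1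
  · have := Nat.card_le_card_of_injective f ((MonoidHom.ker_eq_bot_iff f).1 h1)
    rw [Nat.card_eq_fintype_card (α := ℤˣ), Fintype.card_units_int] at this
    omega
  · rw [← MonoidHom.mem_ker, h1]; exact Subgroup.mem_top x

namespace Fi24

theorem l_ne : ρ (P.e 11) 3 = 1 := by simpa using pt Fi24Q.pl

theorem cent : Subgroup.centralizer ({P.e 11} : Set P.G) = H := by
  have h1 : H ≤ Subgroup.centralizer ({P.e 11} : Set P.G) := fun g hg =>
    Subgroup.mem_centralizer_singleton_iff.2 (hl g hg)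
  have h2 := Fi24Q.prim.isCoatom Fi24Q.hn cm.toTrans (map_wE hρ _) (by norm_num)
  rw [← cm.eq_stab] at h2
  by_contra h3
  have h4 := h2.2 _ (lt_of_le_of_ne h1 (Ne.symm h3))
  obtain ⟨g, hg⟩ := cm.trans 3 (by norm_num)
  have h5 : g * P.e 11 = P.e 11 * g :=
    Subgroup.mem_centralizer_singleton_iff.1 (h4 ▸ Subgroup.mem_top _)
  have h6 := l_ne
  rw [← hg, ← Equiv.Perm.mul_apply, ← map_mul, ← h5, map_mul, Equiv.Perm.mul_apply,
    (cm.mem _).2 (mem_gen (by decide)), hg] at h6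
  omega

theorem three : Cfsg.IsThreeTranspositionClass (conjugatesOf (P.e 11)) ∧
    Nat.card (conjugatesOf (P.e 11)) = 306936 := by
  refine threeTransp_of_cm Fi24Q.hn Fi24Q.prim cm (map_wE hρ _) cent (fun h => ?_) (sq 11) ?_ ?_
  · have := l_ne
    rw [h, map_one] at this
    simp at this
  · simp only [List.forall_mem_cons]
    refine ⟨Or.inr ?_, Or.inl ?_, by simp⟩
    · have h1 : wE P.e Fi24Q.wl 9 = (ev P.e [11, 10])⁻¹ := (ev_invW hiv0 [11, 10] :)
      have h2 := hR [10, 11, 10, 11, 10, 11] (memLL_true (by decide +kernel))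
      rw [h1, inv_inv, u10]
      simp only [ev_cons, ev_nil, mul_one] at h2
      calc (P.e 11 * P.e 10) ^ 3 = P.e 11 * (P.e 10 * (P.e 11 * (P.e 10 * (P.e 11 *
            (P.e 10 * P.e 11))))) * (P.e 11)⁻¹ := by simp [pow_succ, mul_assoc]
        _ = 1 := by rw [h2]; simp
    · have h1 : wE P.e Fi24Q.wl 10 = (ev P.e [10, 0, 11, 10])⁻¹ := (ev_invW hiv0 [10, 0, 11, 10] :)
      rw [h1, inv_inv, u0, pow_two, mul_assoc, ← mul_assoc (P.e 0), hl0 0 (by decide), mul_assoc, sq,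
        mul_one, sq]
  · rw [eq_top_iff, ← top, gen_le]
    exact fun c hc => Subgroup.subset_closure (isConj_iff.2 ⟨_, conjU c hc⟩)

theorem cent_conj {d : P.G} (hd : d ∈ conjugatesOf (P.e 11)) :
    Nat.card (Subgroup.centralizer ({d} : Set P.G)) = 2 * 4089470473293004800 ∧
      ∃ K : Subgroup P.G, K ≤ Subgroup.centralizer ({d} : Set P.G) ∧ Cfsg.IsFi23 K := by
  obtain ⟨f⟩ := H9.centralizer_equiv_of_conj hd
  refine ⟨by rw [← Nat.card_congr f.toEquiv, cent, cardH], ?_⟩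
  obtain ⟨g, rfl⟩ := isConj_iff.1 hd
  have := simpleK
  have e := (MulAut.conj g).subgroupMap φ.range
  refine ⟨_, ?_, e.symm.isSimpleGroup, by rw [← Nat.card_congr e.toEquiv, cardK]⟩
  rintro _ ⟨k, hk, rfl⟩
  rw [Subgroup.mem_centralizer_singleton_iff]
  change g * k * g⁻¹ * (g * P.e 11 * g⁻¹) = g * P.e 11 * g⁻¹ * (g * k * g⁻¹)
  calc g * k * g⁻¹ * (g * P.e 11 * g⁻¹) = g * (k * P.e 11) * g⁻¹ := by group
    _ = _ := by rw [hl k (K_le hk)]; group

theorem fi23_le : ∃ K : Subgroup (commutator P.G), Cfsg.IsFi23 K := by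
  have := simpleK
  have e := Subgroup.subgroupOfEquivOfLe K_leE
  exact ⟨_, e.isSimpleGroup, by rw [Nat.card_congr e.toEquiv, cardK]⟩

theorem he_le : ∃ K : Subgroup (commutator P.G), Cfsg.IsHe K := by
  have hz := rels_of_faithful faithful (Fi24H.map hρ) Fi24H.hz
  have hiv := ivOK_extE hiv0 Fi24H.hext
  obtain ⟨ψ, hψ⟩ := PData.exists_hom He.coh He.hg
    (σ := fun c => extE P.e 12 Fi24H.defs (nth 11 Fi24H.ml c))
    (fun c => by
      refine nth_forall (p := fun x => extE P.e 12 Fi24H.defs x = (extE P.e 12 Fi24H.defs x)⁻¹)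
        (hiv 11) (fun x hx => ?_) c
      have h1 : ∀ x ∈ Fi24H.ml, memLL [x, x] Fi24H.RZ = true := by decide +kernel
      have := hz _ (memLL_true (h1 x hx))
      simp only [ev_cons, ev_nil, mul_one] at this
      exact eq_inv_of_mul_eq_one_left this)
    (fun r hr => by
      have h1 : ∀ r ∈ He.P.relL, memLL (r.map (nth 11 Fi24H.ml)) Fi24H.RZ = true := by
        decide +kernel
      have := hz _ (memLL_true (h1 r hr))
      rwa [ev, List.map_map] at this)
  have := He.simple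
  have h1 : ∀ x, ψ x ∈ commutator P.G := fun x =>
    mem_comm (sign_trivial (by rw [He.card.1]; norm_num) (χ.comp ψ) x)
  have h2 : Function.Injective (ψ.codRestrict _ h1) := by
    rw [← MonoidHom.ker_eq_bot_iff, MonoidHom.ker_codRestrict]
    refine (IsSimpleGroup.eq_bot_or_eq_top_of_normal _ inferInstance).resolve_right fun h => ?_
    have h3 : ψ (He.P.e 0) = 1 := by rw [← MonoidHom.mem_ker, h]; exact Subgroup.mem_top _
    have h4 := pt_of_chk Fi24H.hn Fi24H.mv
    rw [← map_ev_sg fun c _ => Fi24H.map hρ c, ev_cons, ev_nil, mul_one] at h4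
    rw [hψ 0 (by decide)] at h3
    erw [h3] at h4
    simp at h4
  have e := MonoidHom.ofInjective h2
  exact ⟨_, e.symm.isSimpleGroup, by rw [← Nat.card_congr e.toEquiv, He.card.1]⟩

end Fi24

end H29
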