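import Mathlib
import Cfsg.Agent.H29.Quo2

set_option autoImplicit false
set_option maxRecDepth 100000
set_option Elab.async false
set_option linter.all false

namespace H29.HSM

noncomputable def n0 : Net := ben 7 [(nat_lit 0x5559a555969a596955a995641),
 (nat_lit 0x354be251738e524b251e7b6f0),
 (nat_lit 0xbd87fc853206fd8604247b0c),
 (nat_lit 0x2fbfe79a48b56d0e0e6d0030),
 (nat_lit 0x831f4d6f20dddff900060f06),
 (nat_lit 0xf810632d0a1df32d6),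
 (nat_lit 0x810632d0)]
noncomputable def n1 : Net := n0.rev
noncomputable def n2 : Net := ben 7 [(nat_lit 0x4a1ccfab35dc0fd308f584694),
 (nat_lit 0x96f9bfe2fd982a0c4d021622),
 (nat_lit 0xc91f93550d5a2b429b144500),
 (nat_lit 0x16f0a4cf674a30bd243e0040),
 (nat_lit 0x301174bb10e4ddd60000a400),
 (nat_lit 0x4000000052019984070fd9840),
 (nat_lit 0x420199840)]
noncomputable def n3 : Net := n2.rev
noncomputable def n4 : Net := ben 7 [(nat_lit 0xf3f030cf0cff0ffcccc0c014),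
 (nat_lit 0x110ff50a50500a00a000aa0f0),
 (nat_lit 0xdd027700117755889900020c),
 (nat_lit 0x2f2fadafb0f080c088c90000),
 (nat_lit 0x8f80ef14aad4fb00008800),
 (nat_lit 0xf0104398035ae3980),
 (nat_lit 0x1043980)]
noncomputable def n5 : Net := ben 7 [(nat_lit 0xfac007d5988bac20f871287a4),
 (nat_lit 0xb98a80e0f4bdef9191d530800),
 (nat_lit 0x442c1cf31c89baa64cca8b89),
 (nat_lit 0xa0e81a8553fd19ef41c30ece),
 (nat_lit 0xa92385b15016ce7c0000514e),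
 (nat_lit 0x60000000980a340109bf70112),
 (nat_lit 0xfaba34010)]
noncomputable def n6 : Net := n5.rev
noncomputable def n7 : Net := ben 7 [(nat_lit 0xac054024a4238340d534405c1),
 (nat_lit 0x9501867a9a5c5740bcd03e1b1),
 (nat_lit 0x3e6e60d6e64be527b6c1313),
 (nat_lit 0x39fddd7b3e128d7140d40153),
 (nat_lit 0x241258b48a0a86a30001c200),
 (nat_lit 0xa0000000085501320635b1f20),
 (nat_lit 0xfad701360)]
noncomputable def n8 : Net := n7.rev
noncomputable def n9 : Net := ben 7 [(nat_lit 0xadca3a5e5f70d43ebcf5bf798),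
 (nat_lit 0x4af3d97c2a48bc0adc7319022),
 (nat_lit 0xadd0f3876f68d9352b218247),
 (nat_lit 0x382c41eaee08971c8b064d),
 (nat_lit 0x45496e0e5844cb2500010204),
 (nat_lit 0x20000000ff448891090b70913),
 (nat_lit 0xdffee9933)]
noncomputable def n10 : Net := n9.rev
noncomputable def nl : List Net := [n0, n1, n2, n3, n4, n5, n6, n7, n8, n9, n10, Net.nil, Net.nil, Net.nil, Net.nil]
def ivl : List ℕ := [1, 0, 3, 2, 4, 6, 5, 8, 7, 10, 9, 12, 11, 14, 13]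
theorem hii : ∀ c, ivOf ivl (ivOf ivl c) = c := ivOf_ivOf (by decide +kernel)
theorem hn : NetsOK 100 (nth Net.nil nl) := netsOK_of_all (by decide +kernel)
theorem hiv : IvOK (sg (nth Net.nil nl)) (ivOf ivl) :=
  ivOK_of_chk (k := 7) hn (by decide) (n := 15) (by decide) (by decide) (allN_true.1 (by decide +kernel))
def R0 : List (List ℕ) := [[0, 0], [2, 2, 2, 2, 2, 2], [0, 0, 2, 0, 0, 3], [1, 3, 0, 2, 1, 3, 0, 2, 1, 3, 0, 2], [1, 2, 2, 0, 2, 2, 2, 1, 2, 2, 0, 2, 2, 2, 1, 2, 2, 0, 2, 2, 2], [0, 2, 0, 2, 0, 2, 0, 2, 0, 2, 0, 2, 0, 2, 0, 2], [0, 2, 0, 2, 2, 2, 0, 2, 0, 2, 2, 2, 0, 2, 0, 2, 2, 2, 0, 2, 0, 2, 2, 2], [4, 0, 4, 0], [4, 2, 1, 3, 3, 1, 3, 1, 3, 4, 2, 0, 2, 0, 2, 2, 0, 3, 1, 1], [4, 3, 1, 3, 1, 3, 3, 3, 4, 2, 2, 2, 0, 2, 0, 2, 0, 3, 1, 3, 1, 3, 3, 3, 4, 2, 2, 2, 0, 2, 0, 2, 0, 3, 1, 3, 1, 3, 3, 3, 4, 2, 2, 2, 0, 2, 0, 2, 0], [6, 1, 2, 0], [8, 2, 5, 3, 5], [10,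 5, 5, 2, 6, 2, 2]]
theorem hR0 : ∀ r ∈ R0, ev (sg (nth Net.nil nl)) r = 1 :=
  rels_of_chk (k := 7) hn (by decide) hiv (allN_true.1 (by decide +kernel))

end H29.HSM
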