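import Mathlib
import Cfsg.Agent.H29.Ext

set_option autoImplicit false
set_option maxRecDepth 100000
set_option Elab.async false
set_option linter.all false

namespace H29.J1s2

noncomputable def n3 : Net := ben 7 [(nat_lit 0x1173175d45145145176c391451b61),
 (nat_lit 0xe162b522527a11a12521311a11a1),
 (nat_lit 0x2e044c11048c2208452b088a2208),
 (nat_lit 0x222105080800020206080800020),
 (nat_lit 0x2800090002000200000008000),
 (nat_lit 0x80000000a0000000),
 (nat_lit 0x80000000)]
noncomputable def t3 : List ℕ := [(nat_lit 0x249488a2468461a214622c1a21909),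
 (nat_lit 0x10000000000000000000080c00000),
 (nat_lit 0x28000000c30c00c00502900000000),
 (nat_lit 0x140140000000000000000)]
noncomputable def d3 : ℕ := (nat_lit 0x30a0514080086006a85406006036)
noncomputable def n4 : Net := n3.rev
noncomputable def t4 : List ℕ := mapPull n4 t3
noncomputable def d4 : ℕ := (nat_lit 0x494a8a242a430ab0030150ab0d80)
noncomputable def n5 : Net := ben 7 [(nat_lit 0x22b26ffd41907b9921b7d1bd9e418),
 (nat_lit 0x97d799b1ec9c0b4c393e454c1c33),
 (nat_lit 0x715c54292982ec6ef25d8346140b),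
 (nat_lit 0x337051794a450c16beb85810032),
 (nat_lit 0x2000120241314ce30441840008f40),
 (nat_lit 0x983c0000bc2c22000000fa2c0300),
 (nat_lit 0x2dc7c22000000)]
noncomputable def t5 : List ℕ := [(nat_lit 0x1410ac20606e105a2818040338d80),
 (nat_lit 0x109c09e6634608d28209130888024),
 (nat_lit 0x8300822400410012000000000000),
 (nat_lit 0xc204441018822422804000000000)]
noncomputable def d5 : ℕ := (nat_lit 0x20410208140141001542a01001008)
noncomputable def n6 : Net := n5.rev
noncomputable def t6 : List ℕ := mapPull n6 t5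
noncomputable def d6 : ℕ := (nat_lit 0x18205041a15a085480080a8548240)
def ivl : List ℕ := [0, 2, 1, 4, 3, 6, 5]
def cols : List ℕ := [3, 4, 5, 6]
def hcols : List ℕ := []
def G0 : List (List ℕ) := [[3, 3, 3],
 [5, 5, 5, 5, 5, 5],
 [3, 5, 3, 5],
 [3, 5, 5, 4, 5, 5, 4, 5, 5, 4, 6, 6, 3, 6, 6]]
def R0 : List (List ℕ) := G0
theorem hii : ∀ c, ivOf ivl (ivOf ivl c) = c := ivOf_ivOf (by decide +kernel)
theorem der : Derives (ivOf ivl) R0 R0 := Derives.refl _ _
noncomputable def nl : List Net := [Net.nil, Net.nil, Net.nil, n3, n4, n5, n6]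
noncomputable def T : TCData := ⟨114, 114, 7, 4, nth Net.nil nl, ivOf ivl, cols, hcols, R0,
  nth [] [[], [], [], t3, t4, t5, t6], nth 0 [0, 0, 0, d3, d4, d5, d6]⟩
theorem hn : NetsOK 114 (nth Net.nil nl) := netsOK_of_all (by decide +kernel)
theorem hiv : IvOK (sg (nth Net.nil nl)) (ivOf ivl) :=
  ivOK_of_chk (k := 7) hn (by decide) (n := 7) (by decide) (by decide) (allN_true.1 (by decide +kernel))
theorem hb : T.Basic := TCData.basic_of_chk hn hiv (by decide +kernel)
theorem hG0 : ∀ r ∈ G0, ev (sg (nth Net.nil nl)) r = 1 :=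
  rels_of_chk (k := 7) hn (by decide) hiv (allN_true.1 (by decide +kernel))
noncomputable def s3 : List TCData.Step := []
noncomputable def s4 : List TCData.Step := [.all 0 0 0,
 .all 2 0 0]
noncomputable def s5 : List TCData.Step := [.pts 3 10 0 7 [70, 82, 89, 95, 104]]
noncomputable def s6 : List TCData.Step := [.all 1 0 0,
 .all 2 1 0]
theorem hR0 : ∀ r ∈ R0, ev (sg (nth Net.nil nl)) r = 1 := hG0
theorem col3 : T.ColOK 3 := TCData.colOK_of_chk (U := (T.stepsMask 3 s3 (T.mask0 3))) (V := (T.stepsMask 4 s4 (T.mask0 4))) hb (TCData.cov_stepsMask hb (by decide) s3 _ (T.cov_mask0 3)) (TCData.cov_stepsMask hb (by decide) s4 _ (T.cov_mask0 4)) (by decide +kernel)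
theorem col4 : T.ColOK 4 := TCData.colOK_of_chk (U := (T.stepsMask 4 s4 (T.mask0 4))) (V := (T.stepsMask 3 s3 (T.mask0 3))) hb (TCData.cov_stepsMask hb (by decide) s4 _ (T.cov_mask0 4)) (TCData.cov_stepsMask hb (by decide) s3 _ (T.cov_mask0 3)) (by decide +kernel)
theorem col5 : T.ColOK 5 := TCData.colOK_of_chk (U := (T.stepsMask 5 s5 (T.mask0 5))) (V := (T.stepsMask 6 s6 (T.mask0 6))) hb (TCData.cov_stepsMask hb (by decide) s5 _ (T.cov_mask0 5)) (TCData.cov_stepsMask hb (by decide) s6 _ (T.cov_mask0 6)) (by decide +kernel)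
theorem col6 : T.ColOK 6 := TCData.colOK_of_chk (U := (T.stepsMask 6 s6 (T.mask0 6))) (V := (T.stepsMask 5 s5 (T.mask0 5))) hb (TCData.cov_stepsMask hb (by decide) s6 _ (T.cov_mask0 6)) (TCData.cov_stepsMask hb (by decide) s5 _ (T.cov_mask0 5)) (by decide +kernel)
theorem ok : T.OK := ⟨hb, TCData.treeOK_of_chk hn (by decide +kernel), (List.forall_mem_cons.2 ⟨col3, (List.forall_mem_cons.2 ⟨col4, (List.forall_mem_cons.2 ⟨col5, (List.forall_mem_cons.2 ⟨col6, (fun _ h => absurd h List.not_mem_nil)⟩)⟩)⟩)⟩), der _ _ hiv hR0⟩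
theorem bd {G : Type} [Group G] {e : ℕ → G} (h1 : IvOK e (ivOf ivl)) (h2 : ∀ r ∈ R0, ev e r = 1)
    {m : ℕ} (h : Bd (gen e hcols) m) : Bd (gen e cols) (114 * m) := ok.bd h1 (der G e h1 h2) h
theorem cm {G : Type} [Group G] {e : ℕ → G} (h1 : IvOK e (ivOf ivl)) (h2 : ∀ r ∈ R0, ev e r = 1)
    (h3 : gen e cols = ⊤) {ρ : G →* Equiv.Perm ℕ} (h4 : ∀ c, ρ (e c) = sg (nth Net.nil nl) c) :
    CosetModel ρ (gen e hcols) 114 := ok.cosetModel h1 (der G e h1 h2) h3 fun c _ => h4 c

end H29.J1s2
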