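import Mathlib
import Cfsg.Agent.H29.Cover
import Cfsg.Agent.H29.J1sX
import Cfsg.Agent.H29.J1s2
import Cfsg.Agent.H9.CG

set_option autoImplicit false
set_option maxRecDepth 100000
set_option Elab.async false
set_option linter.all false

namespace H29.J1s

open H9.MX

theorem ub : UB (ivOf J1s1.ivl) J1s1.R0 J1s1.cols 175560 := fun _ _ _ hi hR =>
  J1s1.bd hi hR (J1s2.bd hi (rels_sub hR (by decide +kernel)) (bd_nil _))
/-- The permutation group. -/
abbrev S : Type := PG J1s1.nl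
theorem hiv : IvOK (pe J1s1.nl) (ivOf J1s1.ivl) := ivOK_sub _ J1s1.hiv
theorem hR : ∀ r ∈ J1s1.R0, ev (pe J1s1.nl) r = 1 := rels_subE _ J1s1.hR0
theorem top : gen (pe J1s1.nl) J1s1.cols = ⊤ := pe_top (by decide +kernel)
theorem card : Nat.card S = 175560 ∧ ∀ g : S, (∀ i < 1540, (PG J1s1.nl).subtype g i = i) → g = 1 :=
  card_eq_of_chain J1sX.hn ((ub _ _ hiv hR).of_top top) (fun c _ => J1sX.map (pe_rho _) c) J1sX.ch (by decide +kernel)
theorem trans : Trans (PG J1s1.nl).subtype 1540 :=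
  trans_of_reach (by decide) (PG_lt J1s1.hn) (fun c _ => pe_rho _ c)
    (reach_of_chk (L := J1s1.cols) (r := 3) J1s1.hn (by decide +kernel))
theorem simple : IsSimpleGroup S :=
  simple_of_cert (q := 11) (m := 15960) J1sX.hn J1sX.prim trans (J1sX.map (pe_rho _)) card.2 card.1
    J1sX.wit (ivOK_extE hiv J1sX.hext) (rels_of_faithful card.2 (J1sX.map (pe_rho _)) J1sX.hKR)
    ((gen_extE _ _ (by decide)).trans top) (l := [(0, 0), (1, 0), (2, 0)]) (by decide +kernel) (by norm_num)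
/-- Letters satisfying the relators generate a copy of the group. -/
theorem sub {G : Type} [Group G] {e : ℕ → G} (h1 : IvOK e (ivOf J1s1.ivl))
    (h2 : ∀ r ∈ J1s1.R0, ev e r = 1) (h3 : ev e [0] ≠ 1) :
    IsSimpleGroup (gen e J1s1.cols) ∧ Nat.card (gen e J1s1.cols) = 175560 := by
  have := simple
  obtain ⟨f⟩ := equiv_of_simple (ub.tr (by decide) hiv hR (by rw [top, Subgroup.card_top, card.1]) h1 h2)
    hiv h1 (by decide) top ⟨[0], by decide, h3⟩
  exact ⟨f.symm.isSimpleGroup, by rw [← Nat.card_congr f.toEquiv, card.1]⟩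

end H29.J1s
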