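import Mathlib
import Cfsg.Agent.H13.K3L0
import Cfsg.Agent.H23.T1

/-!
# The configuration `2^3 · GL(3,2)`: no pairing with the natural module
-/

set_option autoImplicit false
set_option linter.unusedSectionVars false
set_option linter.unusedVariables false

namespace H29.K3L

open Cfsg H24 Subgroup H13.K3

universe u

variable {G : Type u} [Group G] [Finite G] {V Q : Subgroup G} {q r c d z : G}

set_option synthInstance.maxSize 100000 in
set_option synthInstance.maxHeartbeats 400000 in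
theorem span7 (φ : En) (h : ∀ X : En, X ^ 7 = 1 → X ≠ 1 → (φ * X).trace = 0) : φ = 0 := by
  have h1 := h !![0, 0, 1; 0, 1, 1; 1, 1, 0] (by decide) (by decide)
  have h2 := h !![0, 0, 1; 0, 1, 1; 1, 1, 1] (by decide) (by decide)
  have h3 := h !![0, 0, 1; 1, 0, 0; 0, 1, 1] (by decide) (by decide)
  have h4 := h !![0, 0, 1; 1, 0, 0; 1, 1, 0] (by decide) (by decide)
  have h5 := h !![0, 0, 1; 1, 0, 1; 0, 1, 0] (by decide) (by decide)
  have h6 := h !![0, 0, 1; 1, 1, 0; 0, 1, 0] (by decide) (by decide)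
  have h7 := h !![0, 1, 0; 0, 0, 1; 1, 0, 1] (by decide) (by decide)
  have h8 := h !![0, 1, 0; 0, 0, 1; 1, 1, 0] (by decide) (by decide)
  have h9 := h !![1, 0, 1; 0, 0, 1; 1, 1, 0] (by decide) (by decide)
  rw [Matrix.eta_fin_three φ] at h1 h2 h3 h4 h5 h6 h7 h8 h9 ⊢
  generalize φ 0 0 = a0, φ 0 1 = a1, φ 0 2 = a2, φ 1 0 = a3, φ 1 1 = a4, φ 1 2 = a5, φ 2 0 = a6,
    φ 2 1 = a7, φ 2 2 = a8 at *
  simp only [Matrix.mul_fin_three, Matrix.trace_fin_three_of, mul_zero, mul_one, add_zero,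
    zero_add] at h1 h2 h3 h4 h5 h6 h7 h8 h9
  have : a0 = 0 ∧ a1 = 0 ∧ a2 = 0 ∧ a3 = 0 ∧ a4 = 0 ∧ a5 = 0 ∧ a6 = 0 ∧ a7 = 0 ∧ a8 = 0 := by
    revert a0 a1 a2 a3 a4 a5 a6 a7 a8
    decide +kernel
  obtain ⟨rfl, rfl, rfl, rfl, rfl, rfl, rfl, rfl, rfl⟩ := this
  decide

/-- commutator -/
def cm (q c : G) : G := q * c * q⁻¹ * c⁻¹

theorem cm_Z (hq : q ∈ Q) (hc : c ∈ Bq Q) : cm q c ∈ Zq Q := hc.2.2 q hq

theorem cm_sq (hq : q ∈ Q) (hc : c ∈ Bq Q) : cm q c * cm q c = 1 := by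
  have h1 := (mem_Zq.1 (cm_Z hq hc)).2 c hc.1
  have h2 := (mem_Zq.1 hc.2.1).2 q hq
  calc cm q c * cm q c = cm q c * (cm q c * c) * c⁻¹ := by group
    _ = cm q c * (c * cm q c) * c⁻¹ := by rw [h1]
    _ = (q * (c * c)) * q⁻¹ * c⁻¹ * c⁻¹ := by unfold cm; group
    _ = 1 := by rw [h2]; group

theorem cm_z (hq : q ∈ Q) (hz : c⁻¹ * d ∈ Zq Q) : cm q d = cm q c := by
  have h1 := (mem_Zq.1 hz).2 q hq
  calc cm q d = q * c * q⁻¹ * (q * (c⁻¹ * d)) * q⁻¹ * d⁻¹ := by unfold cm; group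
    _ = _ := by rw [h1]; unfold cm; group

theorem cm_mul (hq : q ∈ Q) (hc : c ∈ Bq Q) (hd : d ∈ Bq Q) : cm q (c * d) = cm q c * cm q d := by
  have h1 := (mem_Zq.1 (cm_Z hq hd)).2 c hc.1
  calc cm q (c * d) = cm q c * (c * cm q d) * c⁻¹ := by unfold cm; group
    _ = _ := by rw [h1]; group

theorem mul_cm (hq : q ∈ Q) (hr : r ∈ Q) (hc : c ∈ Bq Q) : cm (q * r) c = cm q c * cm r c := by
  have h1 := (mem_Zq.1 (cm_Z hr hc)).2 q hq
  have h2 := (mem_Zq.1 (cm_Z hr hc)).2 _ (mem_Zq.1 (cm_Z hq hc)).1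
  calc cm (q * r) c = (q * cm r c) * q⁻¹ * cm q c := by unfold cm; group
    _ = _ := by rw [h1, h2]; group

theorem en {ι : W → G} {ψ : ↥N[V] →* En} (co : Co V ι ψ) (h2 : IsPi {2} C[V])
    (hO : ∀ u ∈ C[V], u ∈ C[C[V]] → u * u = 1 → u ∈ V)
    (f7 : ∀ x ∈ N[V], orderOf x = 7 → C[V] ⊓ C{x} = ⊥) (b : W → G) (hb : ∀ a, b a ∈ Bq C[V])
    (add : ∀ a a2, (b a * b a2)⁻¹ * b (a + a2) ∈ Zq C[V])
    (eqv : ∀ (m : ↥N[V]) a, ((m : G) * b a * (m : G)⁻¹)⁻¹ * b ((ψ m).mulVec a) ∈ Zq C[V]) :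
    ∀ a, b a ∈ Zq C[V] := by
  have hf : ∀ q : G, ∃ φ : En, q ∈ C[V] → ∀ a, ι (φ.mulVec a) = cm q (b a) := fun q => by
    by_cases hq : q ∈ C[V]
    swap
    · exact ⟨0, fun h => absurd h hq⟩
    choose f hf using fun a => (co.mem (cm q (b a))).1
      (hO _ (cm_Z hq (hb a)).1 (cm_Z hq (hb a)).2 (cm_sq hq (hb a)))
    let F : W →+ W := AddMonoidHom.mk' f fun a a2 => co.inj (by
      rw [co.add, hf, hf, hf, cm_z hq (add a a2), cm_mul hq (hb a) (hb a2)])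
    refine ⟨LinearMap.toMatrix' (F.toZModLinearMap 2), fun _ a => ?_⟩
    rw [LinearMap.toMatrix'_mulVec]
    exact hf a
  choose φ hφ using hf
  have ext : ∀ A B : En, (∀ a, ι (A.mulVec a) = ι (B.mulVec a)) → A = B := fun A B h =>
    Matrix.mulVec_injective (funext fun a => co.inj (h a))
  have i0 : ι 0 = 1 := by
    have := co.add 0 0
    rw [add_zero] at this
    exact left_eq_mul.1 this
  have hadd : ∀ q ∈ C[V], ∀ r ∈ C[V], φ (q * r) = φ q + φ r := fun q hq r hr => ext _ _ fun a => by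
    rw [Matrix.add_mulVec, co.add, hφ _ (mul_mem hq hr), hφ _ hq, hφ _ hr, mul_cm hq hr (hb a)]
  have hone : φ 1 = 0 := ext _ _ fun a => by
    rw [hφ _ (one_mem _), Matrix.zero_mulVec, i0]; simp [cm]
  have hcj : ∀ (m : ↥N[V]), ∀ q ∈ C[V], φ (m * q * (m : G)⁻¹) * ψ m = ψ m * φ q :=
    fun m q hq => ext _ _ fun a => by
      have hq' : (m : G) * q * (m : G)⁻¹ ∈ C[V] := H24.conj_mem (N_le_NC V m.2) hq
      rw [← Matrix.mulVec_mulVec, ← Matrix.mulVec_mulVec, hφ _ hq', co.act, hφ _ hq,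
        cm_z hq' (eqv m a)]
      unfold cm; group
  have hz : ∀ q ∈ C[V], φ q = 0 := fun q hq => span7 _ fun X X7 X1 => by
    obtain ⟨m, hm⟩ := co.sur X (X ^ 6) (by rw [← pow_succ', X7])
    have m7 : ((m ^ 7 : ↥N[V]) : G) ∈ C[V] := mem_C.2 fun v hv => by
      obtain ⟨a, rfl⟩ := (co.mem v).1 hv
      have := co.act (m ^ 7) a
      rw [map_pow, hm, X7, Matrix.one_mulVec] at this
      exact mul_inv_eq_iff_eq_mul.1 this.symm |>.symm
    obtain ⟨k, hk⟩ := (h2.piElt m7).exists_pow Nat.prime_two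
    have e8 : 8 ^ k = 7 * (8 ^ k / 7) + 1 := by
      have : 8 ^ k % 7 = 1 := by rw [Nat.pow_mod]; simp
      omega
    have hx : ψ (m ^ 8 ^ k) = X := by
      rw [map_pow, hm, e8, pow_succ, pow_mul, X7, one_pow, one_mul]
    have ox : orderOf ((m ^ 8 ^ k : ↥N[V]) : G) = 7 := by
      have : Fact (Nat.Prime 7) := ⟨by decide⟩
      refine orderOf_eq_prime ?_ fun e => X1 ?_
      · rw [coe_pow, ← pow_mul, mul_comm, pow_mul, ← coe_pow, ← orderOf_dvd_iff_pow_eq_one, hk]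
        exact pow_dvd_pow_of_dvd (by decide) k
      · rw [← hx, show m ^ 8 ^ k = 1 from Subtype.ext e, map_one]
    generalize m ^ 8 ^ k = x at hx ox
    have hxC := N_le_NC V x.2
    obtain ⟨r, hr, rfl⟩ := H23.TC.surj_of_inj (T := C[V]) (W := C[V])
      (fun r => r⁻¹ * (x * r * (x : G)⁻¹)) (fun t ht => mul_mem (inv_mem ht) (H24.conj_mem hxC ht))
      (fun s hs t ht e => by
        have : t * s⁻¹ ∈ C[V] ⊓ C{(x : G)} := mem_inf.2 ⟨mul_mem ht (inv_mem hs), mem_C1.2 (by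
          calc t * s⁻¹ * x = t * (s⁻¹ * (x * s * (x : G)⁻¹)) * x * s⁻¹ := by group
            _ = _ := by rw [e]; group)⟩
        rw [f7 x x.2 ox, mem_bot] at this
        exact (mul_inv_eq_one.1 this).symm) le_rfl hq
    rw [hadd _ (inv_mem hr) _ (H24.conj_mem hxC hr), add_mul, ← hx, hcj x r hr, Matrix.trace_add,
      Matrix.trace_mul_comm (ψ x), ← Matrix.trace_add, ← add_mul, ← hadd _ (inv_mem hr) _ hr,
      inv_mul_cancel, hone, zero_mul, Matrix.trace_zero]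
  intro a
  refine mem_Zq.2 ⟨(hb a).1, fun q hq => ?_⟩
  have := hφ q hq a
  rw [hz q hq, Matrix.zero_mulVec, i0] at this
  rw [← mul_inv_eq_iff_eq_mul, ← mul_inv_eq_one]
  exact this.symm

end H29.K3L
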