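import Mathlib
import Cfsg.Agent.H29.OM.B
import Cfsg.Agent.H29.OM.C0

set_option autoImplicit false
set_option maxRecDepth 100000
set_option Elab.async false
set_option linter.all false

namespace H29.OM

open H19
/-- The matrices. -/
noncomputable def σ (c : ℕ) : GL (Fin 45) (ZMod 7) := P.gl (Equiv.refl _) (lc c)
/-- The codes. -/
noncomputable def C : Codes (GL (Fin 45) (ZMod 7)) := Pok.codes (Equiv.refl _) 3
theorem hl : (∀ c, C.Rep (σ c) (lc c)) ∧ IvOK σ (ivOf ivl) :=
  Pok.letters (w := 3) hii (by decide) (lt_step (lt_step (lt_step (lt_step (lt_step (lt_step (lt_step (lt_step lt_base l0) l1) l2) l3) l4) l5) l6) l7)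
def R0 : List (List ℕ) := (G0 ++ G1)
theorem hR0 : ∀ r ∈ R0, ev σ r = 1 := (rels_append (C.rels hl.1 hl.2 r0) (C.rels hl.1 hl.2 r1))

end H29.OM
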