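import Mathlib
import Cfsg.Agent.H29.OM
import Cfsg.Agent.H29.ON
import Cfsg.Agent.H29.Cent

set_option autoImplicit false
set_option maxRecDepth 100000
set_option Elab.async false
set_option linter.all false

namespace H29.O3

open H19 OM
open scoped MatrixGroups

def u : List ℕ := [1, 2, 3, 6, 1, 2, 3, 6, 1, 2, 3, 6, 1, 2, 3, 6, 1, 2, 3, 6]
def L8 : List ℕ := [0, 1, 2, 3, 4, 5, 6, 7]
set_option synthInstance.maxSize 2000 in
theorem key : ∀ a : ZMod 7, a * a = 1 → ∀ b : ZMod 7, b * b = 1 → ∀ c : ZMod 7, c * c = 1 →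
    ∀ d : ZMod 7, d * d = 1 → ∀ e : ZMod 7, e * e = 1 → ∀ f : ZMod 7, f * f = 1 → ∀ g G : ZMod 7,
    g * G = 1 → (∀ r ∈ R0, ((r.map (nth 1 [a, b, c, d, e, f, g, G])).prod = 1)) →
    ∀ k < 8, nth 1 [a, b, c, d, e, f, g, G] k = 1 := by decide +kernel
theorem σ_ge (c : ℕ) (hc : 8 ≤ c) : σ c = 1 := by
  refine C.eq (hl.1 c) ?_
  rw [lc, nth_default _ (by change 8 ≤ c; omega)]
  exact C.rep_one
theorem ne {v w : List ℕ} (h : Nat.beq (evC P.mul P.one lc v) (evC P.mul P.one lc w) = false) :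
    ev σ v ≠ ev σ w := C.ev_ne hl.1 fun e => by
  rw [show evC P.mul P.one lc v = evC P.mul P.one lc w from e] at h
  exact absurd (H29.beq_true.2 rfl) (Bool.eq_false_iff.1 h)

section
variable {I : Type} [Fintype I] [DecidableEq I] {s : ℕ → GL I (ZMod 7)}
  (hi : IvOK s (ivOf ivl)) (hR : ∀ r ∈ R0, ev s r = 1) (h8 : ∀ c, 8 ≤ c → s c = 1)
include hi hR h8

theorem det_one (c : ℕ) : (s c).1.det = 1 := by
  let δ : GL I (ZMod 7) →* ZMod 7 := (Units.coeHom _).comp Matrix.GeneralLinearGroup.det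
  have h1 : ∀ c, δ (s c) * δ (s (ivOf ivl c)) = 1 := fun c => by
    rw [← map_mul, hi c, mul_inv_cancel, map_one]
  have h2 : ∀ c, nth 1 [δ (s 0), δ (s 1), δ (s 2), δ (s 3), δ (s 4), δ (s 5), δ (s 6), δ (s 7)] c =
      δ (s c) := fun c => by
    match c with
    | 0 | 1 | 2 | 3 | 4 | 5 | 6 | 7 => rfl
    | c + 8 => rw [h8 (c + 8) (by omega), map_one, nth_default _ (by simp)]
  have h3 := key _ (h1 0) _ (h1 1) _ (h1 2) _ (h1 3) _ (h1 4) _ (h1 5) _ (δ (s 7)) (h1 6) fun r hr => by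
    have := congrArg δ (hR r hr)
    rw [ev, map_list_prod, List.map_map, map_one] at this
    rw [funext h2]
    exact this
  by_cases hc : c < 8
  · exact (h2 c).symm.trans (h3 c hc)
  · rw [h8 c (by omega)]; simp

theorem cover' (n1 : ev s u ≠ ev s []) (n2 : ev s [0, 1] ≠ ev s [1, 0]) :
    ∃ H : Subgroup (Matrix.SpecialLinearGroup I (ZMod 7)),
      Nat.card (Subgroup.center H) = 3 ∧ Nonempty (H ⧸ Subgroup.center H ≃* ON.P.G) := by
  let τ : ℕ → Matrix.SpecialLinearGroup I (ZMod 7) := fun c => ⟨(s c).1, det_one hi hR h8 c⟩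
  have h0 : ∀ c, Matrix.SpecialLinearGroup.toGL (τ c) = s c := fun c => Units.ext rfl
  have h1 : ∀ w, Matrix.SpecialLinearGroup.toGL (ev τ w) = ev s w := fun w => by
    rw [map_ev, funext h0]
  have inj : Function.Injective (Matrix.SpecialLinearGroup.toGL :
    Matrix.SpecialLinearGroup I (ZMod 7) →* _) := Matrix.SpecialLinearGroup.toGL_injective
  have hiv : IvOK τ (ivOf ivl) := fun c => inj (by rw [map_inv, h0, h0, hi c])
  have hR' : ∀ r ∈ R0, ev τ r = 1 := fun r hr => inj (by rw [h1, hR r hr, map_one])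
  have ord : orderOf (ev τ u) = 3 := by
    have : Fact (Nat.Prime 3) := ⟨by norm_num⟩
    refine orderOf_eq_prime ?_ fun e => n1 (by rw [← h1, e, map_one, ev_nil])
    rw [← ev_powW]
    exact hR' _ (by decide +kernel)
  have rels : ∀ r ∈ ON.P.relL, ev τ r = 1 ∨ ev τ r = ev τ u := fun r hr => by
    have h1 := rels_red
      (R' := ON.P.relL.take 19 ++ (ON.P.relL.drop 19).map fun r => r ++ invW (ivOf ivl) u) hiv hR' (by decide +kernel)
    rw [← List.take_append_drop 19 ON.P.relL, List.mem_append] at hr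
    refine hr.imp (fun h => h1 r (List.mem_append_left _ h)) fun h => ?_
    have := h1 _ (List.mem_append_right _ (List.mem_map_of_mem h))
    rwa [ev_append, ev_invW hiv, mul_inv_eq_one] at this
  have := ON.simple
  have h := PData.central ON.coh ON.hg (by rw [ON.card.1]; norm_num) (e := τ) hiv hii (L := L8) (u := u)
    (by decide +kernel) (PData.gen_top ON.coh ON.hg (by decide)) (by decide +kernel)
    (comm_of_rels hiv hR' (by decide +kernel)) rels (a := 0) (b := 1) (by decide)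
    (fun e => n2 (by rw [← h1, ← h1]; congr 1; simpa using e))
  exact ⟨_, h.1.trans ord, h.2⟩
end

theorem cover : ∃ H : Subgroup (Matrix.SpecialLinearGroup (Fin 45) (ZMod 7)),
    Nat.card (Subgroup.center H) = 3 ∧ Nonempty (H ⧸ Subgroup.center H ≃* ON.P.G) :=
  cover' hl.2 hR0 σ_ge (ne (by decide +kernel)) (ne (by decide +kernel))

end H29.O3
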