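import Mathlib
import Cfsg.Agent.H29.ONS.B
import Cfsg.Agent.H29.ONS.C0

set_option autoImplicit false
set_option maxRecDepth 100000
set_option Elab.async false
set_option linter.all false

namespace H29.ONS

theorem hE0 : ∀ r ∈ E0, ev (sg nx) r = 1 :=
  rels_of_chk (k := 17) hn (by decide) hiv (lt_step (lt_step (lt_step (lt_step (lt_step (lt_step (lt_step (lt_step (lt_step (lt_step (lt_step (lt_step (lt_step (lt_step (lt_step (lt_step (lt_step lt_base e0_0) e0_1) e0_2) e0_3) e0_4) e0_5) e0_6) e0_7) e0_8) e0_9) e0_10) e0_11) e0_12) e0_13) e0_14) e0_15) e0_16)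
theorem hdef : ∀ r ∈ defRels defs 8, ev (sg nx) r = 1 :=
  rels_sub (R := E0) hE0 (by decide +kernel)
theorem map {G : Type} [Group G] {e : ℕ → G} {ρ : G →* Equiv.Perm ℕ}
    (h : ∀ c, ρ (e c) = sg (nth Net.nil ON1.nl) c) : ∀ c, ρ (extE e 8 defs c) = sg nx c :=
  map_ext hext hiv hdef rfl rfl h
def Rhz0 : List (List ℕ) := [[10, 10, 10], [12, 12, 12, 12, 12, 12], [10, 12, 10, 12], [10, 12, 12, 11, 12, 12, 11, 12, 12, 11, 13, 13, 10, 13, 13], [11, 8, 0, 9, 0], [13, 9, 0, 9, 0, 8, 0, 8, 8, 0, 9, 0, 8, 8, 8, 0], [8, 8, 8, 8, 8, 8, 8, 8, 8, 8, 8, 8, 8, 8, 8], [0, 10, 0, 10], [8, 10, 13, 10, 8, 11, 12, 11], [0, 12, 8, 8, 12, 11, 12, 12, 12, 11, 12], [0, 8, 10, 9, 9, 9, 12, 11, 8, 13, 11], [16, 16, 16, 16, 16, 16, 16, 16], [18, 18, 18, 18, 18, 18], [16, 16, 16, 18, 17, 19, 19, 19], [16, 16, 19, 17, 19, 16, 19, 19], [17, 15, 15, 0, 15, 15, 15, 15, 15], [19, 15, 15, 0, 14,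 0, 15, 15, 15], [14, 14, 14, 14, 14, 14, 14, 14, 14, 14, 14], [0, 18, 0, 18], [0, 14, 0, 14, 18, 16, 19, 17, 14, 16, 14], [0, 16, 18, 16, 19], [0, 15, 17, 0, 16, 14, 19], [0, 14, 14, 16, 18, 16, 0, 14, 16, 18], [0, 14, 14, 19, 14, 16, 18]]
theorem hz0 : ∀ r ∈ Rhz0, ev (sg nx) r = 1 :=
  rels_of_chk (k := 17) hn (by decide) hiv (lt_step (lt_step (lt_step (lt_step (lt_step (lt_step (lt_step (lt_step (lt_step (lt_step (lt_step (lt_step (lt_step (lt_step (lt_step (lt_step (lt_step lt_base hz0_0) hz0_1) hz0_2) hz0_3) hz0_4) hz0_5) hz0_6) hz0_7) hz0_8) hz0_9) hz0_10) hz0_11) hz0_12) hz0_13) hz0_14) hz0_15) hz0_16)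
def Rhz : List (List ℕ) := Rhz0
theorem hz : ∀ r ∈ Rhz, ev (sg nx) r = 1 := hz0
theorem mv : chkPt nx [0] 2 13 = true := by decide +kernel

end H29.ONS
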