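import Mathlib
import Cfsg.Agent.H29.Ext

set_option autoImplicit false
set_option maxRecDepth 100000
set_option Elab.async false
set_option linter.all false

namespace H29.YBW

noncomputable def n0 : Net := ben 5 [(nat_lit 0x4303c1),
 (nat_lit 0xb1b10),
 (nat_lit 0x8a00),
 (nat_lit 0x888),
 (nat_lit 0x8)]
noncomputable def t0 : List ℕ := [(nat_lit 0x105024),
 (nat_lit 0x180168),
 (nat_lit 0x180000),
 (nat_lit 0x200000)]
noncomputable def d0 : ℕ := (nat_lit 0x852482)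
noncomputable def n1 : Net := ben 5 [(nat_lit 0x3cc0cc),
 (nat_lit 0xb17272),
 (nat_lit 0x80404),
 (nat_lit 0x0),
 (nat_lit 0x0)]
noncomputable def t1 : List ℕ := [(nat_lit 0x808080),
 (nat_lit 0x160080),
 (nat_lit 0x28100),
 (nat_lit 0x800000)]
noncomputable def d1 : ℕ := (nat_lit 0x485854)
noncomputable def n2 : Net := ben 5 [(nat_lit 0x13cf04),
 (nat_lit 0xa1700),
 (nat_lit 0x884400),
 (nat_lit 0x80c0),
 (nat_lit 0x80)]
noncomputable def t2 : List ℕ := [(nat_lit 0x8425a2),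
 (nat_lit 0xf45b0),
 (nat_lit 0xe2800),
 (nat_lit 0xc00000)]
noncomputable def d2 : ℕ := (nat_lit 0x208208)
noncomputable def n3 : Net := ben 5 [(nat_lit 0x300300),
 (nat_lit 0xb00b0),
 (nat_lit 0x8a2208),
 (nat_lit 0x80a0),
 (nat_lit 0x80)]
noncomputable def t3 : List ℕ := [(nat_lit 0xa53252),
 (nat_lit 0x204204),
 (nat_lit 0x207c00),
 (nat_lit 0xc00000)]
noncomputable def d3 : ℕ := (nat_lit 0x120120)
def ivl : List ℕ := []
def cols : List ℕ := [0, 1, 2, 3]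
def hcols : List ℕ := [1, 2, 3]
def G0 : List (List ℕ) := [[0, 1, 0, 1, 0, 1],
 [1, 2, 1, 2, 1, 2, 1, 2],
 [2, 3, 2, 3, 2, 3],
 [0, 2, 0, 2],
 [0, 3, 0, 3],
 [1, 3, 1, 3]]
def R0 : List (List ℕ) := G0
theorem hii : ∀ c, ivOf ivl (ivOf ivl c) = c := ivOf_ivOf (by decide +kernel)
theorem der : Derives (ivOf ivl) R0 R0 := Derives.refl _ _
noncomputable def nl : List Net := [n0, n1, n2, n3]
noncomputable def T : TCData := ⟨24, 24, 5, 4, nth Net.nil nl, ivOf ivl, cols, hcols, R0,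
  nth [] [t0, t1, t2, t3], nth 0 [d0, d1, d2, d3]⟩
theorem hn : NetsOK 24 (nth Net.nil nl) := netsOK_of_all (by decide +kernel)
theorem hiv : IvOK (sg (nth Net.nil nl)) (ivOf ivl) :=
  ivOK_of_chk (k := 5) hn (by decide) (n := 4) (by decide) (by decide) (allN_true.1 (by decide +kernel))
theorem hb : T.Basic := TCData.basic_of_chk hn hiv (by decide +kernel)
theorem hG0 : ∀ r ∈ G0, ev (sg (nth Net.nil nl)) r = 1 :=
  rels_of_chk (k := 5) hn (by decide) hiv (allN_true.1 (by decide +kernel))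
noncomputable def s0 : List TCData.Step := [.pts 0 0 0 1 [2, 12],
 .pts 0 0 0 6 [19],
 .pts 0 0 0 7 [20],
 .pts 3 0 0 2 [3],
 .pts 3 0 0 8 [21],
 .pts 4 0 0 2 [6],
 .pts 4 0 0 3 [5]]
noncomputable def s1 : List TCData.Step := [.pts 0 1 0 3 [7],
 .pts 0 1 0 4 [8],
 .pts 0 1 0 9 [23],
 .pts 1 0 0 5 [15],
 .pts 5 0 0 2 [18],
 .pts 5 0 0 6 [17]]
noncomputable def s2 : List TCData.Step := [.all 1 1 0,
 .pts 2 0 0 3 [5],
 .pts 2 0 0 6 [17],
 .pts 2 0 0 7 [18],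
 .all 3 1 0]
noncomputable def s3 : List TCData.Step := [.pts 2 1 0 3 [9],
 .pts 2 1 0 7 [21],
 .all 4 1 0,
 .all 5 1 0]
theorem hR0 : ∀ r ∈ R0, ev (sg (nth Net.nil nl)) r = 1 := hG0
theorem col0 : T.ColOK 0 := TCData.colOK_of_chk (U := (T.stepsMask 0 s0 (T.mask0 0))) (V := (T.stepsMask 0 s0 (T.mask0 0))) hb (TCData.cov_stepsMask hb (by decide) s0 _ (T.cov_mask0 0)) (TCData.cov_stepsMask hb (by decide) s0 _ (T.cov_mask0 0)) (by decide +kernel)
theorem col1 : T.ColOK 1 := TCData.colOK_of_chk (U := (T.stepsMask 1 s1 (T.mask0 1))) (V := (T.stepsMask 1 s1 (T.mask0 1))) hb (TCData.cov_stepsMask hb (by decide) s1 _ (T.cov_mask0 1)) (TCData.cov_stepsMask hb (by decide) s1 _ (T.cov_mask0 1)) (by decide +kernel)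
theorem col2 : T.ColOK 2 := TCData.colOK_of_chk (U := (T.stepsMask 2 s2 (T.mask0 2))) (V := (T.stepsMask 2 s2 (T.mask0 2))) hb (TCData.cov_stepsMask hb (by decide) s2 _ (T.cov_mask0 2)) (TCData.cov_stepsMask hb (by decide) s2 _ (T.cov_mask0 2)) (by decide +kernel)
theorem col3 : T.ColOK 3 := TCData.colOK_of_chk (U := (T.stepsMask 3 s3 (T.mask0 3))) (V := (T.stepsMask 3 s3 (T.mask0 3))) hb (TCData.cov_stepsMask hb (by decide) s3 _ (T.cov_mask0 3)) (TCData.cov_stepsMask hb (by decide) s3 _ (T.cov_mask0 3)) (by decide +kernel)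
theorem ok : T.OK := ⟨hb, TCData.treeOK_of_chk hn (by decide +kernel), (List.forall_mem_cons.2 ⟨col0, (List.forall_mem_cons.2 ⟨col1, (List.forall_mem_cons.2 ⟨col2, (List.forall_mem_cons.2 ⟨col3, (fun _ h => absurd h List.not_mem_nil)⟩)⟩)⟩)⟩), der _ _ hiv hR0⟩
theorem bd {G : Type} [Group G] {e : ℕ → G} (h1 : IvOK e (ivOf ivl)) (h2 : ∀ r ∈ R0, ev e r = 1)
    {m : ℕ} (h : Bd (gen e hcols) m) : Bd (gen e cols) (24 * m) := ok.bd h1 (der G e h1 h2) h
theorem cm {G : Type} [Group G] {e : ℕ → G} (h1 : IvOK e (ivOf ivl)) (h2 : ∀ r ∈ R0, ev e r = 1)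
    (h3 : gen e cols = ⊤) {ρ : G →* Equiv.Perm ℕ} (h4 : ∀ c, ρ (e c) = sg (nth Net.nil nl) c) :
    CosetModel ρ (gen e hcols) 24 := ok.cosetModel h1 (der G e h1 h2) h3 fun c _ => h4 c

end H29.YBW
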